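import Cfsg.Agent.Lib.JComp.Side

/-!
Two components that share no 2-local subgroup.

* `Pair`; `Pair.symm`, `Pair.conj`, `Pair.zc_disjoint`, `Pair.zc_card`, `Pair.z0_central`, `Pair.z0_eq`
* `Pair.comp_unique`, `Pair.cent_le`, `Pair.same_of_center`
-/

set_option autoImplicit false

namespace Cfsg.Agent.JComp

open Cfsg.Agent.PLocal

variable {G : Type*} [Group G]

/-- The part of `Ω₁(Z(J(T)))` central in `K`. -/
def zc (T K : Subgroup G) : Subgroup G :=
  Cfsg.omegaCenterOf (Cfsg.thompsonSubgroupOf 2 T) ⊓ Subgroup.centralizer (K : Set G)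

/-- Two components normalised by `T` that share no 2-local subgroup. -/
structure Pair (T K K' : Subgroup G) : Prop where
  left : Side T K
  right : Side T K'
  no_common : ∀ N : Subgroup G, Cfsg.IsTwoLocal N → K ⊔ T ≤ N → K' ⊔ T ≤ N → False

variable [Finite G]

omit [Finite G] in
theorem omegaCenterOf_sq {X : Subgroup G} {z : G} (hz : z ∈ Cfsg.omegaCenterOf X) : z * z = 1 :=
  (mem_omegaCenterOf.mp hz).2.2

omit [Finite G] in
theorem z0_le (T : Subgroup G) : Cfsg.omegaCenterOf (Cfsg.thompsonSubgroupOf 2 T) ≤ T :=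
  (omegaCenterOf_le _).trans (jOf_le T)

theorem eq_one_or_eq_of_card_le {H : Subgroup G} (h : Nat.card H ≤ 2) {c x : G} (hc : c ∈ H) (hc1 : c ≠ 1)
    (hx : x ∈ H) : x = 1 ∨ x = c := by
  by_contra hn
  simp only [not_or] at hn
  have h1 := hn.1
  have h2 := hn.2
  have hinj : Function.Injective ![(1 : H), ⟨c, hc⟩, ⟨x, hx⟩] := by
    intro i j hij
    have hij' := congrArg Subtype.val hij
    clear hij
    fin_cases i <;> fin_cases j <;> simp at hij' ⊢ <;>
      first | exact absurd hij' (by assumption) | exact absurd hij'.symm (by assumption)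
  have := Nat.card_le_card_of_injective _ hinj
  rw [Nat.card_fin] at this
  omega

omit [Finite G] in
theorem card_sup_of_disjoint_normalizer {A B : Subgroup G} (hn : B ≤ Subgroup.normalizer (A : Set G))
    (hd : Disjoint A B) : Nat.card ↥(A ⊔ B) = Nat.card A * Nat.card B := by
  rw [← Nat.card_prod]
  refine (Nat.card_congr (Equiv.ofBijective
    (fun q : A × B => (⟨q.1.1 * q.2.1, Subgroup.mul_mem_sup q.1.2 q.2.2⟩ : ↥(A ⊔ B))) ⟨?_, ?_⟩)).symm
  · exact fun a b h => Subgroup.mul_injective_of_disjoint hd (congrArg Subtype.val h)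
  · rintro ⟨g, hg⟩
    rw [← SetLike.mem_coe, Subgroup.coe_mul_of_right_le_normalizer_left A B hn] at hg
    obtain ⟨a, ha, b, hb, rfl⟩ := hg
    exact ⟨(⟨a, ha⟩, ⟨b, hb⟩), rfl⟩

theorem mem_of_central {T A : Subgroup G} (hA : A ∈ maxElem T) {z : G} (hzT : z ∈ T)
    (hzc : ∀ a ∈ A, a * z = z * a) (hz : z * z = 1) : z ∈ A := by
  have hE := elemAb_sup hA.2.1 (elemAb_zpowers (x := z) (by rw [pow_two]; exact hz))
    (fun a ha => Subgroup.mem_centralizer_iff.mpr fun b hb => by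
      obtain ⟨n, rfl⟩ := Subgroup.mem_zpowers_iff.mp hb
      exact ((show Commute a z from hzc a ha).zpow_right n).eq.symm)
  have := hA.2.2 (A ⊔ Subgroup.zpowers z) (sup_le hA.1 (Subgroup.zpowers_le.mpr hzT)) hE
  have h := Subgroup.eq_of_le_of_card_ge (le_sup_left : A ≤ A ⊔ Subgroup.zpowers z) this
  rw [h]
  exact Subgroup.mem_sup_right (Subgroup.mem_zpowers z)

omit [Finite G] in
theorem conj_mem_centralizer {K : Subgroup G} {t x : G} (ht : t ∈ Subgroup.normalizer (K : Set G))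
    (hx : x ∈ Subgroup.centralizer (K : Set G)) : t * x * t⁻¹ ∈ Subgroup.centralizer (K : Set G) := by
  rw [Subgroup.mem_centralizer_iff] at hx ⊢
  intro k hk
  have hk' := (Subgroup.mem_normalizer_iff''.mp ht k).mp hk
  calc k * (t * x * t⁻¹) = t * ((t⁻¹ * k * t) * x) * t⁻¹ := by group
    _ = t * (x * (t⁻¹ * k * t)) * t⁻¹ := by rw [hx _ hk']
    _ = t * x * t⁻¹ * k := by group

namespace Side

variable {T K : Subgroup G} (s : Side T K)
include s

omit [Finite G] in
theorem T_le_normalizer_zc : T ≤ Subgroup.normalizer (zc T K : Set G) :=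
  Subgroup.le_normalizer_iff.mpr fun _ ht _ hx => ⟨(Subgroup.mem_normalizer_iff.mp (s.T_le_normalizer_z0 ht) _).mp hx.1,
    conj_mem_centralizer (s.norm ht) hx.2⟩

theorem zc_inf_w : zc T K ⊓ Cfsg.wOf K = ⊥ := by
  obtain ⟨y, hy, -, -, hfp⟩ := s.exists_y
  refine (Subgroup.eq_bot_iff_forall _).mpr fun x hx => hfp x hx.2 ?_
  rw [Subgroup.mem_centralizer_iff.mp hx.1.2 y hy, mul_inv_cancel_right]

/-- `Ω₁(Z(J(T)))` is the product of `zc` and its part in `W`. -/
theorem z0_split : zc T K ⊔ (Cfsg.omegaCenterOf (Cfsg.thompsonSubgroupOf 2 T) ⊓ Cfsg.wOf K) =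
    Cfsg.omegaCenterOf (Cfsg.thompsonSubgroupOf 2 T) := by
  refine le_antisymm (sup_le inf_le_left inf_le_left) ?_
  conv_lhs => rw [← (comp_split s.twoGroup s.comp).2]
  exact sup_le_sup_right (le_inf inf_le_left (inf_le_right.trans (inf_le_right.trans
    (Subgroup.centralizer_le (SetLike.coe_subset_coe.mpr le_sup_left))))) _

theorem card_z0 : Nat.card ↥(Cfsg.omegaCenterOf (Cfsg.thompsonSubgroupOf 2 T)) = 2 * Nat.card (zc T K) := by
  set Z := Cfsg.omegaCenterOf (Cfsg.thompsonSubgroupOf 2 T)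
  have hcomm : ∀ a ∈ Z, ∀ b ∈ Z, a * b = b * a := fun a ha b hb =>
    (mem_omegaCenterOf.mp hb).2.1 a (mem_omegaCenterOf.mp ha).1
  have hn : Z ⊓ Cfsg.wOf K ≤ Subgroup.normalizer (zc T K : Set G) := Subgroup.le_normalizer_iff.mpr
    fun g hg x hx => by rwa [hcomm g hg.1 x hx.1, mul_inv_cancel_right]
  have hdis : Disjoint (zc T K) (Z ⊓ Cfsg.wOf K) := disjoint_iff.mpr <| le_bot_iff.mp <| by
    rw [← s.zc_inf_w]; exact inf_le_inf_left _ inf_le_right
  have h2 := card_sup_of_disjoint_normalizer hn hdis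
  rw [s.z0_split, (comp_split s.twoGroup s.comp).1] at h2
  rw [h2, mul_comm]

end Side

namespace Pair

variable {T K K' : Subgroup G} (p : Pair T K K')
include p

omit [Finite G] in
theorem symm : Pair T K' K := ⟨p.right, p.left, fun N hN h h' => p.no_common N hN h' h⟩

omit [Finite G] in
theorem zc_disjoint : zc T K ⊓ zc T K' = ⊥ := by
  by_contra h
  have hD : IsPGroup 2 ↥(zc T K ⊓ zc T K') :=
    p.left.twoGroup.to_le ((inf_le_left.trans inf_le_left).trans (z0_le T))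
  refine p.no_common _ ⟨_, hD, h, rfl⟩ (sup_le ?_ ?_) (sup_le ?_ ?_)
  · exact (Subgroup.le_centralizer_iff.mp (inf_le_left.trans inf_le_right)).trans (Subgroup.centralizer_le_normalizer _)
  · exact (le_inf p.left.T_le_normalizer_zc p.right.T_le_normalizer_zc).trans Subgroup.inf_normalizer_le_normalizer_inf
  · exact (Subgroup.le_centralizer_iff.mp (inf_le_right.trans inf_le_right)).trans (Subgroup.centralizer_le_normalizer _)
  · exact (le_inf p.left.T_le_normalizer_zc p.right.T_le_normalizer_zc).trans Subgroup.inf_normalizer_le_normalizer_inf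

theorem zc_card : Nat.card (zc T K) ≤ 2 := by
  have hinj : Function.Injective (fun q : zc T K × zc T K' =>
      (⟨q.1.1 * q.2.1, mul_mem q.1.2.1 q.2.2.1⟩ : ↥(Cfsg.omegaCenterOf (Cfsg.thompsonSubgroupOf 2 T)))) := by
    intro a b hab
    have hab' : (a.1 : G) * a.2 = b.1 * b.2 := congrArg Subtype.val hab
    have h1 : ((b.1 : G))⁻¹ * a.1 = (b.2 : G) * (a.2 : G)⁻¹ := by
      rw [eq_mul_inv_iff_mul_eq, mul_assoc, hab', inv_mul_cancel_left]
    have h2 : ((b.1 : G))⁻¹ * a.1 ∈ zc T K ⊓ zc T K' :=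
      ⟨(zc T K).mul_mem ((zc T K).inv_mem b.1.2) a.1.2, h1 ▸ (zc T K').mul_mem b.2.2 ((zc T K').inv_mem a.2.2)⟩
    rw [p.zc_disjoint, Subgroup.mem_bot] at h2
    have e1 := (inv_mul_eq_one.mp h2).symm
    rw [e1] at hab'
    exact Prod.ext (Subtype.ext e1) (Subtype.ext (mul_left_cancel hab'))
  have h := Nat.card_le_card_of_injective _ hinj
  rw [Nat.card_prod] at h
  have e1 := p.left.card_z0
  have e2 := p.right.card_z0
  have hpos : 0 < Nat.card (zc T K) := Nat.card_pos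
  nlinarith

theorem z0_card : Nat.card ↥(Cfsg.omegaCenterOf (Cfsg.thompsonSubgroupOf 2 T)) ≤ 4 := by
  have := p.left.card_z0
  have := p.zc_card
  omega

theorem zc_fixed {t z : G} (ht : t ∈ T) (hz : z ∈ zc T K) : t * z * t⁻¹ = z := by
  by_cases hz1 : z = 1
  · subst hz1; simp
  exact (eq_one_or_eq_of_card_le p.zc_card hz hz1
    ((Subgroup.mem_normalizer_iff.mp (p.left.T_le_normalizer_zc ht) z).mp hz)).resolve_left
    fun e => hz1 (conj_eq_one_iff.mp e)

theorem z0_central {t z : G} (ht : t ∈ T) (hz : z ∈ Cfsg.omegaCenterOf (Cfsg.thompsonSubgroupOf 2 T)) :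
    t * z = z * t := by
  have hle : Cfsg.omegaCenterOf (Cfsg.thompsonSubgroupOf 2 T) ≤ Subgroup.centralizer {t} := by
    conv_lhs => rw [← p.left.z0_split]
    obtain ⟨w, -, -, -, huniq, hwf⟩ := p.left.exists_w
    refine sup_le (fun a ha => Subgroup.mem_centralizer_singleton_iff.mpr ?_)
      (fun a ha => Subgroup.mem_centralizer_singleton_iff.mpr ?_)
    · exact (mul_inv_eq_iff_eq_mul.mp (p.zc_fixed ht ha)).symm
    · rcases huniq a ha.2 ha.1 with rfl | rfl
      · simp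
      · exact (mul_inv_eq_iff_eq_mul.mp (hwf t ht)).symm
  exact (Subgroup.mem_centralizer_singleton_iff.mp (hle hz)).symm

theorem z0_eq : Cfsg.omegaCenterOf T = Cfsg.omegaCenterOf (Cfsg.thompsonSubgroupOf 2 T) := by
  refine le_antisymm (fun z hz => ?_) (fun z hz => mem_omegaCenterOf.mpr
    ⟨z0_le T hz, fun t ht => p.z0_central ht hz, omegaCenterOf_sq hz⟩)
  obtain ⟨hzT, hzc, hz2⟩ := mem_omegaCenterOf.mp hz
  obtain ⟨A, hA⟩ := exists_maxElem T
  refine mem_omegaCenterOf.mpr ⟨le_jOf hA ?_, fun j hj => hzc j (jOf_le T hj), hz2⟩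
  exact mem_of_central hA hzT (fun a ha => hzc a (hA.1 ha)) hz2

theorem cent_local {c : G} (hc : c ∈ zc T K) (hc1 : c ≠ 1) :
    Cfsg.IsTwoLocal (Subgroup.centralizer {c}) ∧ K ⊔ T ≤ Subgroup.centralizer {c} := by
  have h2 : c ^ 2 = 1 := by rw [pow_two]; exact omegaCenterOf_sq hc.1
  refine ⟨⟨Subgroup.zpowers c, (elemAb_isPGroup (elemAb_zpowers h2)), ?_, ?_⟩, sup_le (fun k hk => ?_) fun t ht => ?_⟩
  · exact fun h => hc1 (Subgroup.zpowers_eq_bot.mp h)
  · have hcard : Nat.card (Subgroup.zpowers c) ≤ 2 := by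
      rw [Nat.card_zpowers]; exact orderOf_le_of_pow_eq_one two_pos h2
    refine le_antisymm ?_ (fun g hg => ?_)
    · rw [Subgroup.zpowers_eq_closure, ← Subgroup.centralizer_closure]
      exact Subgroup.centralizer_le_normalizer _
    · rw [Subgroup.mem_centralizer_singleton_iff, ← mul_inv_eq_iff_eq_mul]
      exact (eq_one_or_eq_of_card_le hcard (Subgroup.mem_zpowers c) hc1
        ((Subgroup.mem_normalizer_iff.mp hg c).mp (Subgroup.mem_zpowers c))).resolve_left
        fun e => hc1 (conj_eq_one_iff.mp e)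
  · exact Subgroup.mem_centralizer_singleton_iff.mpr (Subgroup.mem_centralizer_iff.mp hc.2 k hk)
  · exact Subgroup.mem_centralizer_singleton_iff.mpr (p.z0_central ht hc.1)

/-- `K` is the only component of `C(c)`. -/
theorem comp_unique {c : G} (hc : c ∈ zc T K) (hc1 : c ≠ 1) {L : Subgroup G}
    (hL : Cfsg.IsJComponent T L) (hLc : L ≤ Subgroup.centralizer {c}) : L = K := by
  by_contra hne
  obtain ⟨hloc, hle⟩ := p.cent_local hc hc1
  have hs := p.left.setup hloc hle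
  obtain ⟨-, hK⟩ := hs.wOf_disjoint p.left.comp (le_sup_left.trans hle) hL hLc hne
  obtain ⟨⟨y, hy, -, -, hfp⟩, -⟩ := hs.comp_rep hL hLc
  obtain ⟨h2, -⟩ := comp_split p.left.twoGroup hL
  have : Nontrivial ↥(Cfsg.omegaCenterOf (Cfsg.thompsonSubgroupOf 2 T) ⊓ Cfsg.wOf L) :=
    Finite.one_lt_card_iff_nontrivial.mp (by omega)
  obtain ⟨⟨v, hv⟩, hv1⟩ := exists_ne (1 : ↥(Cfsg.omegaCenterOf (Cfsg.thompsonSubgroupOf 2 T) ⊓ Cfsg.wOf L))
  have hv1' : v ≠ 1 := fun e => hv1 (Subtype.ext e)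
  obtain rfl : v = c := (eq_one_or_eq_of_card_le p.zc_card hc hc1
    ⟨hv.1, Subgroup.le_centralizer_iff.mp hK hv.2⟩).resolve_left hv1'
  refine hc1 (hfp v hv.2 ?_)
  rw [Subgroup.mem_centralizer_singleton_iff.mp (hLc hy), mul_inv_cancel_right]

/-- `C(Ω₁(Z(T)))` normalises `T`. -/
theorem cent_z0_le {c : G} (hc : c ∈ zc T K) (hc1 : c ≠ 1) :
    Subgroup.centralizer (Cfsg.omegaCenterOf (Cfsg.thompsonSubgroupOf 2 T) : Set G) ≤
      Subgroup.normalizer (T : Set G) := by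
  have : Fact (Nat.Prime 2) := ⟨Nat.prime_two⟩
  obtain ⟨hloc, hle⟩ := p.cent_local hc hc1
  have hsyl := p.left.sylow _ hloc hle
  obtain ⟨S, hTS⟩ := p.left.twoGroup.exists_le_sylow
  have hQT := (p.left.setup hloc hle).q_le
  have hZ : Cfsg.omegaCenterOf (S : Subgroup G) ≤ Cfsg.omegaCenterOf (Cfsg.thompsonSubgroupOf 2 T) := by
    intro z hz
    obtain ⟨-, hzc, hz2⟩ := mem_omegaCenterOf.mp hz
    rw [← p.z0_eq]
    refine mem_omegaCenterOf.mpr ⟨hQT (p.left.hyp.cent_le hloc ?_), fun t ht => hzc t (hTS ht), hz2⟩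
    exact Subgroup.mem_centralizer_iff.mpr fun q hq => hzc q (hTS (hQT hq))
  have hT : (S : Subgroup G) ⊓ Subgroup.centralizer {c} = T :=
    eq_of_le_twoGroup hsyl (S.2.to_le inf_le_left) inf_le_right (le_inf hTS (le_sup_right.trans hle))
  intro g hg
  have hgS := p.left.hyp.cent S (Subgroup.centralizer_le (SetLike.coe_subset_coe.mpr hZ) hg)
  have hgc : g ∈ Subgroup.centralizer {c} :=
    Subgroup.mem_centralizer_singleton_iff.mpr (Subgroup.mem_centralizer_iff.mp hg c hc.1).symm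
  rw [← hT]
  exact Subgroup.inf_normalizer_le_normalizer_inf ⟨hgS, Subgroup.le_normalizer hgc⟩

/-- `C(c)` normalises `K` and `⟨K, T⟩`. -/
theorem cent_le {c g : G} (hc : c ∈ zc T K) (hc1 : c ≠ 1) (hg : g ∈ Subgroup.centralizer {c}) :
    g ∈ Subgroup.normalizer (K : Set G) ∧
      ∃ k ∈ K, k⁻¹ * g ∈ Subgroup.normalizer (T : Set G) ⊓ Subgroup.normalizer (K : Set G) := by
  obtain ⟨hloc, hle⟩ := p.cent_local hc hc1
  have hs := p.left.setup hloc hle
  have hgK : g ∈ Subgroup.normalizer (K : Set G) := by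
    obtain ⟨h1, h2⟩ := hs.conj_comp p.left.comp (le_sup_left.trans hle) hg
    exact Subgroup.mem_normalizer_iff_map_conj_eq.mpr (p.comp_unique hc hc1 h1 h2)
  refine ⟨hgK, ?_⟩
  obtain ⟨y, hy, hy3, -, hfp⟩ := p.left.exists_y
  obtain ⟨w, hw, hw1, hwz, huniq, -⟩ := p.left.exists_w
  have hcy : ∀ x ∈ Cfsg.wOf K, y * x * y⁻¹ ∈ Cfsg.wOf K := fun x hx =>
    (Subgroup.mem_normalizer_iff.mp (le_normalizer_wOf K hy) x).mp hx
  have hne : w ≠ y * w * y⁻¹ := fun e => hw1 (hfp w hw e.symm)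
  have h1 : y * w * y⁻¹ ≠ 1 := fun e => hw1 (conj_eq_one_iff.mp e)
  obtain ⟨i, hi⟩ : ∃ i : ℕ, y ^ i * w * (y ^ i)⁻¹ = g * w * g⁻¹ := by
    have hv : g * w * g⁻¹ ∈ Cfsg.wOf K :=
      (Subgroup.mem_normalizer_iff.mp (normalizer_le_normalizer_wOf K hgK) w).mp hw
    rcases p.left.w_gen hw (hcy w hw) hw1 h1 hne hv with h | h | h | h
    · exact absurd (conj_eq_one_iff.mp h) hw1
    · exact ⟨0, by simpa using h.symm⟩
    · exact ⟨1, by rw [pow_one]; exact h.symm⟩
    · refine ⟨2, h.symm ▸ ?_⟩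
      have he : y ^ 2 * w * (y ^ 2)⁻¹ = y * (y * w * y⁻¹) * y⁻¹ := by simp [pow_succ, mul_assoc]
      rw [he]
      rcases p.left.w_gen hw (hcy w hw) hw1 h1 hne (hcy _ (hcy w hw)) with h' | h' | h' | h'
      · exact absurd (conj_eq_one_iff.mp h') h1
      · exfalso
        refine hne ?_
        calc w = (y ^ 3) * w * (y ^ 3)⁻¹ := by rw [hy3]; group
          _ = y * (y * (y * w * y⁻¹) * y⁻¹) * y⁻¹ := by simp [pow_succ, mul_assoc]
          _ = y * w * y⁻¹ := by rw [h']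
      · exact absurd (hfp _ (hcy w hw) h') h1
      · exact h'
  refine ⟨y ^ i, K.pow_mem hy i, ?_, mul_mem (Subgroup.le_normalizer (K.inv_mem (K.pow_mem hy i))) hgK⟩
  refine p.cent_z0_le hc hc1 (Subgroup.mem_centralizer_iff.mpr fun z hz => ?_)
  have hhw : (y ^ i)⁻¹ * g * w = w * ((y ^ i)⁻¹ * g) := by
    rw [← mul_inv_eq_iff_eq_mul]
    calc (y ^ i)⁻¹ * g * w * ((y ^ i)⁻¹ * g)⁻¹ = (y ^ i)⁻¹ * (g * w * g⁻¹) * y ^ i := by group
      _ = w := by rw [← hi]; group
  have hhc : (y ^ i)⁻¹ * g * c = c * ((y ^ i)⁻¹ * g) :=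
    Subgroup.mem_centralizer_singleton_iff.mp
      (mul_mem (inv_mem (hle (Subgroup.mem_sup_left (K.pow_mem hy i)))) hg)
  have hle' : Cfsg.omegaCenterOf (Cfsg.thompsonSubgroupOf 2 T) ≤ Subgroup.centralizer {(y ^ i)⁻¹ * g} := by
    conv_lhs => rw [← p.left.z0_split]
    refine sup_le (fun x hx => ?_) fun x hx => ?_
    · rcases eq_one_or_eq_of_card_le p.zc_card hc hc1 hx with rfl | rfl
      · exact one_mem _
      · exact Subgroup.mem_centralizer_singleton_iff.mpr hhc.symm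
    · rcases huniq x hx.2 hx.1 with rfl | rfl
      · exact one_mem _
      · exact Subgroup.mem_centralizer_singleton_iff.mpr hhw.symm
  exact Subgroup.mem_centralizer_singleton_iff.mp (hle' hz)

/-- Two pairs with a common `c` in `zc` have the same `⟨K, T⟩`. -/
theorem same_of_center {T' L L' : Subgroup G} (q : Pair T' L L') {c : G} (hc : c ∈ zc T K)
    (hc' : c ∈ zc T' L) (hc1 : c ≠ 1) : L ⊔ T' = K ⊔ T := by
  obtain ⟨hloc, hle⟩ := p.cent_local hc hc1
  obtain ⟨-, hle'⟩ := q.cent_local hc' hc1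
  have h1 := p.left.sylow _ hloc hle
  have h2 := q.left.sylow _ hloc hle'
  obtain ⟨g, hg, hge⟩ := exists_conj_le h1 h2.2.1 h2.1
  have he : T' = T.map (MulAut.conj g).toMonoidHom := Subgroup.eq_of_le_of_card_ge hge
    ((Subgroup.card_map_of_injective (MulAut.conj g).injective).trans (card_eq_of_sylowTwo h1 h2)).le
  obtain ⟨hgK, k, hk, hn⟩ := p.cent_le hc hc1 hg
  have hK := isJComponent_conj p.left.comp g
  rw [← he, map_conj_eq_self hgK] at hK
  obtain rfl := q.comp_unique hc' hc1 hK (le_sup_left.trans hle)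
  have hgP : g ∈ Subgroup.normalizer ((K ⊔ T : Subgroup G) : Set G) := by
    rw [show g = k * (k⁻¹ * g) by group]
    refine mul_mem (Subgroup.le_normalizer (Subgroup.mem_sup_left hk))
      (Subgroup.mem_normalizer_iff_map_conj_eq.mpr ?_)
    show (K ⊔ T).map (MulAut.conj (k⁻¹ * g)).toMonoidHom = _
    rw [Subgroup.map_sup, map_conj_eq_self hn.1, map_conj_eq_self hn.2]
  rw [he, ← map_conj_eq_self hgP, Subgroup.map_sup, map_conj_eq_self hgK]

end Pair

theorem Pair.conj {T K K' : Subgroup G} (p : Pair T K K') (g : G) :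
    Pair (T.map (MulAut.conj g).toMonoidHom) (K.map (MulAut.conj g).toMonoidHom)
      (K'.map (MulAut.conj g).toMonoidHom) := by
  refine ⟨p.left.conj g, p.right.conj g, fun N hN h h' => p.no_common _ (isTwoLocal_map hN g⁻¹) ?_ ?_⟩
  · rw [← map_conj_le_iff, Subgroup.map_sup]; exact h
  · rw [← map_conj_le_iff, Subgroup.map_sup]; exact h'

end Cfsg.Agent.JComp
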