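import Cfsg.Agent.Lib.PLocal.Thompson
import Cfsg.Agent.Lib.LargeSub.PReducedOf

/-!
Sylow 2-subgroups of subgroups, Thompson subgroups, `Ω₁(Z(T))`.

* `mem_omegaCenterOf`, `mem_maxElem`, `jOf_eq_sSup`, `maxElem_mono`, `jOf_eq_of_between`, `jOf_mono`
* `IsSylowTwoIn.*` facts: `exists_sylow`, `sylowTwo_conj`, `exists_conj_le`, `exists_sylowTwo_ge`, `eq_of_le`
* `IsJComponent` depends only on `J(T)` and transports under conjugation
-/

set_option autoImplicit false

namespace Cfsg.Agent.JComp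

open Cfsg.Agent.PLocal

variable {G : Type*} [Group G]

theorem mem_omegaCenterOf {T : Subgroup G} {x : G} :
    x ∈ Cfsg.omegaCenterOf T ↔ x ∈ T ∧ (∀ t ∈ T, t * x = x * t) ∧ x * x = 1 := by
  rw [Cfsg.omegaCenterOf, Cfsg.Agent.PReduced.mem_omegaOne_center, pow_two]

theorem omegaCenterOf_le (T : Subgroup G) : Cfsg.omegaCenterOf T ≤ T :=
  fun _ hx => (mem_omegaCenterOf.mp hx).1

/-- The elementary abelian 2-subgroups of largest order of `T`. -/
def maxElem (T : Subgroup G) : Set (Subgroup G) := maxIn (elemAb 2) T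

theorem mem_maxElem {T A : Subgroup G} : A ∈ maxElem T ↔
    A ≤ T ∧ Cfsg.IsElementaryAbelian 2 A ∧
      ∀ B, B ≤ T → Cfsg.IsElementaryAbelian 2 B → Nat.card B ≤ Nat.card A := Iff.rfl

theorem exists_maxElem [Finite G] (T : Subgroup G) : ∃ A, A ∈ maxElem T :=
  exists_maxIn (Q := elemAb 2) elemAb_bot T

theorem jOf_eq_sSup (T : Subgroup G) : Cfsg.thompsonSubgroupOf 2 T = sSup (maxElem T) :=
  thompsonSubgroupOf_eq T

theorem le_jOf {T A : Subgroup G} (hA : A ∈ maxElem T) : A ≤ Cfsg.thompsonSubgroupOf 2 T := by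
  rw [jOf_eq_sSup]; exact le_sSup hA

theorem jOf_le (T : Subgroup G) : Cfsg.thompsonSubgroupOf 2 T ≤ T := thompsonSubgroupOf_le T

theorem jOf_le_iff {T H : Subgroup G} :
    Cfsg.thompsonSubgroupOf 2 T ≤ H ↔ ∀ A ∈ maxElem T, A ≤ H := by
  rw [jOf_eq_sSup, sSup_le_iff]

theorem elem_mul_self {A : Subgroup G} (hA : Cfsg.IsElementaryAbelian 2 A) {a : G} (ha : a ∈ A) :
    a * a = 1 := by rw [← pow_two]; exact hA.2 a ha

theorem elem_comm {A : Subgroup G} (hA : Cfsg.IsElementaryAbelian 2 A) {a b : G} (ha : a ∈ A)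
    (hb : b ∈ A) : a * b = b * a :=
  Cfsg.Agent.PReduced.commute_of_isMulCommutative hA.1 ha hb

variable [Finite G]

theorem maxElem_eq_of_between {T S : Subgroup G} (hJ : Cfsg.thompsonSubgroupOf 2 T ≤ S) (hS : S ≤ T) :
    maxElem S = maxElem T := by
  obtain ⟨A, hA⟩ := exists_maxElem T
  refine Set.Subset.antisymm (maxIn_subset hA ((le_jOf hA).trans hJ) hS) fun B hB => ?_
  exact maxIn_of_mem_le hB ((le_jOf hB).trans hJ) hS

theorem jOf_eq_of_between {T S : Subgroup G} (hJ : Cfsg.thompsonSubgroupOf 2 T ≤ S) (hS : S ≤ T) :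
    Cfsg.thompsonSubgroupOf 2 S = Cfsg.thompsonSubgroupOf 2 T := by
  rw [jOf_eq_sSup, jOf_eq_sSup, maxElem_eq_of_between hJ hS]

theorem maxElemAbelianOrder_eq {T A : Subgroup G} (hA : A ∈ maxElem T) :
    Cfsg.maxElemAbelianOrder T = Nat.card A := by
  have h : (fun B : Subgroup ↥T => Nat.card ↥B) '' Cfsg.maxElementaryAbelianSubgroups 2 ↥T = {Nat.card A} := by
    ext n
    constructor
    · rintro ⟨B, hB, rfl⟩
      have hm : B.map T.subtype ∈ maxElem T := by
        have := Set.mem_image_of_mem (fun C : Subgroup ↥T => C.map T.subtype) hB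
        rwa [image_maxElemAb] at this
      rw [Set.mem_singleton_iff]
      show Nat.card B = Nat.card A
      rw [← Subgroup.card_map_of_injective (K := B) T.subtype_injective]
      exact le_antisymm (hA.2.2 _ hm.1 hm.2.1) (hm.2.2 _ hA.1 hA.2.1)
    · intro hn
      rw [Set.mem_singleton_iff] at hn
      have hA' : A ∈ (fun C : Subgroup ↥T => C.map T.subtype) '' Cfsg.maxElementaryAbelianSubgroups 2 ↥T := by
        rw [image_maxElemAb]; exact hA
      obtain ⟨B, hB, rfl⟩ := hA'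
      exact ⟨B, hB, by rw [hn]; exact (Subgroup.card_map_of_injective T.subtype_injective).symm⟩
  rw [Cfsg.maxElemAbelianOrder, h, csSup_singleton]

/-- A 2-group containing `J(T)` with no larger elementary abelian subgroups has `J` above `J(T)`. -/
theorem jOf_mono {T S : Subgroup G} (hJ : Cfsg.thompsonSubgroupOf 2 T ≤ S) :
    Cfsg.maxElemAbelianOrder T ≤ Cfsg.maxElemAbelianOrder S ∧
      (Cfsg.maxElemAbelianOrder S ≤ Cfsg.maxElemAbelianOrder T →
        Cfsg.thompsonSubgroupOf 2 T ≤ Cfsg.thompsonSubgroupOf 2 S) := by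
  obtain ⟨A, hA⟩ := exists_maxElem T
  obtain ⟨B, hB⟩ := exists_maxElem S
  rw [maxElemAbelianOrder_eq hA, maxElemAbelianOrder_eq hB]
  refine ⟨hB.2.2 A ((le_jOf hA).trans hJ) hA.2.1, fun h => jOf_le_iff.mpr fun C hC => le_jOf ?_⟩
  exact ⟨(le_jOf hC).trans hJ, hC.2.1, fun D hD hDe =>
    (hB.2.2 D hD hDe).trans (h.trans (hC.2.2 A hA.1 hA.2.1))⟩

/-! ### Sylow 2-subgroups of subgroups -/

theorem exists_sylow {T L : Subgroup G} (h : Cfsg.IsSylowTwoIn T L) :
    ∃ P : Sylow 2 ↥L, (P : Subgroup ↥L).map L.subtype = T := by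
  haveI : Fact (Nat.Prime 2) := ⟨Nat.prime_two⟩
  have hidx : ¬ 2 ∣ (T.subgroupOf L).index := fun h2 => (Nat.not_even_iff_odd.mpr h.2.2) (even_iff_two_dvd.mpr h2)
  exact ⟨(h.2.1.comap_subtype (K := L)).toSylow hidx, Subgroup.map_subgroupOf_eq_of_le h.1⟩

theorem sylow_isSylowTwoIn {L : Subgroup G} (P : Sylow 2 ↥L) :
    Cfsg.IsSylowTwoIn ((P : Subgroup ↥L).map L.subtype) L := by
  haveI : Fact (Nat.Prime 2) := ⟨Nat.prime_two⟩
  refine ⟨Subgroup.map_subtype_le _, P.isPGroup'.map _, ?_⟩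
  rw [Subgroup.relIndex, Subgroup.subgroupOf, Subgroup.comap_map_eq_self_of_injective L.subtype_injective,
    ← Nat.not_even_iff_odd, even_iff_two_dvd]
  exact P.not_dvd_index

theorem sylowTwo_conj {T L : Subgroup G} (h : Cfsg.IsSylowTwoIn T L) (g : G) :
    Cfsg.IsSylowTwoIn (T.map (MulAut.conj g).toMonoidHom) (L.map (MulAut.conj g).toMonoidHom) :=
  ⟨Subgroup.map_mono h.1, h.2.1.map _,
    by rw [Subgroup.relIndex_map_map_of_injective _ _ (MulAut.conj g).injective]; exact h.2.2⟩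

omit [Finite G] in
theorem map_conj_eq_self {L : Subgroup G} {g : G} (hg : g ∈ Subgroup.normalizer (L : Set G)) :
    L.map (MulAut.conj g).toMonoidHom = L :=
  Subgroup.mem_normalizer_iff_map_conj_eq.mp hg

theorem sylowTwo_conj' {T L : Subgroup G} (h : Cfsg.IsSylowTwoIn T L) {g : G} (hg : g ∈ L) :
    Cfsg.IsSylowTwoIn (T.map (MulAut.conj g).toMonoidHom) L := by
  have := sylowTwo_conj h g
  rwa [map_conj_eq_self (Subgroup.le_normalizer hg)] at this

theorem exists_conj_le {T L U : Subgroup G} (h : Cfsg.IsSylowTwoIn T L) (hU : IsPGroup 2 U) (hUL : U ≤ L) :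
    ∃ g ∈ L, U ≤ T.map (MulAut.conj g).toMonoidHom := by
  haveI : Fact (Nat.Prime 2) := ⟨Nat.prime_two⟩
  obtain ⟨P, hP⟩ := exists_sylow h
  obtain ⟨R, hR⟩ := (hU.comap_subtype (K := L)).exists_le_sylow
  obtain ⟨g, rfl⟩ := MulAction.exists_smul_eq ↥L P R
  refine ⟨g, g.2, fun u hu => ?_⟩
  have h1 : (⟨u, hUL hu⟩ : ↥L) ∈ ((g • P : Sylow 2 ↥L) : Subgroup ↥L) := hR hu
  rw [Sylow.coe_subgroup_smul] at h1
  obtain ⟨p, hp, hpu⟩ := h1
  exact ⟨(p : G), hP ▸ Subgroup.mem_map_of_mem _ hp, congrArg Subtype.val hpu⟩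

theorem exists_sylowTwo_ge {L U : Subgroup G} (hU : IsPGroup 2 U) (hUL : U ≤ L) :
    ∃ T, Cfsg.IsSylowTwoIn T L ∧ U ≤ T := by
  haveI : Fact (Nat.Prime 2) := ⟨Nat.prime_two⟩
  obtain ⟨R, hR⟩ := (hU.comap_subtype (K := L)).exists_le_sylow
  exact ⟨_, sylow_isSylowTwoIn R, fun u hu => ⟨⟨u, hUL hu⟩, hR hu, rfl⟩⟩

theorem card_eq_of_sylowTwo {T T' L : Subgroup G} (h : Cfsg.IsSylowTwoIn T L) (h' : Cfsg.IsSylowTwoIn T' L) :
    Nat.card T = Nat.card T' := by
  haveI : Fact (Nat.Prime 2) := ⟨Nat.prime_two⟩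
  obtain ⟨P, rfl⟩ := exists_sylow h
  obtain ⟨P', rfl⟩ := exists_sylow h'
  rw [Subgroup.card_map_of_injective L.subtype_injective, Subgroup.card_map_of_injective L.subtype_injective]
  exact Nat.card_congr (Sylow.equiv P P').toEquiv

theorem eq_of_le_twoGroup {T L U : Subgroup G} (h : Cfsg.IsSylowTwoIn T L) (hU : IsPGroup 2 U) (hUL : U ≤ L)
    (hTU : T ≤ U) : U = T := by
  obtain ⟨g, -, hle⟩ := exists_conj_le h hU hUL
  refine (Subgroup.eq_of_le_of_card_ge hTU ?_).symm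
  have := Subgroup.card_dvd_of_le hle
  rw [Subgroup.card_map_of_injective (MulAut.conj g).injective] at this
  exact Nat.le_of_dvd Nat.card_pos this

omit [Finite G] in
theorem jOf_conj (g : G) (T : Subgroup G) :
    Cfsg.thompsonSubgroupOf 2 (T.map (MulAut.conj g).toMonoidHom) =
      (Cfsg.thompsonSubgroupOf 2 T).map (MulAut.conj g).toMonoidHom :=
  (map_conj_thompsonSubgroupOf g T).symm

omit [Finite G] in
theorem map_map_conj (a b : G) (H : Subgroup G) :
    (H.map (MulAut.conj b).toMonoidHom).map (MulAut.conj a).toMonoidHom =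
      H.map (MulAut.conj (a * b)).toMonoidHom := by
  rw [Subgroup.map_map]
  congr 1
  ext x
  simp [mul_assoc]

omit [Finite G] in
theorem map_conj_one (H : Subgroup G) : H.map (MulAut.conj (1 : G)).toMonoidHom = H := by
  ext x; simp

omit [Finite G] in
theorem isJComponent_congr {T T' K : Subgroup G}
    (hJ : Cfsg.thompsonSubgroupOf 2 T = Cfsg.thompsonSubgroupOf 2 T') (hK : Cfsg.IsJComponent T K) :
    Cfsg.IsJComponent T' K := by
  unfold Cfsg.IsJComponent at *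
  rw [← hJ]
  exact hK

theorem pCoreOf_conj (g : G) (K : Subgroup G) :
    Cfsg.pCoreOf 2 (K.map (MulAut.conj g).toMonoidHom) =
      (Cfsg.pCoreOf 2 K).map (MulAut.conj g).toMonoidHom := by
  have key : ∀ (a : G) (H : Subgroup G),
      (Cfsg.pCoreOf 2 H).map (MulAut.conj a).toMonoidHom ≤ Cfsg.pCoreOf 2 (H.map (MulAut.conj a).toMonoidHom) := by
    intro a H
    rintro _ ⟨_, ⟨y, hy, rfl⟩, rfl⟩
    refine ⟨⟨_, Subgroup.mem_map_of_mem _ y.2⟩, ?_, rfl⟩
    let e : ↥H ≃* ↥(H.map (MulAut.conj a).toMonoidHom) :=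
      H.equivMapOfInjective _ (MulAut.conj a).injective
    have h := Cfsg.Agent.PReduced.le_pCore (p := 2)
      (Subgroup.Normal.map (Cfsg.Agent.PReduced.pCore_normal 2 ↥H) e.toMonoidHom e.surjective)
      ((Cfsg.Agent.PReduced.isPGroup_pCore (G := ↥H) 2).map e.toMonoidHom)
    exact h ⟨y, hy, rfl⟩
  refine le_antisymm ?_ (key g K)
  intro x hx
  have h1 := key g⁻¹ _ (Subgroup.mem_map_of_mem _ hx)
  rw [map_map_conj, inv_mul_cancel, map_conj_one] at h1
  exact ⟨_, h1, by simp [mul_assoc]⟩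

end Cfsg.Agent.JComp
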