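import Cfsg.Agent.Lib.JComp.Outside

/-!
`Ω₁(Z(S))` against `Ω₁(Z(J(T)))`.

* `four_cases`, `Straddle.center_cases`
-/

set_option autoImplicit false

namespace Cfsg.Agent.JComp

open Cfsg.Agent.PLocal

variable {G : Type*} [Group G] [Finite G]

/-- Two elements generate a group of order 4 and exponent 2. -/
theorem four_cases {H : Subgroup G} (h4 : Nat.card H ≤ 4) (hsq : ∀ x ∈ H, x * x = 1) {u v : G} (hu : u ∈ H)
    (hv : v ∈ H) (h1 : u ≠ 1) (h2 : v ≠ 1) (h3 : u ≠ v) {x : G} (hx : x ∈ H) :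
    x = 1 ∨ x = u ∨ x = v ∨ x = u * v := by
  by_contra h
  simp only [not_or] at h
  obtain ⟨m1, m2, m3, m4⟩ := h
  have n3 : u * v ≠ 1 := fun h => h3 (by
    rw [mul_eq_one_iff_eq_inv.mp h, inv_eq_of_mul_eq_one_right (hsq v hv)])
  have n4 : u * v ≠ u := fun h => h2 (mul_eq_left.mp h)
  have n5 : u * v ≠ v := fun h => h1 (mul_eq_right.mp h)
  have hinj : Function.Injective
      ![(⟨1, one_mem _⟩ : H), ⟨u, hu⟩, ⟨v, hv⟩, ⟨u * v, mul_mem hu hv⟩, ⟨x, hx⟩] := by
    intro i j hij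
    have hij' := congrArg Subtype.val hij
    clear hij
    fin_cases i <;> fin_cases j <;> simp at hij' ⊢ <;>
      first | exact absurd hij' (by assumption) | exact absurd hij'.symm (by assumption)
  have := Nat.card_le_card_of_injective _ hinj
  rw [Nat.card_fin] at this
  omega

theorem omegaCenterOf_sylow_ne_bot (S : Sylow 2 G) (hS : (S : Subgroup G) ≠ ⊥) :
    Cfsg.omegaCenterOf (S : Subgroup G) ≠ ⊥ := by
  have : Fact (Nat.Prime 2) := ⟨Nat.prime_two⟩
  have : Nontrivial ↥(S : Subgroup G) := (Subgroup.nontrivial_iff_ne_bot _).mpr hS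
  have : Nontrivial (Subgroup.center ↥(S : Subgroup G)) := S.2.center_nontrivial
  obtain ⟨n, hn, hcard⟩ := (S.2.to_subgroup (Subgroup.center ↥(S : Subgroup G))).nontrivial_iff_card.mp inferInstance
  obtain ⟨z, hz⟩ := exists_prime_orderOf_dvd_card' (G := ↥(Subgroup.center ↥(S : Subgroup G))) 2
    (hcard ▸ dvd_pow_self 2 hn.ne')
  have hzo : orderOf (z : G) = 2 := by rw [Subgroup.orderOf_coe, Subgroup.orderOf_coe, hz]
  have hz2 : ((z : ↥(S : Subgroup G)) : G) * z = 1 := by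
    have := pow_orderOf_eq_one ((z : ↥(S : Subgroup G)) : G)
    rwa [hzo, pow_two] at this
  intro h
  have hm : ((z : ↥(S : Subgroup G)) : G) ∈ Cfsg.omegaCenterOf (S : Subgroup G) :=
    mem_omegaCenterOf.mpr ⟨z.1.2, fun s hs => congrArg Subtype.val (Subgroup.mem_center_iff.1 z.2 ⟨s, hs⟩), hz2⟩
  rw [h, Subgroup.mem_bot] at hm
  rw [hm, orderOf_one] at hzo
  omega

namespace Straddle

variable {S : Sylow 2 G} {M T : Subgroup G} (h : Straddle S M T)
include h

theorem center_cases (hO : Cfsg.pCore 2 G = ⊥) {K : Subgroup G} (hK : K ∈ Cfsg.jComponentsOutside M T)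
    (hTS : T ≤ (S : Subgroup G)) :
    let Z := Cfsg.omegaCenterOf (S : Subgroup G)
    let Z₀ := Cfsg.omegaCenterOf (Cfsg.thompsonSubgroupOf 2 T)
    (Z = Z₀ ∧ Nat.card Z₀ = 2) ∨ (Z = Z₀ ∧ Nat.card Z₀ = 4 ∧ T = (S : Subgroup G)) ∨
      (Cfsg.omegaCenterOf T = Z₀ ∧ Nat.card Z₀ = 4 ∧
        (uMax T K ⊓ Subgroup.centralizer (Z₀ : Set G)).relIndex (Subgroup.normalizer (Z₀ : Set G)) = 2) := by
  intro Z Z₀
  obtain ⟨K₂, p, -, -⟩ := h.exists_pair_with hO hK
  obtain ⟨-, hsyl, hs, -⟩ := h.outside_data hK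
  have hmax := h.uMax_max hK.1.1 hK.2.1
  have hZle : Z ≤ Z₀ := fun z hz => by
    obtain ⟨-, hzc, hz2⟩ := mem_omegaCenterOf.mp hz
    show z ∈ Cfsg.omegaCenterOf (Cfsg.thompsonSubgroupOf 2 T)
    rw [← p.z0_eq]
    refine mem_omegaCenterOf.mpr ⟨hs.q_le (h.hyp.cent_le hmax.1.1 ?_), fun t ht => hzc t (hTS ht), hz2⟩
    exact Subgroup.mem_centralizer_iff.mpr fun q hq => hzc q (hTS (hs.q_le hq))
  have hZ1 : Z ≠ ⊥ := omegaCenterOf_sylow_ne_bot S fun e => h.ne_bot (le_bot_iff.mp (e ▸ hTS))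
  have hcard := p.left.card_z0
  have h2 := p.zc_card
  have hpos : 0 < Nat.card (zc T K) := Nat.card_pos
  by_cases hz1 : Nat.card (zc T K) = 1
  · refine Or.inl ⟨?_, by show Nat.card ↥(Cfsg.omegaCenterOf _) = 2; omega⟩
    refine Subgroup.eq_of_le_of_card_ge hZle ?_
    have : Nontrivial Z := (Subgroup.nontrivial_iff_ne_bot _).mpr hZ1
    have : 2 ≤ Nat.card Z := Finite.one_lt_card
    show Nat.card ↥(Cfsg.omegaCenterOf _) ≤ _
    omega
  have h4 : Nat.card Z₀ = 4 := by show Nat.card ↥(Cfsg.omegaCenterOf _) = 4; omega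
  by_cases hTeq : T = S
  · refine Or.inr (Or.inl ⟨?_, h4, hTeq⟩)
    show Cfsg.omegaCenterOf (S : Subgroup G) = _
    rw [← hTeq, p.z0_eq]
  refine Or.inr (Or.inr ⟨p.z0_eq, h4, ?_⟩)
  have : Nontrivial (zc T K) := Finite.one_lt_card_iff_nontrivial.mp (by omega)
  obtain ⟨⟨c, hc⟩, hc1⟩ := exists_ne (1 : zc T K)
  have hc1' : c ≠ 1 := fun e => hc1 (Subtype.ext e)
  obtain ⟨hloc, hle⟩ := p.cent_local hc hc1'
  have hCle : Subgroup.centralizer {c} ≤ uMax T K :=
    h.le_uMax hK.1.1 hK.2.1 hloc ((sup_le_sup_left (jOf_le T) K).trans hle)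
  have hCZ : Subgroup.centralizer (Z₀ : Set G) ≤ Subgroup.centralizer {c} :=
    Subgroup.centralizer_le (Set.singleton_subset_iff.mpr hc.1)
  rw [inf_eq_right.mpr (hCZ.trans hCle)]
  obtain ⟨t, htS, htN, htL⟩ := exists_mem_normalizer_not_mem hsyl hTS hTeq
  have htZ : t ∈ Subgroup.normalizer (Z₀ : Set G) := by
    refine Subgroup.mem_normalizer_iff_map_conj_eq.mpr ?_
    show (Cfsg.omegaCenterOf (Cfsg.thompsonSubgroupOf 2 T)).map (MulAut.conj t).toMonoidHom = _
    rw [← omegaCenterOf_conj, ← jOf_conj, map_conj_eq_self htN]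
  obtain ⟨z, hz, hz1'⟩ : ∃ z ∈ Z, z ≠ 1 := by
    by_contra hno
    push Not at hno
    exact hZ1 ((Subgroup.eq_bot_iff_forall _).mpr hno)
  have hzS : ∀ s ∈ (S : Subgroup G), s * z = z * s := (mem_omegaCenterOf.mp hz).2.1
  have hsq : ∀ x ∈ Z₀, x * x = 1 := fun x hx => omegaCenterOf_sq hx
  have htc : t * c * t⁻¹ ≠ c := fun e =>
    htL (hCle (Subgroup.mem_centralizer_singleton_iff.mpr (mul_inv_eq_iff_eq_mul.mp e)))
  have hzc : z ≠ c := fun e => htc (mul_inv_eq_iff_eq_mul.mpr (e ▸ hzS t htS))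
  -- no element of `N(Z₀)` moves `z` to `c`
  have hnot : ∀ g : G, g * z * g⁻¹ ≠ c := by
    intro g hg
    have hR : (S : Subgroup G).map (MulAut.conj g).toMonoidHom ≤ Subgroup.centralizer {c} := by
      rintro _ ⟨s, hs, rfl⟩
      refine Subgroup.mem_centralizer_singleton_iff.mpr ?_
      show g * s * g⁻¹ * c = c * (g * s * g⁻¹)
      rw [← hg, conj_mul, conj_mul, hzS s hs]
    obtain ⟨k, -, hk⟩ := exists_conj_le (p.left.sylow _ hloc hle) (S.2.map _) hR
    have hcT := Subgroup.card_le_of_le hk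
    rw [Subgroup.card_map_of_injective (MulAut.conj g).injective,
      Subgroup.card_map_of_injective (MulAut.conj k).injective] at hcT
    exact hTeq (Subgroup.eq_of_le_of_card_ge hTS hcT)
  set c' := t * c * t⁻¹ with hc'
  have hc'Z : c' ∈ Z₀ := (Subgroup.mem_normalizer_iff.mp htZ c).mp hc.1
  have hc'1 : c' ≠ 1 := fun e => hc1' (conj_eq_one_iff.mp e)
  have hzc' : z ≠ c' := fun e => by
    refine hzc (mul_left_cancel (mul_right_cancel (b := t⁻¹) (?_ : t * z * t⁻¹ = t * c * t⁻¹)))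
    rw [hzS t htS, mul_inv_cancel_right, e]
  have hall : ∀ {v : G}, v ∈ Z₀ → v = 1 ∨ v = z ∨ v = c ∨ v = c' := by
    intro v hv
    have h' := @four_cases G _ _ Z₀ h4.le hsq z c (hZle hz) hc.1 hz1' hc1' hzc
    rcases h' hc'Z with e | e | e | e
    · exact absurd e hc'1
    · exact absurd e.symm hzc'
    · exact absurd e htc
    · rw [e]; exact h' hv
  have hfix : ∀ g ∈ Subgroup.normalizer (Z₀ : Set G), g * z * g⁻¹ = z := by
    intro g hg
    rcases hall ((Subgroup.mem_normalizer_iff.mp hg z).mp (hZle hz)) with e | e | e | e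
    · exact absurd (conj_eq_one_iff.mp e) hz1'
    · exact e
    · exact absurd e (hnot g)
    · exfalso
      refine hnot (t⁻¹ * g) ?_
      calc t⁻¹ * g * z * (t⁻¹ * g)⁻¹ = t⁻¹ * (g * z * g⁻¹) * t := by group
        _ = c := by rw [e, hc']; group
  have hswap : ∀ g ∈ Subgroup.normalizer (Z₀ : Set G), ∀ u ∈ Z₀, u ≠ 1 → u ≠ z → g * u * g⁻¹ = c ∨ g * u * g⁻¹ = c' := by
    intro g hg u hu hu1 huz
    rcases hall ((Subgroup.mem_normalizer_iff.mp hg u).mp hu) with e | e | e | e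
    · exact absurd (conj_eq_one_iff.mp e) hu1
    · exact absurd (mul_left_cancel (mul_right_cancel (e.trans (hfix g hg).symm))) huz
    · exact Or.inl e
    · exact Or.inr e
  have hcent : ∀ g ∈ Subgroup.normalizer (Z₀ : Set G), g * c * g⁻¹ = c → g ∈ Subgroup.centralizer (Z₀ : Set G) := by
    intro g hg he
    refine Subgroup.mem_centralizer_iff.mpr fun v hv => (mul_inv_eq_iff_eq_mul.mp ?_).symm
    rcases @four_cases G _ _ Z₀ h4.le hsq z c (hZle hz) hc.1 hz1' hc1' hzc v hv with e | e | e | e <;> rw [e]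
    · simp
    · exact hfix g hg
    · exact he
    · rw [← conj_mul, hfix g hg, he]
  have hN2 := card_eq_two_mul (A := Subgroup.centralizer (Z₀ : Set G)) (Subgroup.centralizer_le_normalizer _) htZ
    (fun hh => htL (hCle (hCZ hh))) fun g hg => by
      rcases hswap g hg c hc.1 hc1' (Ne.symm hzc) with e | e
      · exact Or.inl (hcent g hg e)
      · refine Or.inr (hcent _ (mul_mem hg htZ) ?_)
        rcases hswap g hg c' hc'Z hc'1 (Ne.symm hzc') with e' | e'
        · calc g * t * c * (g * t)⁻¹ = g * c' * g⁻¹ := by rw [hc']; group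
            _ = c := e'
        · exact absurd (mul_left_cancel (mul_right_cancel (e'.trans e.symm))) htc
  have hh := Subgroup.relIndex_mul_relIndex ⊥ (Subgroup.centralizer (Z₀ : Set G)) (Subgroup.normalizer (Z₀ : Set G))
    bot_le (Subgroup.centralizer_le_normalizer _)
  rw [Subgroup.relIndex_bot_left, Subgroup.relIndex_bot_left, hN2, mul_comm 2] at hh
  exact Nat.eq_of_mul_eq_mul_left Nat.card_pos hh

end Straddle

end Cfsg.Agent.JComp
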