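import Cfsg.Agent.Lib.JComp.Small

/-!
Commutators of four-groups of components.

* `mem_map_conj`; `Side.z_unique`, `cross_comm`, `Pair.central_of_move`
-/

set_option autoImplicit false

namespace Cfsg.Agent.JComp

open Cfsg.Agent.PLocal

variable {G : Type*} [Group G]

theorem mem_map_conj {H : Subgroup G} {g x : G} :
    x ∈ H.map (MulAut.conj g).toMonoidHom ↔ g⁻¹ * x * g ∈ H := by
  constructor
  · rintro ⟨v, hv, rfl⟩
    simpa [mul_assoc] using hv
  · exact fun h => ⟨_, h, by simp [mul_assoc]⟩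

theorem conj_mem_map {H : Subgroup G} {g x : G} (h : x ∈ H) :
    g * x * g⁻¹ ∈ H.map (MulAut.conj g).toMonoidHom := ⟨x, h, rfl⟩

variable [Finite G]

theorem Side.z_unique {T K : Subgroup G} (s : Side T K) {v v' : G} (hv : v ∈ Cfsg.wOf K) (hv1 : v ≠ 1)
    (hvz : v ∈ Cfsg.omegaCenterOf (Cfsg.thompsonSubgroupOf 2 T)) (hv' : v' ∈ Cfsg.wOf K) (hv'1 : v' ≠ 1)
    (hv'z : v' ∈ Cfsg.omegaCenterOf (Cfsg.thompsonSubgroupOf 2 T)) : v = v' := by
  obtain ⟨w, -, -, -, huniq, -⟩ := s.exists_w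
  exact ((huniq v hv hvz).resolve_left hv1).trans ((huniq v' hv' hv'z).resolve_left hv'1).symm

/-- Noncommuting elements of two four-groups have the common fixed point as commutator. -/
theorem cross_comm {T K T' K' : Subgroup G} (s : Side T K) (s' : Side T' K') {a b : G}
    (ha : a ∈ Cfsg.wOf K) (hb : b ∈ Cfsg.wOf K') (haT : a ∈ T') (hbT : b ∈ T) (hab : a * b ≠ b * a) :
    ∃ w, w ≠ 1 ∧ w ∈ Cfsg.wOf K ∧ w ∈ Cfsg.wOf K' ∧
      w ∈ Cfsg.omegaCenterOf (Cfsg.thompsonSubgroupOf 2 T) ∧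
      w ∈ Cfsg.omegaCenterOf (Cfsg.thompsonSubgroupOf 2 T') ∧ a * b * a⁻¹ * b⁻¹ = w := by
  obtain ⟨w, hw, hw1, hwz, -, hwf⟩ := s.exists_w
  obtain ⟨w', hw', hw'1, hwz', -, hwf'⟩ := s'.exists_w
  have h1 : b * a * b⁻¹ = a * w := (s.comm_mem hbT ha hw hw1 hwz).resolve_left
    fun e => hab (mul_inv_eq_iff_eq_mul.mp e).symm
  have h2 : a * b * a⁻¹ = b * w' := (s'.comm_mem haT hb hw' hw'1 hwz').resolve_left
    fun e => hab (mul_inv_eq_iff_eq_mul.mp e)
  have e1 : a * b * a⁻¹ * b⁻¹ = w' := by rw [h2]; exact hwf' b (s'.w_le_T hb)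
  have e2 : a * b * a⁻¹ * b⁻¹ = w := by
    calc a * b * a⁻¹ * b⁻¹ = a * (b * a * b⁻¹)⁻¹ := by group
      _ = a * w⁻¹ * a⁻¹ := by rw [h1]; group
      _ = w := by rw [inv_eq_of_mul_eq_one_right (s.w_sq hw)]; exact hwf a (s.w_le_T ha)
  obtain rfl : w = w' := e2.symm.trans e1
  exact ⟨w, hw1, hw, hw', hwz, hwz', e2⟩

namespace Pair

variable {T K K' : Subgroup G} (p : Pair T K K')
include p

theorem card_q_eq : Nat.card ↥(Cfsg.pCoreOf 2 (K ⊔ T)) = Nat.card ↥(Cfsg.pCoreOf 2 (K' ⊔ T)) := by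
  have := p.left.card_q
  have := p.right.card_q
  omega

theorem exists_not_mem : ∃ q ∈ Cfsg.pCoreOf 2 (K ⊔ T), q ∉ Cfsg.pCoreOf 2 (K' ⊔ T) := by
  by_contra hno
  push Not at hno
  exact p.q_ne (Subgroup.eq_of_le_of_card_ge hno p.card_q_eq.symm.le)

/-- A commutator of `W_{K'}` with an element of `O₂(⟨K, T⟩)` in another four-group is central in `K`. -/
theorem central_of_move (hW : Cfsg.wOf K' ≤ Cfsg.pCoreOf 2 (K ⊔ T)) {S L : Subgroup G} (s : Side S L)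
    (hS : ∀ g ∈ K, (Cfsg.wOf K').map (MulAut.conj g).toMonoidHom ≤ S) {x u : G}
    (hx : x ∈ Cfsg.wOf K') (hu : u ∈ Cfsg.wOf L) (huQ : u ∈ Cfsg.pCoreOf 2 (K ⊔ T)) (hxu : x * u ≠ u * x) :
    x * u * x⁻¹ * u⁻¹ ∈ zc T K := by
  set Q₁ := Cfsg.pCoreOf 2 (K ⊔ T) with hQ₁
  have hconj : ∀ g ∈ K, Pair (T.map (MulAut.conj g).toMonoidHom) K (K'.map (MulAut.conj g).toMonoidHom) ∧
      K ⊔ T.map (MulAut.conj g).toMonoidHom = K ⊔ T := by
    intro g hg
    have hgK := map_conj_eq_self (Subgroup.le_normalizer hg)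
    refine ⟨?_, ?_⟩
    · have := p.conj g
      rwa [hgK] at this
    · have e := map_conj_eq_self (Subgroup.le_normalizer (Subgroup.mem_sup_left hg : g ∈ K ⊔ T))
      rw [Subgroup.map_sup, hgK] at e
      exact e
  have hQle : ∀ g ∈ K, ∀ {q : G}, q ∈ Q₁ → q ∈ T.map (MulAut.conj g).toMonoidHom := fun g hg {q} hq => by
    rw [hQ₁, ← (hconj g hg).2] at hq
    exact (hconj g hg).1.left.q_le_T hq
  have hxT : x ∈ S := hS 1 K.one_mem (by rw [map_conj_one]; exact hx)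
  obtain ⟨r, hr1, hr0, hrL, hrz, hrzS, hc⟩ :=
    cross_comm p.right s hx hu hxT (p.left.q_le_T huQ) hxu
  rw [hc]
  refine ⟨hrz, Subgroup.mem_centralizer_iff.mpr fun g hg => ?_⟩
  have hrT : ∀ t ∈ T, t * r = r * t := fun t ht => p.z0_central ht hrz
  have hrconj : ∀ g ∈ K, g * r * g⁻¹ ∈ Cfsg.omegaCenterOf (Cfsg.thompsonSubgroupOf 2
      (T.map (MulAut.conj g).toMonoidHom)) ∧
      g * r * g⁻¹ ∈ Cfsg.wOf (K'.map (MulAut.conj g).toMonoidHom) := by
    intro g _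
    rw [jOf_conj, omegaCenterOf_conj, wOf_conj]
    exact ⟨conj_mem_map hrz, conj_mem_map hr0⟩
  -- an element of `K` either fixes `r` or keeps `u` in the conjugate core
  have hmove : ∀ g ∈ K, g * r * g⁻¹ = r ∨
      u ∈ Cfsg.pCoreOf 2 (K'.map (MulAut.conj g).toMonoidHom ⊔ T.map (MulAut.conj g).toMonoidHom) := by
    intro g hg
    have s' := (hconj g hg).1.right
    by_contra hn
    simp only [not_or] at hn
    obtain ⟨hn1, hn2⟩ := hn
    have hne : ∃ a ∈ Cfsg.wOf (K'.map (MulAut.conj g).toMonoidHom), a * u ≠ u * a := by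
      by_contra h
      push Not at h
      exact hn2 (s'.mem_q.mpr ⟨hQle g hg huQ, h⟩)
    obtain ⟨a, ha, hau⟩ := hne
    have haS : a ∈ S := hS g hg (by rwa [← wOf_conj])
    obtain ⟨w, hw1, hwW, hwL, hwz, hwzS, -⟩ := cross_comm s' s ha hu haS (hQle g hg huQ) hau
    refine hn1 ?_
    rw [s'.z_unique (hrconj g hg).2 (fun e => hr1 (conj_eq_one_iff.mp e)) (hrconj g hg).1 hwW hw1 hwz,
      s.z_unique hwL hw1 hwzS hrL hr1 hrzS]
  obtain ⟨y, hy, hy3, hdec, hfp⟩ := p.left.exists_y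
  by_cases hyr : y * r * y⁻¹ = r
  · obtain ⟨i, hi⟩ := hdec g hg
    rw [show g = y ^ i * ((y ^ i)⁻¹ * g) by group]
    exact (((show Commute y r from mul_inv_eq_iff_eq_mul.mp hyr).pow_left i).mul_left
      (show Commute ((y ^ i)⁻¹ * g) r from hrT _ (p.left.core_le hi))).eq
  exfalso
  have hy2 : y ^ 2 ∈ K := K.pow_mem hy 2
  have hy2r : y ^ 2 * r * (y ^ 2)⁻¹ ≠ r := fun e => hyr (by
    calc y * r * y⁻¹ = y * (y ^ 2 * r * (y ^ 2)⁻¹) * y⁻¹ := by rw [e]
      _ = (y * y ^ 2) * r * (y * y ^ 2)⁻¹ := by group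
      _ = r := by rw [← pow_succ', hy3]; group)
  have hu' := (hmove y hy).resolve_left hyr
  have hu'' := (hmove _ hy2).resolve_left hy2r
  obtain ⟨p', he'⟩ := hconj y hy
  obtain ⟨p'', he''⟩ := hconj _ hy2
  obtain ⟨hrz', hrW'⟩ := hrconj y hy
  obtain ⟨hrz'', hrW''⟩ := hrconj _ hy2
  set r' := y * r * y⁻¹ with hr'
  set r'' := y ^ 2 * r * (y ^ 2)⁻¹ with hr''
  have hr'1 : r' ≠ 1 := fun e => hr1 (conj_eq_one_iff.mp e)
  have hr''1 : r'' ≠ 1 := fun e => hr1 (conj_eq_one_iff.mp e)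
  have hr'r'' : r' ≠ r'' := fun e => hyr <| by
    rw [hr', hr''] at e
    calc y * r * y⁻¹ = y ^ 2 * r * (y ^ 2)⁻¹ := e
      _ = y * (y * r * y⁻¹) * y⁻¹ := by simp [pow_succ, mul_assoc]
      _ = y * (y ^ 2 * r * (y ^ 2)⁻¹) * y⁻¹ := by rw [← e]
      _ = (y * y ^ 2) * r * (y * y ^ 2)⁻¹ := by group
      _ = r := by rw [← pow_succ', hy3]; group
  have hWg : ∀ g ∈ K, Cfsg.wOf (K'.map (MulAut.conj g).toMonoidHom) ≤ Q₁ := by
    intro g hg
    rw [wOf_conj]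
    refine (Subgroup.map_mono hW).trans (le_of_eq ?_)
    exact map_conj_eq_self (Cfsg.Agent.LargeSub.self_le_normalizer_pCoreOf _ (Subgroup.mem_sup_left hg))
  set W' := Cfsg.wOf (K'.map (MulAut.conj y).toMonoidHom) with hW'
  set W'' := Cfsg.wOf (K'.map (MulAut.conj (y ^ 2)).toMonoidHom) with hW''
  have hcom : ∀ a ∈ W', ∀ b ∈ W'', a * b = b * a := by
    intro a ha b hb
    by_contra hab
    obtain ⟨w, hw1, hwa, hwb, hwza, hwzb, -⟩ := cross_comm p'.right p''.right ha hb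
      (hQle _ hy2 (hWg y hy ha)) (hQle y hy (hWg _ hy2 hb)) hab
    exact hr'r'' ((p'.right.z_unique hrW' hr'1 hrz' hwa hw1 hwza).trans
      (p''.right.z_unique hwb hw1 hwzb hrW'' hr''1 hrz''))
  have hZW : ∀ v ∈ W'', v ∈ Cfsg.omegaCenterOf (Cfsg.thompsonSubgroupOf 2 (T.map (MulAut.conj y).toMonoidHom)) →
      v ∈ Cfsg.omegaCenterOf (Cfsg.thompsonSubgroupOf 2 (T.map (MulAut.conj (y ^ 2)).toMonoidHom)) := by
    intro v hv hvz
    by_contra hv''
    obtain ⟨q, hq, hq'⟩ := p''.exists_not_mem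
    rw [he''] at hq
    refine hq' (p''.right.q_eq ▸ p''.right.fix_imp (hQle _ hy2 hq) hv hv'' ?_)
    exact mul_inv_eq_iff_eq_mul.mpr (p'.z0_central (hQle y hy hq) hvz)
  have hdis : W' ⊓ W'' = ⊥ := by
    refine (Subgroup.eq_bot_iff_forall _).mpr fun v hv => ?_
    have hz : ∀ v ∈ W' ⊓ W'',
        v ∈ Cfsg.omegaCenterOf (Cfsg.thompsonSubgroupOf 2 (T.map (MulAut.conj y).toMonoidHom)) → v = 1 := by
      intro v hv hvz
      by_contra hv1
      exact hr'r'' ((p'.right.z_unique hrW' hr'1 hrz' hv.1 hv1 hvz).trans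
        (p''.right.z_unique hv.2 hv1 (hZW v hv.2 hvz) hrW'' hr''1 hrz''))
    by_contra hv1
    have hvz := fun h => hv1 (hz v hv h)
    obtain ⟨q, hq, hq'⟩ := p'.exists_not_mem
    rw [he'] at hq
    have hqv : q * v * q⁻¹ = v * r' := (p'.right.comm_mem (hQle y hy hq) hv.1 hrW' hr'1 hrz').resolve_left
      fun e => hq' (p'.right.q_eq ▸ p'.right.fix_imp (hQle y hy hq) hv.1 hvz e)
    refine hr'1 (hz r' ⟨hrW', ?_⟩ hrz')
    have hm := (Subgroup.mem_normalizer_iff.mp (p''.right.T_le_normalizer_w (hQle _ hy2 hq)) v).mp hv.2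
    rw [hqv] at hm
    simpa using W''.mul_mem (W''.inv_mem hv.2) hm
  -- an element of a maximal elementary subgroup exchanging `W'` and `W''`
  obtain ⟨A, hA, a, haA, haQ⟩ : ∃ A ∈ maxElem T, ∃ a ∈ A, a ∉ Side.qT p.left := by
    by_contra h
    push Not at h
    obtain ⟨j, hj, hj'⟩ := p.left.exists_swap
    exact hj' (jOf_le_iff.mpr h hj)
  have haT := hA.1 haA
  obtain ⟨q₀, hq₀, haeq⟩ := p.left.invert hy hy3 hdec hfp haT haQ
  have hswap : W'.map (MulAut.conj a).toMonoidHom = W'' := by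
    have hN : q₀ * a ∈ Subgroup.normalizer (Cfsg.wOf K' : Set G) :=
      p.right.T_le_normalizer_w (mul_mem (p.left.core_le hq₀) haT)
    have e : a * y = y ^ 2 * (q₀ * a) := by
      rw [eq_comm, ← mul_assoc, ← inv_eq_of_mul_eq_one_left (show y ^ 2 * y = 1 by rw [← pow_succ, hy3]), ← haeq]
      group
    rw [hW', hW'', wOf_conj, wOf_conj, map_map_conj, e, ← map_map_conj, map_conj_eq_self hN]
  have haa : a * a = 1 := elem_mul_self hA.2.1 haA
  have hai : a⁻¹ = a := inv_eq_of_mul_eq_one_right haa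
  have hswap' : ∀ v ∈ W'', a * v * a⁻¹ ∈ W' := fun v hv => by
    rw [← hswap] at hv
    have := mem_map_conj.mp hv
    rw [hai] at this ⊢
    exact this
  have hX16 : Nat.card ↥(W' ⊔ W'') = 16 := by
    rw [card_sup_of_disjoint_normalizer (Subgroup.le_normalizer_iff.mpr fun b hb v hv => by
      rwa [← hcom v hv b hb, mul_inv_cancel_right]) (disjoint_iff.mpr hdis),
      p'.right.comp.2.2.2.2.1, p''.right.comp.2.2.2.2.1]
  set Q' := Cfsg.pCoreOf 2 (K'.map (MulAut.conj y).toMonoidHom ⊔ T.map (MulAut.conj y).toMonoidHom) with hQ'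
  set B := A ⊓ Q₁ with hB
  set C := B ⊓ Q' with hC
  have hAB : Nat.card A = 2 * Nat.card B := card_eq_two_mul inf_le_left haA
    (fun h => haQ (p.left.q_eq.symm ▸ h.2)) fun e he => by
      by_cases h : e ∈ Side.qT p.left
      · exact Or.inl ⟨he, hQ₁ ▸ p.left.q_eq ▸ h⟩
      · exact Or.inr ⟨mul_mem he haA, hQ₁ ▸ p.left.q_eq ▸ p.left.q_mul (hA.1 he) haT h haQ⟩
  have hCX : C ≤ Subgroup.centralizer ((W' ⊔ W'' : Subgroup G) : Set G) := by
    rw [Cfsg.Agent.PLocal.centralizer_sup]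
    refine fun e he => ⟨Subgroup.mem_centralizer_iff.mpr fun v hv => (p'.right.mem_q.mp he.2).2 v hv,
      Subgroup.mem_centralizer_iff.mpr fun v hv => ?_⟩
    have h := (p'.right.mem_q.mp he.2).2 _ (hswap' v hv)
    have hea : e * a = a * e := elem_comm hA.2.1 he.1.1 haA
    calc v * e = a * ((a * v * a⁻¹) * e) * a⁻¹ := by
          rw [mul_assoc (a * v) a⁻¹ e, hai, ← hea]
          simp only [mul_assoc, haa, mul_one, ← mul_assoc a a, one_mul]
      _ = a * (e * (a * v * a⁻¹)) * a⁻¹ := by rw [h]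
      _ = e * v := by
          rw [← mul_assoc a e, ← hea, hai]
          simp only [mul_assoc, haa, mul_one, ← mul_assoc a a, one_mul]
  have hXel : Cfsg.IsElementaryAbelian 2 (W' ⊔ W'' : Subgroup G) :=
    elemAb_sup (elemAb_of_sq fun _ h => p'.right.w_sq h) (elemAb_of_sq fun _ h => p''.right.w_sq h)
      (fun a ha => Subgroup.mem_centralizer_iff.mpr fun b hb => (hcom a ha b hb).symm)
  have hmax := hA.2.2 (C ⊔ (W' ⊔ W''))
    (sup_le (inf_le_left.trans (inf_le_left.trans hA.1))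
      ((sup_le (hWg y hy) (hWg _ hy2)).trans p.left.q_le_T))
    (elemAb_sup (elemAb_mono hA.2.1 (inf_le_left.trans inf_le_left)) hXel hCX)
  have hprod := card_sup_mul_card_inf (H := C) (K := W' ⊔ W'')
    ((le_centralizer_comm hCX).trans (Subgroup.centralizer_le_normalizer _))
  rw [hX16] at hprod
  -- `A ⊓ W'W''` embeds into the fixed points of `B` on `W'`
  have hfix : Nat.card ↥(C ⊓ (W' ⊔ W'')) ≤ Nat.card ↥(W' ⊓ Subgroup.centralizer (B : Set G)) := by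
    have hdec : ∀ v ∈ C ⊓ (W' ⊔ W''), ∃ x₁ ∈ W' ⊓ Subgroup.centralizer (B : Set G),
        v = x₁ * (a * x₁ * a⁻¹) := by
      intro v hv
      obtain ⟨x₁, hx₁, x₂, hx₂, rfl⟩ : ∃ x₁ ∈ W', ∃ x₂ ∈ W'', x₁ * x₂ = v := by
        have h : v ∈ W' ⊔ W'' := hv.2
        rw [← SetLike.mem_coe, Subgroup.coe_mul_of_right_le_normalizer_left W' W''
          (Subgroup.le_normalizer_iff.mpr fun b hb v hv => by
            rwa [← hcom v hv b hb, mul_inv_cancel_right])] at h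
        exact h
      have hvA : x₁ * x₂ ∈ A := hv.1.1.1
      have huniq : ∀ {c d : G}, c ∈ W' → d ∈ W'' → x₁ * x₂ = c * d → c = x₁ ∧ d = x₂ := fun {c d} hc hd e => by
        have := Subgroup.mul_injective_of_disjoint (disjoint_iff.mpr hdis)
          (a₁ := ((⟨c, hc⟩, ⟨d, hd⟩) : W' × W'')) (a₂ := (⟨x₁, hx₁⟩, ⟨x₂, hx₂⟩)) e.symm
        exact ⟨congrArg (fun q : W' × W'' => (q.1 : G)) this, congrArg (fun q : W' × W'' => (q.2 : G)) this⟩
      have hae : x₁ * x₂ = (a * x₂ * a⁻¹) * (a * x₁ * a⁻¹) := by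
        have hh : a * (x₁ * x₂) * a⁻¹ = x₁ * x₂ := mul_inv_eq_iff_eq_mul.mpr (elem_comm hA.2.1 haA hvA)
        rw [conj_mul, ← hcom x₁ hx₁ x₂ hx₂, hh]
      obtain ⟨-, e2⟩ := huniq (hswap' x₂ hx₂) (hswap ▸ conj_mem_map hx₁) hae
      refine ⟨x₁, ⟨hx₁, Subgroup.mem_centralizer_iff.mpr fun e he => ?_⟩, by rw [e2]⟩
      have heT' := hQle y hy he.2
      have heT'' := hQle _ hy2 he.2
      have hh : e * (x₁ * x₂) * e⁻¹ = x₁ * x₂ := mul_inv_eq_iff_eq_mul.mpr (elem_comm hA.2.1 he.1 hvA)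
      rw [← conj_mul] at hh
      exact mul_inv_eq_iff_eq_mul.mp (huniq
        ((Subgroup.mem_normalizer_iff.mp (p'.right.T_le_normalizer_w heT') x₁).mp hx₁)
        ((Subgroup.mem_normalizer_iff.mp (p''.right.T_le_normalizer_w heT'') x₂).mp hx₂) hh.symm).1
    choose f hf hfe using fun v : ↥(C ⊓ (W' ⊔ W'')) => hdec v.1 v.2
    refine Nat.card_le_card_of_injective (fun v => (⟨f v, hf v⟩ : ↥(W' ⊓ Subgroup.centralizer (B : Set G))))
      fun v v' e => Subtype.ext ?_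
    have e' : f v = f v' := congrArg Subtype.val e
    rw [hfe v, hfe v', e']
  have hCpos : 0 < Nat.card C := Nat.card_pos
  by_cases hBQ : B ≤ Q'
  · rw [show C = B from inf_eq_left.mpr hBQ] at hmax hprod hfix hCpos
    have h4 : Nat.card ↥(W' ⊓ Subgroup.centralizer (B : Set G)) ≤ 4 :=
      (Subgroup.card_le_of_le inf_le_left).trans p'.right.comp.2.2.2.2.1.le
    have := Nat.mul_le_mul hmax (hfix.trans h4)
    rw [hprod, hAB] at this
    omega
  · obtain ⟨b₀, hb₀, hb₀'⟩ := SetLike.not_le_iff_exists.mp hBQ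
    have hbq : b₀ ∉ Side.qT p'.right := fun h => hb₀' (hQ' ▸ p'.right.q_eq ▸ h)
    have hBC : Nat.card B = 2 * Nat.card C := card_eq_two_mul inf_le_left hb₀ (fun h => hb₀' h.2) fun e he => by
      by_cases h : e ∈ Side.qT p'.right
      · exact Or.inl ⟨he, hQ' ▸ p'.right.q_eq ▸ h⟩
      · exact Or.inr ⟨mul_mem he hb₀,
          hQ' ▸ p'.right.q_eq ▸ p'.right.q_mul (hQle y hy he.2) (hQle y hy hb₀.2) h hbq⟩
    have h2 : Nat.card ↥(W' ⊓ Subgroup.centralizer (B : Set G)) ≤ 2 := by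
      rw [← (comp_split p'.right.twoGroup p'.right.comp).1]
      refine Subgroup.card_le_of_le fun v hv => ⟨?_, hv.1⟩
      by_contra hv0
      exact hbq (p'.right.fix_imp (hQle y hy hb₀.2) hv.1 hv0
        (mul_inv_eq_iff_eq_mul.mpr (Subgroup.mem_centralizer_iff.mp hv.2 b₀ hb₀)))
    have := Nat.mul_le_mul hmax (hfix.trans h2)
    rw [hprod, hAB, hBC] at this
    omega

end Pair

end Cfsg.Agent.JComp
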