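import Cfsg.Agent.Lib.JComp.Base
import Cfsg.Agent.Lib.Isolated.Basic

/-!
The bound `|W_K| ≤ 4`.

* `card_le_of_one_fixed`: an elementary abelian 2-group with at most one nontrivial fixed point on `M`
  induces at most `|M| / 2` automorphisms
* `card_wOf_le`: `|[Ω₁(Z(O₂(K))), K]| ≤ 4` for a subgroup `K = O₂(K)⟨y⟩` moved by an offender
-/

set_option autoImplicit false

namespace Cfsg.Agent.JComp

open Cfsg.Agent.PLocal

variable {G : Type*} [Group G] [Finite G]

omit [Finite G] in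
theorem card_inf_centralizer_mul {B M : Subgroup G} {m : G} {Z : Subgroup G}
    (f : ∀ b ∈ B, m * b * m⁻¹ * b⁻¹ ∈ Z)
    (hhom : ∀ b ∈ B, ∀ c ∈ B, m * (b * c) * m⁻¹ * (b * c)⁻¹ = (m * b * m⁻¹ * b⁻¹) * (m * c * m⁻¹ * c⁻¹))
    (hker : ∀ b ∈ B, m * b * m⁻¹ * b⁻¹ = 1 → b ∈ Subgroup.centralizer (M : Set G)) [Finite G] :
    Nat.card B ≤ Nat.card Z * Nat.card ↥(B ⊓ Subgroup.centralizer (M : Set G)) := by
  let φ : ↥B →* ↥Z :=
    { toFun := fun b => ⟨_, f b b.2⟩
      map_one' := Subtype.ext (by simp)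
      map_mul' := fun b c => Subtype.ext (hhom b b.2 c c.2) }
  rw [← φ.ker.card_mul_index, Subgroup.index_ker, mul_comm]
  refine Nat.mul_le_mul (Nat.le_of_dvd Nat.card_pos (Subgroup.card_subgroup_dvd_card _)) ?_
  rw [← Subgroup.card_map_of_injective (K := φ.ker) B.subtype_injective]
  refine Nat.le_of_dvd Nat.card_pos (Subgroup.card_dvd_of_le ?_)
  rintro _ ⟨b, hb, rfl⟩
  exact ⟨b.2, hker b b.2 (congrArg Subtype.val hb)⟩

theorem card_le_of_one_fixed {B : Subgroup G} (hB : Cfsg.IsElementaryAbelian 2 B) :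
    ∀ M : Subgroup G, Cfsg.IsElementaryAbelian 2 M → B ≤ Subgroup.normalizer (M : Set G) →
      Nat.card ↥(M ⊓ Subgroup.centralizer (B : Set G)) ≤ 2 → M ≠ ⊥ →
      2 * Nat.card B ≤ Nat.card M * Nat.card ↥(B ⊓ Subgroup.centralizer (M : Set G)) := by
  haveI : Fact (Nat.Prime 2) := ⟨Nat.prime_two⟩
  suffices h : ∀ n, ∀ M : Subgroup G, Nat.card M ≤ n → Cfsg.IsElementaryAbelian 2 M →
      B ≤ Subgroup.normalizer (M : Set G) →
      Nat.card ↥(M ⊓ Subgroup.centralizer (B : Set G)) ≤ 2 → M ≠ ⊥ →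
      2 * Nat.card B ≤ Nat.card M * Nat.card ↥(B ⊓ Subgroup.centralizer (M : Set G)) from
    fun M => h _ M le_rfl
  intro n
  induction n with
  | zero => intro M hn; have := Nat.card_pos (α := M); omega
  | succ n ih =>
    intro M hn hM hBM hfix hne
    set M₀ := M ⊓ Subgroup.centralizer (B : Set G) with hM₀
    have h2 : 2 ≤ Nat.card M := by
      haveI : Nontrivial M := (Subgroup.nontrivial_iff_ne_bot M).mpr hne
      exact Finite.one_lt_card
    by_cases hall : M ≤ Subgroup.centralizer (B : Set G)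
    · have : B ⊓ Subgroup.centralizer (M : Set G) = B := inf_eq_left.mpr (Subgroup.le_centralizer_iff.mp hall)
      rw [this]
      exact Nat.mul_le_mul_right _ h2
    have hM₀lt : M₀ ≠ M := fun h => hall (h ▸ inf_le_right)
    -- a maximal proper invariant subgroup above the fixed points
    obtain ⟨H, ⟨hHM, hH0, hHB, hHne⟩, hmax⟩ := Set.exists_max_image
      {H : Subgroup G | H ≤ M ∧ M₀ ≤ H ∧ B ≤ Subgroup.normalizer (H : Set G) ∧ H ≠ M}
      (fun H => Nat.card H) (Set.toFinite _)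
      ⟨M₀, inf_le_left, le_rfl, (le_inf hBM (Subgroup.le_normalizer.trans
        Cfsg.Agent.LargeSub.centralizer_normalized)).trans Subgroup.inf_normalizer_le_normalizer_inf, hM₀lt⟩
    have hBp : IsPGroup 2 B := elemAb_isPGroup hB
    have hMp : IsPGroup 2 M := elemAb_isPGroup hM
    have hP : IsPGroup 2 ↥(M ⊔ B) := hMp.to_sup_of_normal_left' hBp hBM
    have hdec : ∀ g ∈ M ⊔ B, ∃ m ∈ M, ∃ b ∈ B, m * b = g := fun g hg => by
      rw [← SetLike.mem_coe, Subgroup.coe_mul_of_right_le_normalizer_left M B hBM] at hg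
      exact hg
    have hdecH : ∀ g ∈ H ⊔ B, ∃ h ∈ H, ∃ b ∈ B, h * b = g := fun g hg => by
      rw [← SetLike.mem_coe, Subgroup.coe_mul_of_right_le_normalizer_left H B hHB] at hg
      exact hg
    have hinf : ∀ g ∈ H ⊔ B, g ∈ M → g ∈ H := by
      intro g hg hgM
      obtain ⟨h, hh, b, hb, rfl⟩ := hdecH g hg
      have hbM : b ∈ M := (M.mul_mem_cancel_left (hHM hh)).mp hgM
      exact mul_mem hh (hH0 ⟨hbM, Subgroup.mem_centralizer_iff.mpr fun c hc => elem_comm hB hc hb⟩)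
    obtain ⟨g, hg, hgN, hgH⟩ : ∃ g ∈ M ⊔ B, g ∈ Subgroup.normalizer ((H ⊔ B : Subgroup G) : Set G) ∧ g ∉ H ⊔ B := by
      by_contra hno
      push Not at hno
      have := Cfsg.Agent.Isolated.eq_of_normalizer_le hP (sup_le (hHM.trans le_sup_left) le_sup_right)
        fun g hg hN => hno g hg hN
      exact hHne (le_antisymm hHM fun m hm => hinf m (this.ge (Subgroup.mem_sup_left hm)) hm)
    obtain ⟨m, hm, b₀, hb₀, rfl⟩ := hdec g hg
    have hmH : m ∉ H := fun h => hgH (mul_mem (Subgroup.mem_sup_left h) (Subgroup.mem_sup_right hb₀))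
    have hcomm : ∀ b ∈ B, m * b * m⁻¹ * b⁻¹ ∈ H := by
      intro b hb
      have h1 : m * b * m⁻¹ ∈ H ⊔ B := by
        have := (Subgroup.mem_normalizer_iff.mp hgN b).mp (Subgroup.mem_sup_right hb)
        rw [mul_inv_rev] at this
        have e : m * b₀ * b * (b₀⁻¹ * m⁻¹) = m * b * m⁻¹ := by
          calc m * b₀ * b * (b₀⁻¹ * m⁻¹) = m * (b₀ * b) * b₀⁻¹ * m⁻¹ := by group
            _ = m * (b * b₀) * b₀⁻¹ * m⁻¹ := by rw [elem_comm hB hb₀ hb]
            _ = m * b * m⁻¹ := by group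
        rwa [e] at this
      refine hinf _ (mul_mem h1 (Subgroup.mem_sup_right (inv_mem hb))) ?_
      have h3 := (Subgroup.mem_normalizer_iff.mp (hBM hb) m⁻¹).mp (inv_mem hm)
      simpa [mul_assoc] using mul_mem hm h3
    -- `H` has index 2 in `M`
    set H' := H ⊔ Subgroup.zpowers m with hH'
    have hH'M : H' ≤ M := sup_le hHM (Subgroup.zpowers_le.mpr hm)
    have hH'eq : H' = M := by
      by_contra hne'
      have hlt : Nat.card H < Nat.card H' := by
        by_contra hle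
        exact hmH ((Subgroup.eq_of_le_of_card_ge (le_sup_left : H ≤ H') (Nat.le_of_not_lt hle)).ge
          (Subgroup.mem_sup_right (Subgroup.mem_zpowers m)))
      refine absurd (hmax H' ⟨hH'M, hH0.trans le_sup_left, ?_, hne'⟩) (Nat.not_le.mpr hlt)
      refine Subgroup.le_normalizer_iff.mpr fun b hb => ?_
      have hle : H' ≤ H'.comap (MulAut.conj b).toMonoidHom := by
        refine sup_le (fun h hh => ?_) (Subgroup.zpowers_le.mpr ?_)
        · exact Subgroup.mem_sup_left ((Subgroup.mem_normalizer_iff.mp (hHB hb) h).mp hh)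
        · show b * m * b⁻¹ ∈ H'
          have e : b * m * b⁻¹ = (m * b * m⁻¹ * b⁻¹)⁻¹ * m := by group
          rw [e]
          exact mul_mem (Subgroup.mem_sup_left (inv_mem (hcomm b hb))) (Subgroup.mem_sup_right (Subgroup.mem_zpowers m))
      exact fun x hx => hle hx
    have hcardM : Nat.card M ≤ 2 * Nat.card H ∧ 2 * Nat.card H ≤ Nat.card M := by
      have hz : Nat.card (Subgroup.zpowers m) = 2 := by
        rw [Nat.card_zpowers]
        exact orderOf_eq_prime (hM.2 m hm) (fun h => hmH (h ▸ one_mem H))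
      have hn : Subgroup.zpowers m ≤ Subgroup.normalizer (H : Set G) := by
        refine le_trans ?_ (Subgroup.centralizer_le_normalizer _)
        rw [Subgroup.zpowers_le]
        exact Subgroup.mem_centralizer_iff.mpr fun h hh => elem_comm hM (hHM hh) hm
      have hh := card_sup_mul_card_inf hn
      rw [← hH', hH'eq, hz] at hh
      have hi : H ⊓ Subgroup.zpowers m = ⊥ := by
        rw [eq_bot_iff]
        rintro x ⟨hx, hx'⟩
        obtain ⟨k, rfl⟩ := Subgroup.mem_zpowers_iff.mp hx'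
        rcases Int.even_or_odd k with ⟨l, rfl⟩ | ⟨l, rfl⟩
        · rw [← two_mul, zpow_mul, zpow_two, elem_mul_self hM hm, one_zpow]; exact one_mem _
        · rw [zpow_add, zpow_one, zpow_mul, zpow_two, elem_mul_self hM hm, one_zpow, one_mul] at hx
          exact absurd hx hmH
      rw [hi, Subgroup.card_bot, mul_one] at hh
      omega
    by_cases hHbot : H = ⊥
    · -- `M` has order two, hence is fixed
      refine absurd ?_ hall
      intro x hx
      rw [Subgroup.mem_centralizer_iff]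
      intro b hb
      have := hcomm b hb
      rw [hHbot, Subgroup.mem_bot, mul_inv_eq_one, mul_inv_eq_iff_eq_mul] at this
      have hle : M ≤ Subgroup.centralizer ({b} : Set G) := by
        rw [← hH'eq, hH', hHbot, bot_sup_eq, Subgroup.zpowers_le, Subgroup.mem_centralizer_singleton_iff]
        exact this
      exact (Subgroup.mem_centralizer_singleton_iff.mp (hle hx)).symm
    set B₁ := B ⊓ Subgroup.centralizer (H : Set G) with hB₁
    have hI := ih H (by have := hcardM.2; have := Nat.card_pos (α := H); omega)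
      (Cfsg.Agent.PReduced.isElementaryAbelian_mono hM hHM) hHB
      (le_trans (Nat.le_of_dvd Nat.card_pos (Subgroup.card_dvd_of_le (inf_le_inf_right _ hHM))) hfix) hHbot
    have hfix1 : ∀ b ∈ B₁, m * b * m⁻¹ * b⁻¹ ∈ M₀ := by
      intro b hb
      refine ⟨hHM (hcomm b hb.1), Subgroup.mem_centralizer_iff.mpr fun c hc => ?_⟩
      have hd := hcomm c hc
      set h' := m * c * m⁻¹ * c⁻¹ with hh'
      have hcomb : c * b = b * c := elem_comm hB hc hb.1
      have hbh : h' * b = b * h' := Subgroup.mem_centralizer_iff.mp hb.2 h' hd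
      have e1 : c * m * c⁻¹ = h'⁻¹ * m := by rw [hh']; group
      have e2 : c * b * c⁻¹ = b := by rw [hcomb]; group
      have e3 : c * (m * b * m⁻¹ * b⁻¹) * c⁻¹ = m * b * m⁻¹ * b⁻¹ := by
        calc c * (m * b * m⁻¹ * b⁻¹) * c⁻¹
            = (c * m * c⁻¹) * (c * b * c⁻¹) * (c * m * c⁻¹)⁻¹ * (c * b * c⁻¹)⁻¹ := by group
          _ = h'⁻¹ * (m * b * m⁻¹) * h' * b⁻¹ := by rw [e1, e2]; group
          _ = h'⁻¹ * (m * b * m⁻¹ * b⁻¹) * (b * h') * b⁻¹ := by group
          _ = h'⁻¹ * (m * b * m⁻¹ * b⁻¹) * (h' * b) * b⁻¹ := by rw [hbh]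
          _ = h'⁻¹ * ((m * b * m⁻¹ * b⁻¹) * h') := by group
          _ = h'⁻¹ * (h' * (m * b * m⁻¹ * b⁻¹)) := by
            rw [elem_comm hM (hHM (hcomm b hb.1)) (hHM hd)]
          _ = m * b * m⁻¹ * b⁻¹ := by group
      exact mul_inv_eq_iff_eq_mul.mp e3
    have hC : B₁ ⊓ Subgroup.centralizer (M : Set G) = B ⊓ Subgroup.centralizer (M : Set G) := by
      refine le_antisymm (inf_le_inf_right _ inf_le_left) (le_inf (le_inf inf_le_left ?_) inf_le_right)
      exact inf_le_right.trans (Subgroup.centralizer_le (SetLike.coe_subset_coe.mpr hHM))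
    have h3 : Nat.card B₁ ≤ Nat.card M₀ * Nat.card ↥(B ⊓ Subgroup.centralizer (M : Set G)) := by
      rw [← hC]
      refine card_inf_centralizer_mul hfix1 (fun b hb c hc => ?_) (fun b hb h => ?_)
      · have hbd : b * (m * c * m⁻¹ * c⁻¹) = (m * c * m⁻¹ * c⁻¹) * b :=
          Subgroup.mem_centralizer_iff.mp (hfix1 c hc).2 b hb.1
        calc m * (b * c) * m⁻¹ * (b * c)⁻¹
            = m * b * m⁻¹ * ((m * c * m⁻¹ * c⁻¹) * b⁻¹) := by group
          _ = m * b * m⁻¹ * (b⁻¹ * (b * (m * c * m⁻¹ * c⁻¹)) * b⁻¹) := by group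
          _ = m * b * m⁻¹ * (b⁻¹ * ((m * c * m⁻¹ * c⁻¹) * b) * b⁻¹) := by rw [hbd]
          _ = _ := by group
      · rw [Subgroup.mem_centralizer_iff]
        intro x hx
        have hle : M ≤ Subgroup.centralizer ({b} : Set G) := by
          rw [← hH'eq]
          refine sup_le (fun y hy => ?_) (Subgroup.zpowers_le.mpr ?_)
          · rw [Subgroup.mem_centralizer_singleton_iff]
            exact Subgroup.mem_centralizer_iff.mp hb.2 y hy
          · rw [Subgroup.mem_centralizer_singleton_iff]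
            exact mul_inv_eq_iff_eq_mul.mp (mul_inv_eq_one.mp h)
        exact Subgroup.mem_centralizer_singleton_iff.mp (hle hx)
    calc 2 * Nat.card B ≤ Nat.card H * Nat.card B₁ := hI
      _ ≤ Nat.card H * (2 * Nat.card ↥(B ⊓ Subgroup.centralizer (M : Set G))) :=
          Nat.mul_le_mul_left _ (h3.trans (Nat.mul_le_mul_right _ hfix))
      _ ≤ _ := by rw [← mul_assoc, mul_comm _ 2]; exact Nat.mul_le_mul_right _ hcardM.2

/-- The four-group bound. -/
theorem card_wOf_le {T K A B : Subgroup G} {a y : G} (hA : A ∈ maxElem T)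
    (hAK : A ≤ Subgroup.normalizer (K : Set G)) (hUT : Cfsg.omegaCenterOf (Cfsg.pCoreOf 2 K) ≤ T)
    (ha : a ∈ A) (hy3 : y ^ 3 = 1) (hyK : y ∈ K)
    (hK : ∀ k ∈ K, ∃ i : ℕ, (y ^ i)⁻¹ * k ∈ Cfsg.pCoreOf 2 K)
    (hinv : a * y * a⁻¹ * y ∈ Cfsg.pCoreOf 2 K) (hBA : B ≤ A) (hidx : Nat.card A ≤ 2 * Nat.card B)
    (hB : ∀ b ∈ B, y⁻¹ * (b * y * b⁻¹) ∈ Cfsg.pCoreOf 2 K) :
    Nat.card ↥(Cfsg.wOf K) ≤ 4 := by
  set D := Cfsg.pCoreOf 2 K with hD
  set U := Cfsg.omegaCenterOf D with hU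
  have hAe := (mem_maxElem.mp hA).2.1
  have hDU : ∀ d ∈ D, ∀ u ∈ U, d * u * d⁻¹ = u := fun d hd u hu => by
    rw [(mem_omegaCenterOf.mp hu).2.1 d hd, mul_inv_cancel_right]
  have hUc : ∀ u ∈ U, ∀ v ∈ U, u * v = v * u := fun u hu v hv =>
    (mem_omegaCenterOf.mp hv).2.1 u (omegaCenterOf_le _ hu)
  have hU2 : ∀ u ∈ U, u * u = 1 := fun u hu => (mem_omegaCenterOf.mp hu).2.2
  have hmod : ∀ g h : G, g⁻¹ * h ∈ D → ∀ u ∈ U, h * u * h⁻¹ = g * u * g⁻¹ := by
    intro g h hgh u hu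
    calc h * u * h⁻¹ = g * ((g⁻¹ * h) * u * (g⁻¹ * h)⁻¹) * g⁻¹ := by group
      _ = g * u * g⁻¹ := by rw [hDU _ hgh u hu]
  have hUn : ∀ g, g ∈ Subgroup.normalizer (D : Set G) → ∀ u ∈ U, g * u * g⁻¹ ∈ U := by
    intro g hg u hu
    obtain ⟨h1, h2, h3⟩ := mem_omegaCenterOf.mp hu
    refine mem_omegaCenterOf.mpr ⟨(Subgroup.mem_normalizer_iff.mp hg u).mp h1, fun d hd => ?_, ?_⟩
    · calc d * (g * u * g⁻¹) = g * ((g⁻¹ * d * g) * u) * g⁻¹ := by group
        _ = g * (u * (g⁻¹ * d * g)) * g⁻¹ := by rw [h2 _ ((Subgroup.mem_normalizer_iff''.mp hg d).mp hd)]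
        _ = g * u * g⁻¹ * d := by group
    · calc g * u * g⁻¹ * (g * u * g⁻¹) = g * (u * u) * g⁻¹ := by group
        _ = 1 := by rw [h3]; group
  have hKD : K ≤ Subgroup.normalizer (D : Set G) := Cfsg.Agent.LargeSub.self_le_normalizer_pCoreOf K
  have hAD : A ≤ Subgroup.normalizer (D : Set G) := hAK.trans (Cfsg.Agent.LargeSub.le_normalizer_pCoreOf K)
  let e : G → G := fun u => y * u * y⁻¹
  have heU : ∀ u ∈ U, e u ∈ U := hUn y (hKD hyK)
  have hemul : ∀ u v, e (u * v) = e u * e v := fun u v => by simp [e, mul_assoc]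
  have he3 : ∀ u, e (e (e u)) = u := fun u => by
    simp only [e]
    calc y * (y * (y * u * y⁻¹) * y⁻¹) * y⁻¹ = (y * (y * y)) * u * (y * (y * y))⁻¹ := by group
      _ = u := by rw [← pow_three, hy3]; group
  let φ : ↥U →* G :=
    { toFun := fun u => (u : G) * e u
      map_one' := by simp [e]
      map_mul' := fun u v => by
        show (u : G) * v * e (u * v) = u * e u * (v * e v)
        rw [hemul, mul_assoc (u : G) v, ← mul_assoc (v : G), hUc v v.2 _ (heU u u.2)]
        group }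
  set S := φ.range with hS
  have hmemS : ∀ {u}, u ∈ U → u * e u ∈ S := fun {u} hu => ⟨⟨u, hu⟩, rfl⟩
  have hSU : S ≤ U := by
    rintro _ ⟨u, rfl⟩
    exact mul_mem u.2 (heU u u.2)
  have heS : ∀ s ∈ S, e s ∈ S := by
    rintro _ ⟨u, rfl⟩
    have := hmemS (heU u u.2)
    rw [← hemul] at this
    exact this
  have hfpf : ∀ s ∈ S, e s = s → s = 1 := by
    rintro _ ⟨u, rfl⟩ h
    change e ((u : G) * e u) = u * e u at h
    rw [hemul, hUc u u.2 _ (heU u u.2)] at h
    have h1 : e (e u) = u := mul_left_cancel h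
    have h2 : e u = u := by
      have h3 := congrArg e h1
      rw [he3] at h3
      exact h3.symm
    show (u : G) * e u = 1
    rw [h2, hU2 u u.2]
  have hW : Cfsg.wOf K ≤ S := by
    rw [Cfsg.wOf, ← hD, ← hU, Subgroup.commutator_le]
    intro u hu k hk
    obtain ⟨i, hi⟩ := hK k hk
    have hk' : k * u⁻¹ * k⁻¹ = y ^ i * u⁻¹ * (y ^ i)⁻¹ := hmod _ _ hi _ (inv_mem hu)
    have hi' : ∀ j : ℕ, y ^ j * u * (y ^ j)⁻¹ = e^[j] u := fun j => by
      induction j with
      | zero => simp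
      | succ j ih =>
        rw [Function.iterate_succ_apply', ← ih, pow_succ']
        simp [e, mul_assoc]
    have key : ∀ j : ℕ, u * e^[j] u ∈ S := by
      intro j
      induction j with
      | zero => rw [Function.iterate_zero, id, hU2 u hu]; exact one_mem _
      | succ j ih =>
        have hj : e^[j] u ∈ U := by
          have := hUn (y ^ j) (pow_mem (hKD hyK) j) u hu
          rwa [hi' j] at this
        have h1 := mul_mem ih (hmemS hj)
        rw [Function.iterate_succ_apply']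
        have e2 : u * e (e^[j] u) = u * e^[j] u * (e^[j] u * e (e^[j] u)) := by
          calc u * e (e^[j] u) = u * (e^[j] u * e^[j] u) * e (e^[j] u) := by rw [hU2 _ hj, mul_one]
            _ = u * e^[j] u * (e^[j] u * e (e^[j] u)) := by group
        rw [e2]; exact h1
    rw [commutatorElement_def, mul_assoc, mul_assoc, ← mul_assoc k, hk',
      inv_eq_of_mul_eq_one_right (hU2 u hu), hi']
    exact key i
  -- the conjugation by `a` on `U`
  have ha' : ∀ u ∈ U, a * e u * a⁻¹ = e (e (a * u * a⁻¹)) := by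
    intro u hu
    have hau : a * u * a⁻¹ ∈ U := hUn a (hAD ha) u hu
    have h1 : (y⁻¹)⁻¹ * (a * y * a⁻¹) ∈ D := by
      rw [inv_inv]
      have := (Subgroup.mem_normalizer_iff.mp (hKD hyK) _).mp hinv
      simpa [mul_assoc] using this
    have h2 := hmod y⁻¹ (a * y * a⁻¹) h1 _ hau
    have e1 : a * e u * a⁻¹ = a * y * a⁻¹ * (a * u * a⁻¹) * (a * y * a⁻¹)⁻¹ := by simp [e, mul_assoc]
    rw [e1, h2]
    have hyy : y⁻¹ = y * y := inv_eq_of_mul_eq_one_right (by rw [← pow_three, hy3])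
    calc y⁻¹ * (a * u * a⁻¹) * y⁻¹⁻¹ = (y * y) * (a * u * a⁻¹) * (y * y)⁻¹ := by rw [← hyy]
      _ = e (e (a * u * a⁻¹)) := by simp only [e]; group
  have haa : a * a = 1 := elem_mul_self hAe ha
  have haS : ∀ s ∈ S, a * s * a⁻¹ ∈ S := by
    rintro _ ⟨u, rfl⟩
    have hau : a * (u : G) * a⁻¹ ∈ U := hUn a (hAD ha) u u.2
    have e1 : a * φ u * a⁻¹ = (a * u * a⁻¹) * (a * e u * a⁻¹) := by
      show a * (u * e u) * a⁻¹ = _
      group
    rw [e1, ha' u u.2]
    set v := a * (u : G) * a⁻¹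
    have e2 : v * e (e v) = (v * e v) * (e v * e (e v)) := by
      rw [mul_assoc v, ← mul_assoc (e v), hU2 _ (heU v hau), one_mul]
    rw [e2]; exact mul_mem (hmemS hau) (hmemS (heU v hau))
  have hb' : ∀ b ∈ B, ∀ u ∈ U, b * e u * b⁻¹ = e (b * u * b⁻¹) := by
    intro b hb u hu
    have h2 := hmod y (b * y * b⁻¹) (hB b hb) _ (hUn b (hAD (hBA hb)) u hu)
    calc b * e u * b⁻¹ = b * y * b⁻¹ * (b * u * b⁻¹) * (b * y * b⁻¹)⁻¹ := by simp [e, mul_assoc]
      _ = _ := h2
  have hbS : ∀ b ∈ B, ∀ s ∈ S, b * s * b⁻¹ ∈ S := by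
    rintro b hb _ ⟨u, rfl⟩
    have e1 : b * φ u * b⁻¹ = (b * u * b⁻¹) * (b * e u * b⁻¹) := by
      show b * (u * e u) * b⁻¹ = _
      group
    rw [e1, hb' b hb u u.2]
    exact hmemS (hUn b (hAD (hBA hb)) u u.2)
  set Ca := Subgroup.centralizer ({a} : Set G) with hCa
  set M := S ⊓ Ca with hM
  have hSe : Cfsg.IsElementaryAbelian 2 S :=
    ⟨Cfsg.Agent.PReduced.isMulCommutative_of_forall fun u hu v hv => hUc u (hSU hu) v (hSU hv),
      fun u hu => by rw [pow_two]; exact hU2 u (hSU hu)⟩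
  have hs1 : ∀ s ∈ S, s * (a * s * a⁻¹) ∈ M := by
    intro s hs
    refine ⟨mul_mem hs (haS s hs), Subgroup.mem_centralizer_singleton_iff.mpr ?_⟩
    have h1 := elem_comm hSe hs (haS s hs)
    have ai : a⁻¹ = a := inv_eq_of_mul_eq_one_right haa
    rw [ai] at h1 ⊢
    calc s * (a * s * a) * a = s * a * s * (a * a) := by group
      _ = (a * a) * (s * a * s) := by rw [haa, mul_one, one_mul]
      _ = a * ((a * s * a) * s) := by group
      _ = a * (s * (a * s * a)) := by rw [← h1]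
  -- `|S| ≤ |M|²`
  have hSM : Nat.card S ≤ Nat.card M * Nat.card M := by
    let ψ : ↥S →* ↥M :=
      { toFun := fun s => ⟨_, hs1 s s.2⟩
        map_one' := Subtype.ext (by simp)
        map_mul' := fun s t => Subtype.ext (by
          show (s : G) * t * (a * (s * t) * a⁻¹) = s * (a * s * a⁻¹) * (t * (a * t * a⁻¹))
          calc (s : G) * t * (a * (s * t) * a⁻¹) = s * (t * (a * s * a⁻¹)) * (a * t * a⁻¹) := by group
            _ = s * ((a * s * a⁻¹) * t) * (a * t * a⁻¹) := by rw [elem_comm hSe t.2 (haS s s.2)]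
            _ = _ := by group) }
    rw [← ψ.ker.card_mul_index, Subgroup.index_ker]
    refine Nat.mul_le_mul ?_ (Nat.le_of_dvd Nat.card_pos (Subgroup.card_subgroup_dvd_card _))
    rw [← Subgroup.card_map_of_injective (K := ψ.ker) S.subtype_injective]
    refine Nat.le_of_dvd Nat.card_pos (Subgroup.card_dvd_of_le ?_)
    rintro _ ⟨s, hs, rfl⟩
    refine ⟨s.2, Subgroup.mem_centralizer_singleton_iff.mpr ?_⟩
    have h : (s : G) * (a * s * a⁻¹) = 1 := congrArg Subtype.val hs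
    rw [mul_eq_one_iff_inv_eq, inv_eq_of_mul_eq_one_right (hU2 _ (hSU s.2))] at h
    exact mul_inv_eq_iff_eq_mul.mp h.symm |>.symm
  have hcross : ∀ m ∈ M, ∀ m' ∈ M, m = e m' → m = 1 := by
    intro m hm m' hm' hmm
    refine hfpf m hm.1 ?_
    have hf : ∀ z ∈ M, a * z * a⁻¹ = z := fun z hz => by
      rw [← Subgroup.mem_centralizer_singleton_iff.mp hz.2, mul_inv_cancel_right]
    have h1 : a * e m' * a⁻¹ = e (e (a * m' * a⁻¹)) := ha' m' (hSU hm'.1)
    rw [hf m' hm', ← hmm, hf m hm] at h1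
    exact h1.symm
  set P := S ⊓ Subgroup.centralizer (B : Set G) with hP
  set M₀ := M ⊓ Subgroup.centralizer (B : Set G) with hM₀
  have hM₀P : M₀ ≤ P := fun m hm => ⟨hm.1.1, hm.2⟩
  have heP : ∀ m ∈ M₀, e m ∈ P := by
    intro m hm
    refine ⟨heS m hm.1.1, Subgroup.mem_centralizer_iff.mpr fun b hb => ?_⟩
    have h1 := hb' b hb m (hSU hm.1.1)
    rw [Subgroup.mem_centralizer_iff.mp hm.2 b hb, mul_inv_cancel_right] at h1
    exact mul_inv_eq_iff_eq_mul.mp h1
  have hM₀sq : Nat.card M₀ * Nat.card M₀ ≤ Nat.card P := by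
    rw [← Nat.card_prod]
    refine Nat.card_le_card_of_injective
      (fun p => (⟨(p.1 : G) * e p.2, mul_mem (hM₀P p.1.2) (heP _ p.2.2)⟩ : ↥P)) ?_
    intro p q h
    have h' : (p.1 : G) * e p.2 = q.1 * e q.2 := congrArg Subtype.val h
    have hi : (q.1 : G)⁻¹ * p.1 = e (q.2 * (p.2 : G)⁻¹) := by
      have einv : e (p.2 : G)⁻¹ = (e p.2)⁻¹ := by simp [e, mul_assoc]
      rw [hemul, einv, inv_mul_eq_iff_eq_mul, ← mul_assoc, eq_mul_inv_iff_mul_eq]
      exact h'
    have h1 := hcross _ (mul_mem (inv_mem q.1.2.1) p.1.2.1) _ (mul_mem q.2.2.1 (inv_mem p.2.2.1)) hi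
    have hp1 : (q.1 : G) = p.1 := inv_mul_eq_one.mp h1
    rw [← hp1] at h'
    have h2 : e p.2 = e q.2 := mul_left_cancel h'
    have hp2 : (p.2 : G) = q.2 := by rw [← he3 (p.2 : G), h2, he3]
    exact Prod.ext (Subtype.ext hp1.symm) (Subtype.ext hp2)
  have hPB : Nat.card P ≤ 2 * Nat.card M₀ := by
    have hPe := Cfsg.Agent.PReduced.isElementaryAbelian_mono hSe (inf_le_left : P ≤ S)
    have hBe := Cfsg.Agent.PReduced.isElementaryAbelian_mono hAe hBA
    have hcen : P ≤ Subgroup.centralizer (B : Set G) := inf_le_right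
    have hE := elemAb_sup hPe hBe hcen
    have hle := hA.2.2 _ (sup_le ((inf_le_left.trans hSU).trans hUT) (hBA.trans hA.1)) hE
    have hh := card_sup_mul_card_inf (H := P) (K := B)
      ((Subgroup.le_centralizer_iff.mp hcen).trans (Subgroup.centralizer_le_normalizer _))
    have hi : Nat.card ↥(P ⊓ B) ≤ Nat.card M₀ := by
      refine Nat.le_of_dvd Nat.card_pos (Subgroup.card_dvd_of_le ?_)
      rintro x ⟨⟨hxS, hxB⟩, hx⟩
      exact ⟨⟨hxS, Subgroup.mem_centralizer_singleton_iff.mpr (elem_comm hAe (hBA hx) ha)⟩, hxB⟩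
    have hBpos := Nat.card_pos (α := B)
    refine Nat.le_of_mul_le_mul_right ?_ hBpos
    rw [← hh]
    calc Nat.card ↥(P ⊔ B) * Nat.card ↥(P ⊓ B) ≤ (2 * Nat.card B) * Nat.card M₀ :=
          Nat.mul_le_mul (hle.trans hidx) hi
      _ = _ := by ring
  have hM₀2 : Nat.card M₀ ≤ 2 := Nat.le_of_mul_le_mul_right (hM₀sq.trans hPB) Nat.card_pos
  -- the offender bound on `S`
  set A₀ := A ⊓ Subgroup.centralizer (S : Set G) with hA₀
  have hAS : Nat.card S * Nat.card A₀ ≤ Nat.card A * 2 := by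
    have hE := elemAb_sup (Cfsg.Agent.PReduced.isElementaryAbelian_mono hAe (inf_le_left : A₀ ≤ A)) hSe inf_le_right
    have hle := hA.2.2 _ (sup_le (inf_le_left.trans hA.1) (hSU.trans hUT)) hE
    have hh := card_sup_mul_card_inf (H := S) (K := A₀)
      (inf_le_right.trans (Subgroup.centralizer_le_normalizer _))
    rw [← hh, sup_comm]
    refine Nat.mul_le_mul hle (le_trans (Nat.le_of_dvd Nat.card_pos (Subgroup.card_dvd_of_le ?_)) hM₀2)
    rintro x ⟨hxS, hxA, -⟩
    exact ⟨⟨hxS, Subgroup.mem_centralizer_singleton_iff.mpr (elem_comm hAe hxA ha)⟩,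
      Subgroup.mem_centralizer_iff.mpr fun b hb => elem_comm hAe (hBA hb) hxA⟩
  by_cases hMbot : M = ⊥
  · calc Nat.card ↥(Cfsg.wOf K) ≤ Nat.card S := Nat.le_of_dvd Nat.card_pos (Subgroup.card_dvd_of_le hW)
      _ ≤ Nat.card M * Nat.card M := hSM
      _ ≤ 4 := by rw [hMbot, Subgroup.card_bot]; norm_num
  have hBM : B ≤ Subgroup.normalizer (M : Set G) := by
    refine Subgroup.le_normalizer_iff.mpr fun b hb s hs => ⟨hbS b hb s hs.1, ?_⟩
    refine Subgroup.mem_centralizer_singleton_iff.mpr ?_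
    have hab : a * b = b * a := elem_comm hAe ha (hBA hb)
    have hsa : s * a = a * s := Subgroup.mem_centralizer_singleton_iff.mp hs.2
    calc b * s * b⁻¹ * a = b * s * (b⁻¹ * (a * b)) * b⁻¹ := by group
      _ = b * s * (b⁻¹ * (b * a)) * b⁻¹ := by rw [hab]
      _ = b * (s * a) * b⁻¹ := by group
      _ = b * (a * s) * b⁻¹ := by rw [hsa]
      _ = (b * a) * (s * b⁻¹) := by group
      _ = (a * b) * (s * b⁻¹) := by rw [hab]
      _ = a * (b * s * b⁻¹) := by group
  have huni := card_le_of_one_fixed (Cfsg.Agent.PReduced.isElementaryAbelian_mono hAe hBA) M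
    (Cfsg.Agent.PReduced.isElementaryAbelian_mono hSe inf_le_left) hBM hM₀2 hMbot
  have hgen : B ⊓ Subgroup.centralizer (M : Set G) ≤ A₀ := by
    rintro b ⟨hbB, hbM⟩
    refine ⟨hBA hbB, Subgroup.mem_centralizer_iff.mpr ?_⟩
    -- `b` fixes `M` and `e M`, hence `S`
    have hfixe : ∀ m ∈ M, b * e m * b⁻¹ = e m := fun m hm => by
      rw [hb' b hbB m (hSU hm.1), ← Subgroup.mem_centralizer_iff.mp hbM m hm, mul_inv_cancel_right]
    let f : ↥M × ↥M → ↥S := fun p => ⟨(p.1 : G) * e p.2, mul_mem p.1.2.1 (heS _ p.2.2.1)⟩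
    have hf : Function.Injective f := by
      intro p q h
      have h' : (p.1 : G) * e p.2 = q.1 * e q.2 := congrArg Subtype.val h
      have hi : (q.1 : G)⁻¹ * p.1 = e (q.2 * (p.2 : G)⁻¹) := by
        have einv : e (p.2 : G)⁻¹ = (e p.2)⁻¹ := by simp [e, mul_assoc]
        rw [hemul, einv, inv_mul_eq_iff_eq_mul, ← mul_assoc, eq_mul_inv_iff_mul_eq]
        exact h'
      have h1 := hcross _ (mul_mem (inv_mem q.1.2) p.1.2) _ (mul_mem q.2.2 (inv_mem p.2.2)) hi
      have hp1 : (q.1 : G) = p.1 := inv_mul_eq_one.mp h1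
      rw [← hp1] at h'
      have h2 : e p.2 = e q.2 := mul_left_cancel h'
      have hp2 : (p.2 : G) = q.2 := by rw [← he3 (p.2 : G), h2, he3]
      exact Prod.ext (Subtype.ext hp1.symm) (Subtype.ext hp2)
    have hbij := hf.bijective_of_nat_card_le (by rw [Nat.card_prod]; exact hSM)
    intro s hs
    obtain ⟨⟨m, m'⟩, hmm⟩ := hbij.2 ⟨s, hs⟩
    have : (m : G) * e m' = s := congrArg Subtype.val hmm
    rw [← this]
    have h1 : (m : G) * b = b * m := Subgroup.mem_centralizer_iff.mp hbM m m.2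
    have h2 : e (m' : G) * b = b * e m' := (mul_inv_eq_iff_eq_mul.mp (hfixe m' m'.2)).symm
    rw [mul_assoc, h2, ← mul_assoc, h1, mul_assoc]
  -- combine
  have hS2 : Nat.card M * Nat.card M ≤ Nat.card S := by
    have h1 : Nat.card (↥M × ↥M) ≤ Nat.card ↥S := Nat.card_le_card_of_injective
      (fun p => (⟨(p.1 : G) * e p.2, mul_mem p.1.2.1 (heS _ p.2.2.1)⟩ : ↥S)) (by
        intro p q h
        have h' : (p.1 : G) * e p.2 = q.1 * e q.2 := congrArg Subtype.val h
        have hi : (q.1 : G)⁻¹ * p.1 = e (q.2 * (p.2 : G)⁻¹) := by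
          have einv : e (p.2 : G)⁻¹ = (e p.2)⁻¹ := by simp [e, mul_assoc]
          rw [hemul, einv, inv_mul_eq_iff_eq_mul, ← mul_assoc, eq_mul_inv_iff_mul_eq]
          exact h'
        have h1 := hcross _ (mul_mem (inv_mem q.1.2) p.1.2) _ (mul_mem q.2.2 (inv_mem p.2.2)) hi
        have hp1 : (q.1 : G) = p.1 := inv_mul_eq_one.mp h1
        rw [← hp1] at h'
        have h2 : e p.2 = e q.2 := mul_left_cancel h'
        have hp2 : (p.2 : G) = q.2 := by rw [← he3 (p.2 : G), h2, he3]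
        exact Prod.ext (Subtype.ext hp1.symm) (Subtype.ext hp2))
    rwa [Nat.card_prod] at h1
  have hBC := Nat.le_of_dvd Nat.card_pos (Subgroup.card_dvd_of_le hgen)
  have hM2 : Nat.card M ≤ 2 := by
    have h := huni
    set n := Nat.card M
    set r := Nat.card A₀
    set bc := Nat.card ↥(B ⊓ Subgroup.centralizer (M : Set G))
    have h1 : n * n * r ≤ Nat.card A * 2 := le_trans (Nat.mul_le_mul_right _ hS2) hAS
    have h2 : n * n * r ≤ 2 * n * r :=
      h1.trans (by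
        calc Nat.card A * 2 ≤ 2 * (2 * Nat.card B) := by rw [mul_comm]; exact Nat.mul_le_mul_left _ hidx
          _ ≤ 2 * (n * bc) := Nat.mul_le_mul_left _ h
          _ ≤ 2 * (n * r) := Nat.mul_le_mul_left _ (Nat.mul_le_mul_left _ hBC)
          _ = 2 * n * r := by ring)
    exact Nat.le_of_mul_le_mul_right (Nat.le_of_mul_le_mul_right h2 Nat.card_pos) Nat.card_pos
  calc Nat.card ↥(Cfsg.wOf K) ≤ Nat.card S := Nat.le_of_dvd Nat.card_pos (Subgroup.card_dvd_of_le hW)
    _ ≤ Nat.card M * Nat.card M := hSM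
    _ ≤ 2 * 2 := Nat.mul_le_mul hM2 hM2

end Cfsg.Agent.JComp
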