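import Cfsg.Agent.Lib.JComp.Factor
import Cfsg.Agent.Lib.JComp.Base
import Cfsg.Agent.Lib.Solvable.Fitting

/-!
Structure of an overgroup `L` of a 2-subgroup `T` with `C(O₂(L)) ≤ O₂(L)` and `J(T) ≰ O₂(L)`.

* `Hyp`, `Setup`; `vOf` (the closure of `Ω₁(Z(T))` in `L`), `cOf`, `njOf`, `toX`, `toX_eq_one`, `smul_coe`
* `Setup.cOf_normalizes`, `Setup.mem_q_of_two`, `Setup.comm_nj`, `Setup.good`
* `Setup.vOf_le_jOf`, `Setup.le_lifts`, `Setup.exists_lift`, `Setup.toX_nj`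
-/

set_option autoImplicit false

namespace Cfsg.Agent.JComp

open Cfsg.Agent.PLocal

variable {G : Type*} [Group G]

/-- All 2-local subgroups are solvable of characteristic 2 and `C(Ω₁(Z(S))) ≤ N(S)`. -/
structure Hyp (G : Type*) [Group G] : Prop where
  char2 : Cfsg.IsCharacteristicTwoType G
  solv : ∀ N : Subgroup G, Cfsg.IsTwoLocal N → Group.IsSolvable ↥N
  cent : ∀ S : Sylow 2 G, Subgroup.centralizer (Cfsg.omegaCenterOf (S : Subgroup G) : Set G) ≤
    Subgroup.normalizer ((S : Subgroup G) : Set G)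

/-- `L` belongs to the overgroup family of `T`. -/
structure Setup (T L : Subgroup G) : Prop where
  hyp : Hyp G
  mem : L ∈ Cfsg.jOvergroups T

variable (T L : Subgroup G)

/-- The normal closure of `Ω₁(Z(T))` in `L`. -/
def vOf : Subgroup G :=
  Subgroup.closure {x | ∃ g ∈ L, ∃ z ∈ Cfsg.omegaCenterOf T, g * z * g⁻¹ = x}

/-- The kernel of the action of `L` on `vOf T L`. -/
def cOf : Subgroup G := L ⊓ Subgroup.centralizer (vOf T L : Set G)

/-- The normal closure of `J(T)` in `L`. -/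
def njOf : Subgroup G :=
  Subgroup.closure {x | ∃ g ∈ L, ∃ a ∈ Cfsg.thompsonSubgroupOf 2 T, g * a * g⁻¹ = x}

theorem vOf_normal : L ≤ Subgroup.normalizer (vOf T L : Set G) := by
  refine Subgroup.le_normalizer_iff.mpr fun h hh v hv => ?_
  have hle : vOf T L ≤ (vOf T L).comap (MulAut.conj h).toMonoidHom := by
    refine (Subgroup.closure_le _).mpr ?_
    rintro _ ⟨g, hg, z, hz, rfl⟩
    exact Subgroup.subset_closure ⟨h * g, mul_mem hh hg, z, hz, by simp [mul_assoc]⟩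
  exact hle hv

theorem njOf_normal : L ≤ Subgroup.normalizer (njOf T L : Set G) := by
  refine Subgroup.le_normalizer_iff.mpr fun h hh v hv => ?_
  have hle : njOf T L ≤ (njOf T L).comap (MulAut.conj h).toMonoidHom := by
    refine (Subgroup.closure_le _).mpr ?_
    rintro _ ⟨g, hg, z, hz, rfl⟩
    exact Subgroup.subset_closure ⟨h * g, mul_mem hh hg, z, hz, by simp [mul_assoc]⟩
  exact hle hv

theorem jOf_le_njOf : Cfsg.thompsonSubgroupOf 2 T ≤ njOf T L := fun a ha =>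
  Subgroup.subset_closure ⟨1, one_mem _, a, ha, by simp⟩

theorem omega_le_vOf : Cfsg.omegaCenterOf T ≤ vOf T L := fun z hz =>
  Subgroup.subset_closure ⟨1, one_mem _, z, hz, by simp⟩

theorem cOf_normal : L ≤ Subgroup.normalizer (cOf T L : Set G) :=
  Cfsg.Agent.LargeSub.le_normalizer_inf_centralizer (vOf_normal T L)

/-- The action of `L` on `vOf T L`. -/
def act : ↥L →* MulAut ↥(vOf T L) :=
  (vOf T L).normalizerMonoidHom.comp (Subgroup.inclusion (vOf_normal T L))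

/-- The image of the action. -/
def actRange : Subgroup (MulAut ↥(vOf T L)) := (act T L).range

/-- The action onto its image. -/
def toX : ↥L →* ↥(actRange T L) := (act T L).rangeRestrict

theorem toX_surjective : Function.Surjective (toX T L) := (act T L).rangeRestrict_surjective

theorem smul_coe (g : ↥L) (v : ↥(vOf T L)) :
    ((toX T L g • v : ↥(vOf T L)) : G) = (g : G) * v * (g : G)⁻¹ := rfl

theorem toX_eq_one {g : ↥L} : toX T L g = 1 ↔ (g : G) ∈ cOf T L := by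
  constructor
  · intro h
    refine ⟨g.2, Subgroup.mem_centralizer_iff.mpr fun v hv => ?_⟩
    have h2 := smul_coe T L g ⟨v, hv⟩
    rw [h, one_smul] at h2
    conv_lhs => rw [show v = (g : G) * v * (g : G)⁻¹ from h2]
    group
  · intro h
    refine eq_of_smul_eq_smul (α := ↥(vOf T L)) fun v => Subtype.ext ?_
    rw [smul_coe, one_smul, ← Subgroup.mem_centralizer_iff.mp h.2 v v.2, mul_inv_cancel_right]

theorem toX_eq_iff {g h : ↥L} : toX T L g = toX T L h ↔ (g : G)⁻¹ * h ∈ cOf T L := by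
  rw [← inv_mul_eq_one, ← map_inv, ← map_mul, toX_eq_one]
  rfl

variable {T L} [Finite G]

namespace Setup

variable (hs : Setup T L)
include hs

theorem sylow : Cfsg.IsSylowTwoIn T L := hs.mem.1

theorem cent_q : Subgroup.centralizer (Cfsg.pCoreOf 2 L : Set G) ≤ Cfsg.pCoreOf 2 L := hs.mem.2.2

theorem q_le : Cfsg.pCoreOf 2 L ≤ T := by
  haveI : Fact (Nat.Prime 2) := ⟨Nat.prime_two⟩
  obtain ⟨P, hP⟩ := exists_sylow hs.sylow
  rw [← hP]
  exact Subgroup.map_mono (Cfsg.Agent.PReduced.pCore_le_sylow P)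

theorem q_ne_bot : Cfsg.pCoreOf 2 L ≠ ⊥ := by
  intro h
  have h1 := hs.cent_q
  rw [h] at h1
  obtain ⟨k, hk⟩ := hs.hyp.char2.1
  have htop : (⊤ : Subgroup G) ≤ ⊥ := by
    refine le_trans ?_ h1
    intro x _
    rw [Subgroup.mem_centralizer_iff]
    intro y hy
    rw [SetLike.mem_coe, Subgroup.mem_bot] at hy
    simp [hy]
  have := Nat.card_congr (Subgroup.topEquiv (G := G)).toEquiv
  rw [le_bot_iff.mp htop, Subgroup.card_bot] at this
  omega

theorem isSolvable : Group.IsSolvable ↥L :=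
  Cfsg.Agent.Coprime.isSolvable_of_le (Cfsg.Agent.LargeSub.self_le_normalizer_pCoreOf (p := 2) L)
    (hs.hyp.solv _ ⟨_, Cfsg.Agent.LargeSub.isPGroup_pCoreOf L, hs.q_ne_bot, rfl⟩)

theorem omega_le_q : Cfsg.omegaCenterOf T ≤ Cfsg.pCoreOf 2 L := by
  intro z hz
  obtain ⟨-, hzc, -⟩ := mem_omegaCenterOf.mp hz
  exact hs.cent_q (Subgroup.mem_centralizer_iff.mpr fun q hq => hzc q (hs.q_le hq))

theorem vOf_le : vOf T L ≤ Cfsg.omegaCenterOf (Cfsg.pCoreOf 2 L) := by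
  refine (Subgroup.closure_le _).mpr ?_
  rintro _ ⟨g, hg, z, hz, rfl⟩
  obtain ⟨-, hzc, hz2⟩ := mem_omegaCenterOf.mp hz
  have hgN := Cfsg.Agent.LargeSub.self_le_normalizer_pCoreOf (p := 2) L hg
  refine mem_omegaCenterOf.mpr ⟨(Subgroup.mem_normalizer_iff.mp hgN z).mp (hs.omega_le_q hz), fun q hq => ?_, ?_⟩
  · have hq' := (Subgroup.mem_normalizer_iff''.mp hgN q).mp hq
    calc q * (g * z * g⁻¹) = g * ((g⁻¹ * q * g) * z) * g⁻¹ := by group
      _ = g * (z * (g⁻¹ * q * g)) * g⁻¹ := by rw [hzc _ (hs.q_le hq')]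
      _ = g * z * g⁻¹ * q := by group
  · calc g * z * g⁻¹ * (g * z * g⁻¹) = g * (z * z) * g⁻¹ := by group
      _ = 1 := by rw [hz2]; group

theorem vOf_le_q : vOf T L ≤ Cfsg.pCoreOf 2 L := hs.vOf_le.trans (omegaCenterOf_le _)

theorem exp2 : Exp2 ↥(vOf T L) := fun v => Subtype.ext (mem_omegaCenterOf.mp (hs.vOf_le v.2)).2.2

theorem vOf_comm {u v : G} (hu : u ∈ vOf T L) (hv : v ∈ vOf T L) : u * v = v * u :=
  (mem_omegaCenterOf.mp (hs.vOf_le hv)).2.1 u (hs.vOf_le_q hu)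

theorem vOf_elementary : Cfsg.IsElementaryAbelian 2 (vOf T L) :=
  ⟨Cfsg.Agent.PReduced.isMulCommutative_of_forall fun _ ha _ hb => hs.vOf_comm ha hb,
    fun a ha => by rw [pow_two]; exact (mem_omegaCenterOf.mp (hs.vOf_le ha)).2.2⟩

theorem q_le_cOf : Cfsg.pCoreOf 2 L ≤ cOf T L := fun q hq =>
  ⟨Cfsg.Agent.LargeSub.pCoreOf_le L hq, Subgroup.mem_centralizer_iff.mpr fun _ hv =>
    ((mem_omegaCenterOf.mp (hs.vOf_le hv)).2.1 q hq).symm⟩

theorem cOf_normalizes : cOf T L ≤ Subgroup.normalizer (T : Set G) := by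
  haveI : Fact (Nat.Prime 2) := ⟨Nat.prime_two⟩
  obtain ⟨S, hS⟩ := hs.sylow.2.1.exists_le_sylow
  intro c hc
  have hcS : c ∈ Subgroup.normalizer ((S : Subgroup G) : Set G) := by
    refine hs.hyp.cent S (Subgroup.mem_centralizer_iff.mpr fun z hz => ?_)
    obtain ⟨-, hzc, hz2⟩ := mem_omegaCenterOf.mp hz
    have hzQ : z ∈ Cfsg.pCoreOf 2 L :=
      hs.cent_q (Subgroup.mem_centralizer_iff.mpr fun q hq => hzc q (hS (hs.q_le hq)))
    have hzT : z ∈ Cfsg.omegaCenterOf T :=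
      mem_omegaCenterOf.mpr ⟨hs.q_le hzQ, fun t ht => hzc t (hS ht), hz2⟩
    exact Subgroup.mem_centralizer_iff.mp hc.2 z (omega_le_vOf T L hzT)
  have hST : (S : Subgroup G) ⊓ L = T :=
    eq_of_le_twoGroup hs.sylow (S.isPGroup'.to_le inf_le_left) inf_le_right (le_inf hS hs.sylow.1)
  rw [← hST]
  exact Subgroup.inf_normalizer_le_normalizer_inf ⟨hcS, Subgroup.le_normalizer hc.1⟩

theorem inf_cOf_le : T ⊓ cOf T L ≤ Cfsg.pCoreOf 2 L := by
  have h1 : T ⊓ cOf T L ≤ Cfsg.pCoreOf 2 (cOf T L) :=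
    Cfsg.Agent.LargeSub.le_pCoreOf inf_le_right
      ((le_inf hs.cOf_normalizes Subgroup.le_normalizer).trans Subgroup.inf_normalizer_le_normalizer_inf)
      (hs.sylow.2.1.to_le inf_le_left)
  have h2 : Cfsg.pCoreOf 2 (cOf T L) ≤ Cfsg.pCoreOf 2 L :=
    Cfsg.Agent.LargeSub.le_pCoreOf ((Cfsg.Agent.LargeSub.pCoreOf_le _).trans inf_le_left)
      ((cOf_normal T L).trans (Cfsg.Agent.LargeSub.le_normalizer_pCoreOf _))
      (Cfsg.Agent.LargeSub.isPGroup_pCoreOf _)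
  exact h1.trans h2

/-- A 2-element of the kernel lies in `O₂(L)`. -/
theorem mem_q_of_two {g : G} (hg : g ∈ cOf T L) (h2 : IsPGroup 2 ↥(Subgroup.zpowers g)) :
    g ∈ Cfsg.pCoreOf 2 L := by
  obtain ⟨h, hh, hle⟩ := exists_conj_le hs.sylow h2 (Subgroup.zpowers_le.mpr hg.1)
  obtain ⟨t, ht, rfl⟩ := hle (Subgroup.mem_zpowers g)
  have hN := Cfsg.Agent.LargeSub.self_le_normalizer_pCoreOf (p := 2) L hh
  refine (Subgroup.mem_normalizer_iff.mp hN t).mp (hs.inf_cOf_le ⟨ht, ?_⟩)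
  exact (Subgroup.mem_normalizer_iff.mp (cOf_normal T L hh) t).mpr hg

/-- An element of the kernel with square in `O₂(L)` lies there. -/
theorem mem_q_of_sq {g : G} (hg : g ∈ cOf T L) (h2 : g * g ∈ Cfsg.pCoreOf 2 L) :
    g ∈ Cfsg.pCoreOf 2 L := by
  refine hs.mem_q_of_two hg ?_
  obtain ⟨k, hk⟩ := Cfsg.Agent.LargeSub.isPGroup_pCoreOf (p := 2) L ⟨_, h2⟩
  have hg1 : g ^ 2 ^ (k + 1) = 1 := by
    rw [pow_succ', pow_mul, pow_two]; exact congrArg Subtype.val hk
  intro ⟨y, hy⟩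
  obtain ⟨m, rfl⟩ := Subgroup.mem_zpowers_iff.mp hy
  refine ⟨k + 1, Subtype.ext ?_⟩
  show (g ^ m) ^ 2 ^ (k + 1) = 1
  rw [← zpow_natCast, ← zpow_mul, mul_comm, zpow_mul, zpow_natCast, hg1, one_zpow]

theorem njOf_le : njOf T L ≤ L := by
  refine (Subgroup.closure_le _).mpr ?_
  rintro _ ⟨g, hg, a, ha, rfl⟩
  exact mul_mem (mul_mem hg (hs.sylow.1 (jOf_le T ha))) (inv_mem hg)

theorem comm_T {c t : G} (hc : c ∈ cOf T L) (ht : t ∈ T) : c * t * c⁻¹ * t⁻¹ ∈ Cfsg.pCoreOf 2 L := by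
  refine hs.inf_cOf_le ⟨T.mul_mem ((Subgroup.mem_normalizer_iff.mp (hs.cOf_normalizes hc) t).mp ht) (T.inv_mem ht), ?_⟩
  have h := (Subgroup.mem_normalizer_iff.mp (cOf_normal T L (hs.sylow.1 ht)) c⁻¹).mp (inv_mem hc)
  simpa [mul_assoc] using mul_mem hc h

/-- The kernel centralises the normal closure of `J(T)` modulo `O₂(L)`. -/
theorem comm_nj {c n : G} (hc : c ∈ cOf T L) (hn : n ∈ njOf T L) :
    c * n * c⁻¹ * n⁻¹ ∈ Cfsg.pCoreOf 2 L := by
  have hQ := Cfsg.Agent.LargeSub.self_le_normalizer_pCoreOf (p := 2) L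
  suffices h : n ∈ L ∧ ∀ c ∈ cOf T L, c * n * c⁻¹ * n⁻¹ ∈ Cfsg.pCoreOf 2 L from h.2 c hc
  clear hc c
  induction hn using Subgroup.closure_induction with
  | mem x hx =>
    obtain ⟨g, hg, a, ha, rfl⟩ := hx
    refine ⟨mul_mem (mul_mem hg (hs.sylow.1 (jOf_le T ha))) (inv_mem hg), fun c hc => ?_⟩
    have hc' := (Subgroup.mem_normalizer_iff''.mp (cOf_normal T L hg) c).mp hc
    have h := (Subgroup.mem_normalizer_iff.mp (hQ hg) _).mp (hs.comm_T hc' (jOf_le T ha))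
    simpa [mul_assoc] using h
  | one => exact ⟨one_mem _, fun c _ => by simp⟩
  | mul m n _ _ hm hn =>
    refine ⟨mul_mem hm.1 hn.1, fun c hc => ?_⟩
    have h := mul_mem (hm.2 c hc) ((Subgroup.mem_normalizer_iff.mp (hQ hm.1) _).mp (hn.2 c hc))
    simpa [mul_assoc] using h
  | inv m _ hm =>
    refine ⟨inv_mem hm.1, fun c hc => ?_⟩
    have h := (Subgroup.mem_normalizer_iff''.mp (hQ hm.1) _).mp (inv_mem (hm.2 c hc))
    simpa [mul_assoc] using h

theorem good : Good (Cfsg.fittingSubgroup ↥(actRange T L)) := by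
  haveI : Fact (Nat.Prime 2) := ⟨Nat.prime_two⟩
  haveI := hs.isSolvable
  haveI : Group.IsSolvable ↥(actRange T L) := Group.isSolvable_of_surjective (toX_surjective T L)
  have hcore : Cfsg.pCore 2 ↥(actRange T L) = ⊥ := by
    set R := (Cfsg.pCore 2 ↥(actRange T L)).comap (toX T L) with hR
    haveI : R.Normal := (Cfsg.Agent.PReduced.pCore_normal 2 _).comap _
    set C := (cOf T L).subgroupOf L with hC
    have hCR : C ≤ R := fun c hc => by
      rw [hR, Subgroup.mem_comap]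
      rw [(toX_eq_one T L).mpr hc]; exact one_mem _
    haveI : C.Normal := Cfsg.Agent.Cores.subgroupOf_normal_of_le_normalizer (cOf_normal T L)
    obtain ⟨P, hP⟩ := exists_sylow hs.sylow
    have hmod : Cfsg.Agent.PReduced.pMod 2 C R := fun r hr => by
      obtain ⟨k, hk⟩ := Cfsg.Agent.PReduced.isPGroup_pCore (G := ↥(actRange T L)) 2 ⟨_, hr⟩
      refine ⟨k, ?_⟩
      show ((r ^ 2 ^ k : ↥L) : G) ∈ cOf T L
      refine (toX_eq_one T L).mp ?_
      rw [map_pow]; exact congrArg Subtype.val hk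
    have hPR := Cfsg.Agent.PReduced.eq_sup_sylow_inf_of_pMod P hCR hmod
    have hCP : C ≤ Subgroup.normalizer ((P : Subgroup ↥L) : Set ↥L) := fun c hc => by
      rw [Subgroup.mem_normalizer_iff]
      intro y
      have h := Subgroup.mem_normalizer_iff.mp (hs.cOf_normalizes hc) (y : G)
      rw [← hP] at h
      exact ⟨fun hy => (Subgroup.mem_map_iff_mem L.subtype_injective).mp (h.mp (Subgroup.mem_map_of_mem _ hy)),
        fun hy => (Subgroup.mem_map_iff_mem L.subtype_injective).mp (h.mpr (Subgroup.mem_map_of_mem L.subtype hy))⟩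
    have hRN : R ≤ Subgroup.normalizer (((P : Subgroup ↥L) ⊓ R : Subgroup ↥L) : Set ↥L) := by
      conv_lhs => rw [hPR]
      refine sup_le ?_ Subgroup.le_normalizer
      exact (le_inf hCP (le_top.trans (Subgroup.normalizer_eq_top_iff.mpr ‹R.Normal›).ge)).trans
        Subgroup.inf_normalizer_le_normalizer_inf
    have h1 : (P : Subgroup ↥L) ⊓ R ≤ Cfsg.pCoreOf 2 R :=
      Cfsg.Agent.LargeSub.le_pCoreOf inf_le_right hRN (P.isPGroup'.to_le inf_le_left)
    have h2 : Cfsg.pCoreOf 2 R ≤ Cfsg.pCore 2 ↥L :=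
      Cfsg.Agent.PReduced.le_pCore (Cfsg.Agent.PReduced.pCore_map_subtype_normal inferInstance 2)
        (Cfsg.Agent.LargeSub.isPGroup_pCoreOf R)
    have h3 : R ≤ C := by
      rw [hPR]
      exact sup_le le_rfl ((h1.trans h2).trans fun y hy => hs.q_le_cOf ⟨y, hy, rfl⟩)
    rw [Subgroup.eq_bot_iff_forall]
    intro x hx
    obtain ⟨g, rfl⟩ := toX_surjective T L x
    exact (toX_eq_one T L).mpr (h3 hx)
  refine ⟨fun g f hf => (Cfsg.Agent.Cores.fittingSubgroup_normal _).conj_mem f hf g, ?_,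
    Cfsg.Agent.Cores.fittingSubgroup_isNilpotent, Cfsg.Agent.Solvable.centralizer_fitting_le _⟩
  rw [← Nat.not_even_iff_odd, even_iff_two_dvd]
  intro h2
  obtain ⟨P⟩ := (inferInstance : Nonempty (Sylow 2 ↥(Cfsg.fittingSubgroup ↥(actRange T L))))
  refine P.ne_bot_of_dvd_card h2 ?_
  rw [← Cfsg.Agent.Cores.pCore_eq_sylow P]
  refine (Subgroup.map_eq_bot_iff_of_injective _ (Subgroup.subtype_injective _)).mp ?_
  rw [Cfsg.Agent.Cores.pCore_fittingSubgroup, hcore]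

/-- The transvections in the image of an offender, and `V ≤ J(T)`. -/
theorem maxElem_data {A : Subgroup G} (hA : A ∈ maxElem T) :
    vOf T L ≤ Cfsg.thompsonSubgroupOf 2 T ∧
      ∀ a ∈ A, ∃ b ∈ Subgroup.closure {t | t ∈ A ∧ ∃ ht : t ∈ L, IsTransv hs.exp2 (toX T L ⟨t, ht⟩)},
        b⁻¹ * a ∈ cOf T L := by
  set V := vOf T L with hVdef
  have hAL : A ≤ L := (mem_maxElem.mp hA).1.trans hs.sylow.1
  have hAe := (mem_maxElem.mp hA).2.1
  set A' : Subgroup ↥(actRange T L) := (A.subgroupOf L).map (toX T L) with hA'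
  have helem : ElemTwo A' := by
    refine ⟨?_, ?_⟩
    · rintro _ ⟨a, ha, rfl⟩
      rw [← map_mul, show a * a = 1 from Subtype.ext (elem_mul_self hAe ha), map_one]
    · rintro _ ⟨a, ha, rfl⟩ _ ⟨b, hb, rfl⟩
      rw [← map_mul, ← map_mul, show a * b = b * a from Subtype.ext (elem_comm hAe ha hb)]
  set A₀ := A ⊓ cOf T L with hA₀
  -- `A₀ V` is elementary abelian in `T`
  have hcV : A₀ ≤ Subgroup.centralizer (V : Set G) := inf_le_right.trans inf_le_right
  have hE : Cfsg.IsElementaryAbelian 2 (A₀ ⊔ V) :=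
    elemAb_sup (Cfsg.Agent.PReduced.isElementaryAbelian_mono hAe inf_le_left) hs.vOf_elementary hcV
  have hET : A₀ ⊔ V ≤ T := sup_le (inf_le_left.trans hA.1) (hs.vOf_le_q.trans hs.q_le)
  have hle := hA.2.2 _ hET hE
  have hnorm : A₀ ≤ Subgroup.normalizer (V : Set G) := (inf_le_left.trans hAL).trans (vOf_normal T L)
  have hprod : Nat.card ↥(A₀ ⊔ V) * Nat.card ↥(A₀ ⊓ V) = Nat.card A₀ * Nat.card V :=
    Cfsg.Agent.PLocal.card_sup_mul_card_inf
      ((Subgroup.le_centralizer_iff.mp hcV).trans (Subgroup.centralizer_le_normalizer _))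
  have hker : Nat.card A' * Nat.card A₀ = Nat.card A := by
    have h := Subgroup.card_eq_card_quotient_mul_card_subgroup (((toX T L).comp (Subgroup.inclusion hAL)).ker)
    have hk : ((toX T L).comp (Subgroup.inclusion hAL)).ker = A₀.subgroupOf A := by
      ext a
      rw [MonoidHom.mem_ker, MonoidHom.comp_apply, toX_eq_one, Subgroup.mem_subgroupOf]
      exact ⟨fun h => ⟨a.2, h⟩, fun h => h.2⟩
    have hr : ((toX T L).comp (Subgroup.inclusion hAL)).range = A' := by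
      rw [MonoidHom.range_comp, hA']
      congr 1
      ext y
      exact ⟨fun ⟨a, ha⟩ => ha ▸ a.2, fun hy => ⟨⟨y, hy⟩, rfl⟩⟩
    rw [Nat.card_congr (QuotientGroup.quotientKerEquivRange _).toEquiv, hr, hk,
      Nat.card_congr (Subgroup.subgroupOfEquivOfLe (show A₀ ≤ A from inf_le_left)).toEquiv] at h
    exact h.symm
  -- the fixed points
  have hfix : (fixedSub (A' : Set ↥(actRange T L)) : Subgroup ↥V) =
      (Subgroup.centralizer (A : Set G)).subgroupOf V := by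
    ext v
    rw [mem_fixedSub, Subgroup.mem_subgroupOf, Subgroup.mem_centralizer_iff]
    constructor
    · intro h a ha
      have h1 := congrArg Subtype.val (h _ ⟨⟨a, hAL ha⟩, ha, rfl⟩)
      rw [smul_coe] at h1
      exact mul_inv_eq_iff_eq_mul.mp h1
    · rintro h _ ⟨a, ha, rfl⟩
      refine Subtype.ext ?_
      rw [smul_coe, h a ha, mul_inv_cancel_right]
  have hVA : A₀ ⊓ V ≤ Subgroup.centralizer (A : Set G) := fun v hv =>
    Subgroup.mem_centralizer_iff.mpr fun a ha => elem_comm hAe ha hv.1.1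
  have hidx : (fixedSub (A' : Set ↥(actRange T L)) : Subgroup ↥V).index ≤ Nat.card A' := by
    have h1 := ((fixedSub (A' : Set ↥(actRange T L)) : Subgroup ↥V)).card_mul_index
    have h2 : Nat.card ↥(A₀ ⊓ V) ≤ Nat.card (fixedSub (A' : Set ↥(actRange T L)) : Subgroup ↥V) := by
      rw [hfix, ← Nat.card_congr (Subgroup.subgroupOfEquivOfLe (show A₀ ⊓ V ≤ V from inf_le_right)).toEquiv]
      exact Nat.le_of_dvd Nat.card_pos (Subgroup.card_dvd_of_le fun v hv => hVA hv)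
    set i := (fixedSub (A' : Set ↥(actRange T L)) : Subgroup ↥V).index
    have hA0pos := Nat.card_pos (α := A₀)
    have hinfpos := Nat.card_pos (α := ↥(A₀ ⊓ V))
    -- `|A₀| |V| ≤ |A| |A₀ ∩ V|`
    have h3 : Nat.card A₀ * Nat.card V ≤ Nat.card A' * Nat.card A₀ * Nat.card ↥(A₀ ⊓ V) := by
      rw [← hprod, hker]; exact Nat.mul_le_mul_right _ hle
    have h4 : Nat.card ↥(A₀ ⊓ V) * i ≤ Nat.card V := h1 ▸ Nat.mul_le_mul_right _ h2
    have h5 : Nat.card A₀ * (Nat.card ↥(A₀ ⊓ V) * i) ≤ Nat.card A₀ * (Nat.card ↥(A₀ ⊓ V) * Nat.card A') :=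
      (Nat.mul_le_mul_left _ h4).trans (h3.trans (le_of_eq (by ring)))
    exact Nat.le_of_mul_le_mul_left (Nat.le_of_mul_le_mul_left h5 hA0pos) hinfpos
  have hgen := offender_gen hs.exp2 hs.good A' helem hidx
  refine ⟨?_, fun a ha => ?_⟩
  · -- equality: `A₀ V` is of largest order
    have hlow := offender_le hs.exp2 hs.good A' helem
    have h1 := ((fixedSub (A' : Set ↥(actRange T L)) : Subgroup ↥V)).card_mul_index
    set i := (fixedSub (A' : Set ↥(actRange T L)) : Subgroup ↥V).index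
    have heqi : i = Nat.card A' := le_antisymm hidx hlow
    -- `|V : A₀ ∩ V| ≥ |A'|`
    have h2 : Nat.card (fixedSub (A' : Set ↥(actRange T L)) : Subgroup ↥V) * Nat.card A' = Nat.card V := by
      rw [← heqi]; exact h1
    have h3 : Nat.card ↥(A₀ ⊓ V) ≤ Nat.card (fixedSub (A' : Set ↥(actRange T L)) : Subgroup ↥V) := by
      rw [hfix, ← Nat.card_congr (Subgroup.subgroupOfEquivOfLe (show A₀ ⊓ V ≤ V from inf_le_right)).toEquiv]
      exact Nat.le_of_dvd Nat.card_pos (Subgroup.card_dvd_of_le fun v hv => hVA hv)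
    have h4 : Nat.card A * Nat.card ↥(A₀ ⊓ V) ≤ Nat.card ↥(A₀ ⊔ V) * Nat.card ↥(A₀ ⊓ V) := by
      rw [hprod, ← hker, ← h2]
      calc Nat.card A' * Nat.card A₀ * Nat.card ↥(A₀ ⊓ V)
          ≤ Nat.card A' * Nat.card A₀ * Nat.card (fixedSub (A' : Set ↥(actRange T L)) : Subgroup ↥V) :=
            Nat.mul_le_mul_left _ h3
        _ = _ := by ring
    have h5 := Nat.le_of_mul_le_mul_right h4 Nat.card_pos
    exact le_sup_right.trans (le_jOf ⟨hET, hE, fun B hB hBe => (hA.2.2 B hB hBe).trans h5⟩)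
  · have h := hgen ⟨⟨a, hAL ha⟩, ha, rfl⟩
    set S : Set G := {t | t ∈ A ∧ ∃ ht : t ∈ L, IsTransv hs.exp2 (toX T L ⟨t, ht⟩)}
    have hle' : Subgroup.closure {t | t ∈ A' ∧ IsTransv hs.exp2 t} ≤
        ((Subgroup.closure S).subgroupOf L).map (toX T L) := by
      refine (Subgroup.closure_le _).mpr ?_
      rintro _ ⟨⟨b, hb, rfl⟩, hbt⟩
      exact ⟨b, Subgroup.subset_closure ⟨hb, b.2, hbt⟩, rfl⟩
    obtain ⟨b, hb, hbe⟩ := hle' h
    exact ⟨b, hb, (toX_eq_iff T L).mp hbe⟩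

/-- An involution of `J(T)` inducing a transvection. -/
theorem exists_lift : ∃ A ∈ maxElem T, ∃ a ∈ A, ∃ ha : a ∈ L, IsTransv hs.exp2 (toX T L ⟨a, ha⟩) := by
  by_contra hno
  push Not at hno
  refine hs.mem.2.1 (jOf_le_iff.mpr fun A hA a ha => hs.inf_cOf_le ⟨hA.1 ha, ?_⟩)
  obtain ⟨b, hb, hbc⟩ := (hs.maxElem_data hA).2 a ha
  have hle : Subgroup.closure {t | t ∈ A ∧ ∃ ht : t ∈ L, IsTransv hs.exp2 (toX T L ⟨t, ht⟩)} ≤ (⊥ : Subgroup G) :=
    (Subgroup.closure_le _).mpr fun t ⟨htA, ht, htt⟩ => absurd htt (hno A hA t htA ht)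
  rw [Subgroup.mem_bot.mp (hle hb), inv_one, one_mul] at hbc
  exact hbc

theorem vOf_le_jOf : vOf T L ≤ Cfsg.thompsonSubgroupOf 2 T := by
  obtain ⟨A, hA⟩ := exists_maxElem T
  exact (hs.maxElem_data hA).1

/-- The image of the normal closure of `J(T)` is generated by transvections. -/
theorem toX_nj {n : G} (hn : n ∈ njOf T L) :
    toX T L ⟨n, hs.njOf_le hn⟩ ∈ nSub hs.exp2 hs.good := by
  haveI := nSub_normal hs.exp2 hs.good
  let R : Subgroup G := ((nSub hs.exp2 hs.good).comap (toX T L)).map L.subtype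
  have hle : njOf T L ≤ R := by
    refine (Subgroup.closure_le _).mpr ?_
    rintro _ ⟨g, hg, a, ha, rfl⟩
    have hJ : Cfsg.thompsonSubgroupOf 2 T ≤ R := by
      refine jOf_le_iff.mpr fun A hA b hb => ?_
      have hAL : A ≤ L := hA.1.trans hs.sylow.1
      obtain ⟨c, hc, hcb⟩ := (hs.maxElem_data hA).2 b hb
      have hle : Subgroup.closure {t | t ∈ A ∧ ∃ ht : t ∈ L, IsTransv hs.exp2 (toX T L ⟨t, ht⟩)} ≤ R :=
        (Subgroup.closure_le _).mpr fun t ⟨_, ht, htt⟩ =>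
          ⟨⟨t, ht⟩, Subgroup.subset_closure htt, rfl⟩
      have hcR := hle hc
      have hcbL : c⁻¹ * b ∈ L := (Subgroup.mem_inf.mp hcb).1
      have hcbR : c⁻¹ * b ∈ R := ⟨⟨_, hcbL⟩, by
        rw [SetLike.mem_coe, Subgroup.mem_comap, (toX_eq_one T L).mpr hcb]; exact one_mem _, rfl⟩
      simpa using mul_mem hcR hcbR
    obtain ⟨y, hy, rfl⟩ := hJ ha
    refine ⟨⟨g, hg⟩ * y * ⟨g, hg⟩⁻¹, ?_, rfl⟩
    rw [SetLike.mem_coe, Subgroup.mem_comap]
    rw [map_mul, map_mul, map_inv]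
    exact (inferInstance : (nSub hs.exp2 hs.good).Normal).conj_mem _ hy _
  obtain ⟨y, hy, hyn⟩ := hle hn
  have : y = ⟨n, hs.njOf_le hn⟩ := Subtype.ext hyn
  exact this ▸ hy

end Setup

end Cfsg.Agent.JComp
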