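import Cfsg.Agent.Lib.JComp.Root
import Cfsg.Agent.Lib.JComp.Overgroup
import Cfsg.Agent.Lib.JComp.Four

/-!
`J(T)`-components inside an overgroup `L`: they correspond to roots of `L / O₂(L)`.

* `toBar`, `fBar`, `nBar`, `jBar`, `compOf`, `wImage`, `Setup.cover`, `Setup.frattini`
* `Setup.isComp_compOf`, `Setup.exists_root_of_comp`, `Setup.wOf_compOf`, `Setup.exists_comp`
* `Setup.conj_comp`, `Setup.comp_eq_of_wOf`, `Setup.njOf_le_normalizer_comp`, `Setup.njOf_le_of_comps`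
-/

set_option autoImplicit false

namespace Cfsg.Agent.JComp

open Cfsg.Agent.PLocal
open scoped commutatorElement

variable {G : Type*} [Group G]

/-- An element of `C·q` of odd order with `q` a 2-element lies in `C`. -/
theorem mem_of_pow_two {C : Subgroup G} {g : G} (hg : Odd (orderOf g)) {n : ℕ} (h : g ^ 2 ^ n ∈ C) :
    g ∈ C := by
  obtain ⟨k, hk⟩ := exists_pow_eq_self_of_coprime (x := g)
    (Nat.Coprime.pow_left n (Nat.coprime_two_left.mpr hg))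
  rw [← hk]; exact pow_mem h k

theorem pow_two_of_mem {P : Subgroup G} (hP : IsPGroup 2 P) {x : G} (hx : x ∈ P) : ∃ n : ℕ, x ^ 2 ^ n = 1 := by
  obtain ⟨n, hn⟩ := hP ⟨x, hx⟩
  exact ⟨n, congrArg Subtype.val hn⟩

/-- An element of odd order of `C·P`, with the 2-group `P` normalising `C`, lies in `C`. -/
theorem mem_left_of_odd {C P : Subgroup G} (hP : IsPGroup 2 P) (hn : P ≤ Subgroup.normalizer (C : Set G))
    {c q : G} (hc : c ∈ C) (hq : q ∈ P) (hodd : Odd (orderOf (c * q))) : c * q ∈ C := by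
  obtain ⟨n, hn'⟩ := pow_two_of_mem hP hq
  refine mem_of_pow_two hodd (n := n) ?_
  have key : ∀ m : ℕ, (c * q) ^ m * (q ^ m)⁻¹ ∈ C := by
    intro m
    induction m with
    | zero => simp
    | succ m ih =>
      have h1 := (Subgroup.mem_normalizer_iff.mp (hn (pow_mem hq (m))) c).mp hc
      have e : (c * q) ^ (m + 1) * (q ^ (m + 1))⁻¹ = (c * q) ^ m * (q ^ m)⁻¹ * (q ^ m * c * (q ^ m)⁻¹) := by
        rw [pow_succ, pow_succ]; group
      rw [e]; exact mul_mem ih h1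
  simpa [hn'] using key (2 ^ n)

theorem mem_pCoreOf_iff {L : Subgroup G} {g : ↥L} : (g : G) ∈ Cfsg.pCoreOf 2 L ↔ g ∈ Cfsg.pCore 2 ↥L :=
  Subgroup.mem_map_iff_mem L.subtype_injective

/-- The map to `L / O₂(L)`. -/
def toBar (L : Subgroup G) : ↥L →* ↥L ⧸ Cfsg.pCore 2 ↥L := QuotientGroup.mk' _

theorem toBar_surjective (L : Subgroup G) : Function.Surjective (toBar L) := QuotientGroup.mk'_surjective _

theorem toBar_eq_one {L : Subgroup G} {g : ↥L} : toBar L g = 1 ↔ (g : G) ∈ Cfsg.pCoreOf 2 L := by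
  rw [mem_pCoreOf_iff]; exact QuotientGroup.eq_one_iff g

theorem toBar_eq_iff {L : Subgroup G} {g h : ↥L} :
    toBar L g = toBar L h ↔ (g : G)⁻¹ * h ∈ Cfsg.pCoreOf 2 L := by
  rw [← inv_mul_eq_one, ← map_inv, ← map_mul, toBar_eq_one]
  rfl

variable (T L : Subgroup G)

/-- The image of the normal closure of `J(T)`. -/
def nBar : Subgroup (↥L ⧸ Cfsg.pCore 2 ↥L) := ((njOf T L).subgroupOf L).map (toBar L)

/-- The image of `J(T)`. -/
def jBar : Subgroup (↥L ⧸ Cfsg.pCore 2 ↥L) :=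
  ((Cfsg.thompsonSubgroupOf 2 T).subgroupOf L).map (toBar L)

theorem jBar_le_nBar : jBar T L ≤ nBar T L :=
  Subgroup.map_mono fun _ hx => jOf_le_njOf T L hx

/-- The subgroup generated by the elements of odd order above `⟨y⟩`. -/
def compOf (y : ↥L ⧸ Cfsg.pCore 2 ↥L) : Subgroup G :=
  Subgroup.closure {g | ∃ hg : g ∈ L, Odd (orderOf g) ∧ toBar L ⟨g, hg⟩ ∈ Subgroup.zpowers y}

theorem compOf_le (y : ↥L ⧸ Cfsg.pCore 2 ↥L) : compOf L y ≤ L :=
  (Subgroup.closure_le _).mpr fun _ ⟨hg, _⟩ => hg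

theorem toBar_compOf {y : ↥L ⧸ Cfsg.pCore 2 ↥L} {g : ↥L} (hg : (g : G) ∈ compOf L y) :
    toBar L g ∈ Subgroup.zpowers y := by
  have hle : compOf L y ≤ ((Subgroup.zpowers y).comap (toBar L)).map L.subtype :=
    (Subgroup.closure_le _).mpr fun x ⟨hx, _, hxy⟩ => ⟨⟨x, hx⟩, hxy, rfl⟩
  exact (Subgroup.mem_map_iff_mem L.subtype_injective).mp (hle hg)

theorem compOf_inv (y : ↥L ⧸ Cfsg.pCore 2 ↥L) : compOf L y⁻¹ = compOf L y := by
  unfold compOf
  rw [Subgroup.zpowers_inv]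

theorem compOf_congr {y y' : ↥L ⧸ Cfsg.pCore 2 ↥L} (h : Subgroup.zpowers y' = Subgroup.zpowers y) :
    compOf L y' = compOf L y := by
  unfold compOf
  rw [h]

theorem compOf_conj (g : ↥L) (y : ↥L ⧸ Cfsg.pCore 2 ↥L) :
    compOf L (toBar L g * y * (toBar L g)⁻¹) =
      (compOf L y).map (MulAut.conj (g : G)).toMonoidHom := by
  rw [compOf, compOf, MonoidHom.map_closure]
  congr 1
  have key : ∀ (g : ↥L) (z : ↥L ⧸ Cfsg.pCore 2 ↥L) (x : G) (hx : x ∈ L),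
      toBar L ⟨x, hx⟩ ∈ Subgroup.zpowers z →
        toBar L (g * ⟨x, hx⟩ * g⁻¹) ∈ Subgroup.zpowers (toBar L g * z * (toBar L g)⁻¹) := by
    intro g z x hx h
    obtain ⟨k, hk⟩ := Subgroup.mem_zpowers_iff.mp h
    rw [map_mul, map_mul, map_inv, ← hk]
    exact Subgroup.mem_zpowers_iff.mpr ⟨k, conj_zpow⟩
  have hord : ∀ (a x : G), orderOf (a * x * a⁻¹) = orderOf x := fun a x =>
    orderOf_injective (MulAut.conj a).toMonoidHom (MulAut.conj a).injective x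
  ext x
  constructor
  · rintro ⟨hx, ho, hz⟩
    refine ⟨(g : G)⁻¹ * x * g, ⟨mul_mem (mul_mem (inv_mem g.2) hx) g.2, ?_, ?_⟩, ?_⟩
    · have := hord (g : G)⁻¹ x
      rw [inv_inv] at this
      rwa [this]
    · have := key g⁻¹ _ x hx hz
      simp only [inv_inv, map_inv] at this
      have e : (toBar L g)⁻¹ * (toBar L g * y * (toBar L g)⁻¹) * toBar L g = y := by group
      rw [e] at this
      exact this
    · show (g : G) * ((g : G)⁻¹ * x * g) * (g : G)⁻¹ = x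
      group
  · rintro ⟨x, ⟨hx, ho, hz⟩, rfl⟩
    refine ⟨mul_mem (mul_mem g.2 hx) (inv_mem g.2), ?_, key g y x hx hz⟩
    show Odd (orderOf ((g : G) * x * (g : G)⁻¹))
    rwa [hord]

variable [Finite G]

/-- `J(T)` is the Thompson subgroup of every 2-subgroup of `L` containing it. -/
theorem jOf_eq_of_le {T L U : Subgroup G} (h : Cfsg.IsSylowTwoIn T L) (hU : IsPGroup 2 U) (hUL : U ≤ L)
    (hJU : Cfsg.thompsonSubgroupOf 2 T ≤ U) :
    Cfsg.thompsonSubgroupOf 2 U = Cfsg.thompsonSubgroupOf 2 T ∧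
      Cfsg.maxElemAbelianOrder U = Cfsg.maxElemAbelianOrder T := by
  obtain ⟨g, -, hle⟩ := exists_conj_le h hU hUL
  set T' := T.map (MulAut.conj g).toMonoidHom with hT'
  have h1 := jOf_mono hJU
  have h2 := jOf_mono (T := U) (S := T') ((jOf_le U).trans hle)
  have hab : Cfsg.maxElemAbelianOrder T' = Cfsg.maxElemAbelianOrder T := by
    obtain ⟨A, hA⟩ := exists_maxElem T
    obtain ⟨A', hA'⟩ := exists_maxElem T'
    rw [maxElemAbelianOrder_eq hA, maxElemAbelianOrder_eq hA']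
    refine le_antisymm ?_ ?_
    · have hle' : A'.map (MulAut.conj g⁻¹).toMonoidHom ≤ T := by
        have := Subgroup.map_mono (f := (MulAut.conj g⁻¹).toMonoidHom) hA'.1
        rwa [hT', map_map_conj, inv_mul_cancel, map_conj_one] at this
      have := hA.2.2 _ hle' ((elemAb_map (MulAut.conj g⁻¹).toMonoidHom hA'.2.1))
      rwa [Subgroup.card_map_of_injective (MulAut.conj g⁻¹).injective] at this
    · have := hA'.2.2 _ (Subgroup.map_mono hA.1) (elemAb_map (MulAut.conj g).toMonoidHom hA.2.1)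
      rwa [Subgroup.card_map_of_injective (MulAut.conj g).injective] at this
  have hUT : Cfsg.maxElemAbelianOrder U = Cfsg.maxElemAbelianOrder T :=
    le_antisymm (h2.1.trans hab.le) h1.1
  refine ⟨?_, hUT⟩
  have h3 := h1.2 hUT.le
  have h4 := h2.2 (by rw [hUT, hab])
  rw [jOf_conj] at h4
  refine (Subgroup.eq_of_le_of_card_ge h3 ?_).symm
  have := Nat.le_of_dvd Nat.card_pos (Subgroup.card_dvd_of_le h4)
  rwa [Subgroup.card_map_of_injective (MulAut.conj g).injective] at this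

omit [Finite G] in
theorem jOf_normalized (T : Subgroup G) :
    T ≤ Subgroup.normalizer (Cfsg.thompsonSubgroupOf 2 T : Set G) := fun t ht =>
  Subgroup.mem_normalizer_iff_map_conj_eq.mpr (by
    show (Cfsg.thompsonSubgroupOf 2 T).map (MulAut.conj t).toMonoidHom = _
    rw [← jOf_conj, map_conj_eq_self (Subgroup.le_normalizer ht)])

variable {T L}

namespace Setup

variable (hs : Setup T L)

/-- The action of `L / O₂(L)`. -/
def fBar : (↥L ⧸ Cfsg.pCore 2 ↥L) →* ↥(actRange T L) :=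
  QuotientGroup.lift _ (toX T L) fun _ hg =>
    (toX_eq_one T L).mpr (hs.q_le_cOf (mem_pCoreOf_iff.mpr hg))

theorem fBar_toBar (g : ↥L) : hs.fBar (toBar L g) = toX T L g := rfl

theorem fBar_surjective : Function.Surjective hs.fBar := fun x => by
  obtain ⟨g, rfl⟩ := toX_surjective T L x
  exact ⟨toBar L g, rfl⟩

/-- The four-group of a root, inside `G`. -/
def wImage (y : ↥L ⧸ Cfsg.pCore 2 ↥L) : Subgroup G :=
  (moved hs.exp2 (hs.fBar y)).map (vOf T L).subtype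

/-- The roots of `L / O₂(L)`. -/
def IsRoot (y : ↥L ⧸ Cfsg.pCore 2 ↥L) : Prop :=
  Root hs.exp2 (Cfsg.fittingSubgroup ↥(actRange T L)) hs.fBar (nBar T L) y

omit [Finite G] in
theorem nBar_normal : ∀ h, ∀ n ∈ nBar T L, h * n * h⁻¹ ∈ nBar T L := by
  intro h n hn
  obtain ⟨g, rfl⟩ := toBar_surjective L h
  obtain ⟨m, hm, rfl⟩ := hn
  exact ⟨g * m * g⁻¹, (Subgroup.mem_normalizer_iff.mp (njOf_normal T L g.2) (m : G)).mp hm,
    by rw [map_mul, map_mul, map_inv]⟩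

/-- `J(T)` is generated modulo `O₂(L)` by involutions inducing transvections. -/
theorem jBar_le_closure :
    jBar T L ≤ Subgroup.closure {t | t ∈ jBar T L ∧ IsLift hs.exp2 hs.fBar (nBar T L) t} := by
  set C := Subgroup.closure {t | t ∈ jBar T L ∧ IsLift hs.exp2 hs.fBar (nBar T L) t}
  have hJ : Cfsg.thompsonSubgroupOf 2 T ≤ ((C.comap (toBar L))).map L.subtype := by
    refine jOf_le_iff.mpr fun A hA a ha => ?_
    have hAL : A ≤ L := hA.1.trans hs.sylow.1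
    obtain ⟨b, hb, hba⟩ := (hs.maxElem_data hA).2 a ha
    have hle : Subgroup.closure {t | t ∈ A ∧ ∃ ht : t ∈ L, IsTransv hs.exp2 (toX T L ⟨t, ht⟩)} ≤
        A ⊓ (C.comap (toBar L)).map L.subtype := by
      refine (Subgroup.closure_le _).mpr fun t ⟨htA, ht, htt⟩ => ⟨htA, ⟨⟨t, ht⟩, ?_, rfl⟩⟩
      have hj : toBar L ⟨t, ht⟩ ∈ jBar T L := ⟨⟨t, ht⟩, le_jOf hA htA, rfl⟩
      refine Subgroup.subset_closure ⟨hj, jBar_le_nBar T L hj, ?_, htt⟩
      rw [← map_mul, show (⟨t, ht⟩ : ↥L) * ⟨t, ht⟩ = 1 from Subtype.ext (elem_mul_self hA.2.1 htA), map_one]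
    obtain ⟨hbA, b', hb', rfl⟩ := hle hb
    have hq : (b' : G)⁻¹ * a ∈ Cfsg.pCoreOf 2 L :=
      hs.inf_cOf_le ⟨T.mul_mem (T.inv_mem (hA.1 hbA)) (hA.1 ha), hba⟩
    refine ⟨⟨a, hAL ha⟩, ?_, rfl⟩
    rw [SetLike.mem_coe, Subgroup.mem_comap, ← (toBar_eq_iff (g := b') (h := ⟨a, hAL ha⟩)).mpr hq]
    exact hb'
  rintro _ ⟨g, hg, rfl⟩
  exact (Subgroup.mem_map_iff_mem L.subtype_injective).mp (hJ hg)

theorem cover : Cover hs.exp2 hs.fBar (nBar T L) := by
  refine ⟨nBar_normal, fun c hc n hn => ?_, fun c hc h2 => ?_, ?_⟩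
  · obtain ⟨c, rfl⟩ := toBar_surjective L c
    obtain ⟨n, hn, rfl⟩ := hn
    rw [← commutatorElement_eq_one_iff_mul_comm, ← map_commutatorElement, toBar_eq_one]
    exact hs.comm_nj ((toX_eq_one T L).mp hc) hn
  · obtain ⟨c, rfl⟩ := toBar_surjective L c
    rw [← map_mul, toBar_eq_one] at h2
    exact toBar_eq_one.mpr (hs.mem_q_of_sq ((toX_eq_one T L).mp hc) h2)
  · set C := Subgroup.closure {t | IsLift hs.exp2 hs.fBar (nBar T L) t}
    have hJ : jBar T L ≤ C := hs.jBar_le_closure.trans (Subgroup.closure_mono fun t ht => ht.2)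
    have hle : njOf T L ≤ (C.comap (toBar L)).map L.subtype := by
      refine (Subgroup.closure_le _).mpr ?_
      rintro _ ⟨g, hg, a, ha, rfl⟩
      refine ⟨⟨g, hg⟩ * ⟨a, hs.sylow.1 (jOf_le T ha)⟩ * ⟨g, hg⟩⁻¹, ?_, rfl⟩
      rw [SetLike.mem_coe, Subgroup.mem_comap, map_mul, map_mul, map_inv]
      set h := toBar L ⟨g, hg⟩
      have hC : C ≤ C.comap (MulAut.conj h).toMonoidHom := by
        refine (Subgroup.closure_le _).mpr fun t ht => Subgroup.subset_closure ?_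
        refine ⟨nBar_normal h t ht.1, ?_, ?_⟩
        · show h * t * h⁻¹ * (h * t * h⁻¹) = 1
          rw [show h * t * h⁻¹ * (h * t * h⁻¹) = h * (t * t) * h⁻¹ by group, ht.2.1]; group
        · show IsTransv hs.exp2 (hs.fBar (h * t * h⁻¹))
          rw [map_mul, map_mul, map_inv]; exact ht.2.2.conj hs.exp2 _
      exact hC (hJ ⟨_, ha, rfl⟩)
    rintro _ ⟨g, hg, rfl⟩
    exact (Subgroup.mem_map_iff_mem L.subtype_injective).mp (hle hg)

include hs

theorem frattini {g : G} (hg : g ∈ L) :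
    ∃ n ∈ njOf T L, n⁻¹ * g ∈ Subgroup.normalizer (Cfsg.thompsonSubgroupOf 2 T : Set G) := by
  set J := Cfsg.thompsonSubgroupOf 2 T
  have hJp : IsPGroup 2 J := hs.sylow.2.1.to_le (jOf_le T)
  obtain ⟨S, hS, hJS⟩ := exists_sylowTwo_ge hJp (jOf_le_njOf T L)
  have hgJ : J.map (MulAut.conj g).toMonoidHom ≤ njOf T L := by
    rintro _ ⟨a, ha, rfl⟩
    exact Subgroup.subset_closure ⟨g, hg, a, ha, rfl⟩
  obtain ⟨n, hn, hle⟩ := exists_conj_le hS (hJp.map _) hgJ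
  refine ⟨n, hn, Subgroup.mem_normalizer_iff_map_conj_eq.mpr ?_⟩
  have hle' : J.map (MulAut.conj (n⁻¹ * g)).toMonoidHom ≤ S := by
    have := Subgroup.map_mono (f := (MulAut.conj n⁻¹).toMonoidHom) hle
    rwa [map_map_conj, map_map_conj, inv_mul_cancel, map_conj_one] at this
  have hm : n⁻¹ * g ∈ L := mul_mem (inv_mem (hs.njOf_le hn)) hg
  have hT' := sylowTwo_conj' hs.sylow hm
  have hSL : S ≤ L := hS.1.trans hs.njOf_le
  have h1 := (jOf_eq_of_le hs.sylow hS.2.1 hSL hJS).1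
  have h2 := (jOf_eq_of_le hT' hS.2.1 hSL (by rw [jOf_conj]; exact hle')).1
  rw [h1, jOf_conj] at h2
  exact h2.symm

theorem root_conj_mem {y : ↥L ⧸ Cfsg.pCore 2 ↥L} (hy : hs.IsRoot y) {g : G} (hg : g ∈ njOf T L) :
    (compOf L y).map (MulAut.conj g).toMonoidHom = compOf L y := by
  have h := compOf_conj L ⟨g, hs.njOf_le hg⟩ y
  rcases hy.conj _ ⟨⟨g, hs.njOf_le hg⟩, hg, rfl⟩ with e | e <;> rw [e] at h
  · exact h.symm
  · rw [compOf_inv] at h; exact h.symm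

theorem njOf_le_normalizer_compOf {y : ↥L ⧸ Cfsg.pCore 2 ↥L} (hy : hs.IsRoot y) :
    njOf T L ≤ Subgroup.normalizer (compOf L y : Set G) := fun _ hg =>
  Subgroup.mem_normalizer_iff_map_conj_eq.mpr (hs.root_conj_mem hy hg)

theorem exists_rep {y : ↥L ⧸ Cfsg.pCore 2 ↥L} (hy : hs.IsRoot y) :
    ∃ k : ↥L, (k : G) ∈ compOf L y ∧ (k : G) ^ 3 = 1 ∧ toBar L k = y := by
  obtain ⟨g, rfl⟩ := toBar_surjective L y
  have h3 : (g : G) ^ 3 ∈ Cfsg.pCoreOf 2 L := by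
    rw [← Subgroup.coe_pow, ← toBar_eq_one, map_pow]; exact hy.pow
  obtain ⟨n, hn⟩ := pow_two_of_mem (Cfsg.Agent.LargeSub.isPGroup_pCoreOf L) h3
  rw [← pow_mul] at hn
  have key : ∀ j, (2 ^ n * j) % 3 = 1 → ∃ k : ↥L, (k : G) ∈ compOf L (toBar L g) ∧
      (k : G) ^ 3 = 1 ∧ toBar L k = toBar L g := by
    intro j hj
    have e3 : ((g : G) ^ (2 ^ n * j)) ^ 3 = 1 := by
      rw [← pow_mul, show 2 ^ n * j * 3 = 3 * 2 ^ n * j by ring, pow_mul, hn, one_pow]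
    have him : toBar L (g ^ (2 ^ n * j)) = toBar L g := by
      rw [map_pow, ← Nat.mod_add_div (2 ^ n * j) 3, hj, pow_add, pow_one, pow_mul, hy.pow, one_pow, mul_one]
    refine ⟨g ^ (2 ^ n * j), Subgroup.subset_closure ⟨(g ^ (2 ^ n * j)).2, ?_, ?_⟩, by simpa using e3, him⟩
    · exact (show Odd 3 by decide).of_dvd_nat (orderOf_dvd_of_pow_eq_one (by simpa using e3))
    · show toBar L (g ^ (2 ^ n * j)) ∈ _
      rw [him]; exact Subgroup.mem_zpowers _
  have h2 : 2 ^ n % 3 = 1 ∨ 2 ^ n % 3 = 2 := by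
    clear key hn
    induction n with
    | zero => left; rfl
    | succ n ih => rw [pow_succ, Nat.mul_mod]; rcases ih with h | h <;> rw [h] <;> simp
  rcases h2 with h | h
  · exact key 1 (by rw [mul_one, h])
  · exact key 2 (by rw [Nat.mul_mod, h])

theorem pCoreOf_compOf {y : ↥L ⧸ Cfsg.pCore 2 ↥L} (hy : hs.IsRoot y) :
    Cfsg.pCoreOf 2 (compOf L y) = compOf L y ⊓ Cfsg.pCoreOf 2 L ∧
      (Cfsg.pCoreOf 2 (compOf L y)).relIndex (compOf L y) = 3 := by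
  set K := compOf L y
  set φ : ↥K →* ↥L ⧸ Cfsg.pCore 2 ↥L := (toBar L).comp (Subgroup.inclusion (compOf_le L y))
  have hker : φ.ker = (K ⊓ Cfsg.pCoreOf 2 L).subgroupOf K := by
    ext k
    rw [MonoidHom.mem_ker, MonoidHom.comp_apply, toBar_eq_one, Subgroup.mem_subgroupOf]
    exact ⟨fun h => ⟨k.2, h⟩, fun h => h.2⟩
  have hrange : φ.range = Subgroup.zpowers y := by
    refine le_antisymm ?_ (Subgroup.zpowers_le.mpr ?_)
    · rintro _ ⟨k, rfl⟩
      exact toBar_compOf L k.2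
    · obtain ⟨k, hk, -, hky⟩ := hs.exists_rep hy
      exact ⟨⟨k, hk⟩, hky⟩
  have hidx : (K ⊓ Cfsg.pCoreOf 2 L).relIndex K = 3 := by
    rw [Subgroup.relIndex, ← hker, Subgroup.index_ker, hrange, Nat.card_zpowers]
    have : Fact (Nat.Prime 3) := ⟨Nat.prime_three⟩
    exact orderOf_eq_prime hy.pow (hy.ne_one hs.exp2)
  have heq : Cfsg.pCoreOf 2 K = K ⊓ Cfsg.pCoreOf 2 L := by
    refine le_antisymm (le_inf (Cfsg.Agent.LargeSub.pCoreOf_le K) ?_) ?_
    · intro d hd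
      have hdK := Cfsg.Agent.LargeSub.pCoreOf_le K hd
      obtain ⟨n, hn⟩ := pow_two_of_mem (Cfsg.Agent.LargeSub.isPGroup_pCoreOf K) hd
      set e := toBar L ⟨d, compOf_le L y hdK⟩ with he
      have h1 : e ^ 2 ^ n = 1 := by
        rw [he, ← map_pow, show (⟨d, compOf_le L y hdK⟩ : ↥L) ^ 2 ^ n = 1 from Subtype.ext hn, map_one]
      have h2 : e ^ 3 = 1 := by
        obtain ⟨k, hk⟩ := Subgroup.mem_zpowers_iff.mp (toBar_compOf L (g := ⟨d, compOf_le L y hdK⟩) hdK)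
        rw [he, ← hk, ← zpow_natCast, ← zpow_mul, mul_comm, zpow_mul, zpow_natCast, hy.pow, one_zpow]
      have h3 : orderOf e = 1 := Nat.eq_one_of_dvd_coprimes
        (Nat.Coprime.pow_left n (by decide)) (orderOf_dvd_of_pow_eq_one h1) (orderOf_dvd_of_pow_eq_one h2)
      exact toBar_eq_one.mp (orderOf_eq_one_iff.mp h3)
    · exact Cfsg.Agent.LargeSub.le_pCoreOf inf_le_left
        ((le_inf Subgroup.le_normalizer
          ((compOf_le L y).trans (Cfsg.Agent.LargeSub.self_le_normalizer_pCoreOf L))).trans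
            Subgroup.inf_normalizer_le_normalizer_inf)
        ((Cfsg.Agent.LargeSub.isPGroup_pCoreOf L).to_le inf_le_right)
  exact ⟨heq, heq ▸ hidx⟩

theorem exists_decomp_maxElem {y : ↥L ⧸ Cfsg.pCore 2 ↥L} (hy : hs.IsRoot y)
    (hj : ∃ j ∈ jBar T L, j * y * j⁻¹ = y⁻¹) :
    ∃ A ∈ maxElem T, ∃ a ∈ A, ∃ ha : a ∈ L,
      toBar L ⟨a, ha⟩ * y * (toBar L ⟨a, ha⟩)⁻¹ = y⁻¹ := by
  by_contra hno
  push Not at hno
  obtain ⟨_, ⟨j, hj, rfl⟩, hjy⟩ := hj
  have hle : Cfsg.thompsonSubgroupOf 2 T ≤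
      ((Subgroup.centralizer ({y} : Set (↥L ⧸ Cfsg.pCore 2 ↥L))).comap (toBar L)).map L.subtype := by
    refine jOf_le_iff.mpr fun A hA a ha => ⟨⟨a, hs.sylow.1 (hA.1 ha)⟩, ?_, rfl⟩
    rw [SetLike.mem_coe, Subgroup.mem_comap, Subgroup.mem_centralizer_singleton_iff]
    have hn : toBar L ⟨a, hs.sylow.1 (hA.1 ha)⟩ ∈ nBar T L :=
      jBar_le_nBar T L ⟨_, le_jOf hA ha, rfl⟩
    rcases hy.conj _ hn with h | h
    · exact (mul_inv_eq_iff_eq_mul.mp h)
    · exact absurd h (hno A hA a ha _)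
  have h := (Subgroup.mem_map_iff_mem L.subtype_injective).mp (hle hj)
  rw [Subgroup.mem_comap, Subgroup.mem_centralizer_singleton_iff] at h
  rw [h, mul_inv_cancel_right] at hjy
  exact hy.factor.2.2.1 (by
    have h2 := congrArg hs.fBar hjy
    rw [map_inv] at h2
    by_contra hne
    exact ne_inv_of_three hy.factor.2.1 hne h2)

theorem wImage_le_wOf {y : ↥L ⧸ Cfsg.pCore 2 ↥L} (hy : hs.IsRoot y) :
    hs.wImage y ≤ Cfsg.wOf (compOf L y) ∧
      hs.wImage y ≤ Cfsg.omegaCenterOf (Cfsg.pCoreOf 2 (compOf L y)) := by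
  set K := compOf L y
  obtain ⟨k, hk, -, hky⟩ := hs.exists_rep hy
  have hnK := hs.njOf_le_normalizer_compOf hy
  have hdd : ∀ v : ↥(vOf T L), ((dd hs.exp2 (hs.fBar y) v : ↥(vOf T L)) : G) =
      (k : G) * v * (k : G)⁻¹ * (v : G)⁻¹ := fun v => by
    rw [dd_apply, ← hky, hs.fBar_toBar, Subgroup.coe_mul, smul_coe,
      inv_eq_of_mul_eq_one_right (congrArg Subtype.val (hs.exp2 v))]
  have hmem : ∀ v : ↥(vOf T L), ((dd hs.exp2 (hs.fBar y) v : ↥(vOf T L)) : G) ∈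
      Cfsg.omegaCenterOf (Cfsg.pCoreOf 2 K) := by
    intro v
    have hV := hs.vOf_le (dd hs.exp2 (hs.fBar y) v).2
    obtain ⟨hQ, hQc, h2⟩ := mem_omegaCenterOf.mp hV
    refine mem_omegaCenterOf.mpr ⟨?_, fun q hq => hQc q ?_, h2⟩
    · rw [(hs.pCoreOf_compOf hy).1]
      refine ⟨?_, hQ⟩
      rw [hdd, mul_assoc, mul_assoc]
      refine mul_mem hk ?_
      rw [← mul_assoc]
      exact (Subgroup.mem_normalizer_iff.mp (hnK (jOf_le_njOf T L (hs.vOf_le_jOf v.2))) _).mp (inv_mem hk)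
    · rw [(hs.pCoreOf_compOf hy).1] at hq
      exact hq.2
  have h2 : hs.wImage y ≤ Cfsg.omegaCenterOf (Cfsg.pCoreOf 2 K) := by
    rintro _ ⟨_, ⟨v, rfl⟩, rfl⟩
    exact hmem v
  refine ⟨?_, h2⟩
  rintro _ ⟨_, ⟨v, rfl⟩, rfl⟩
  obtain ⟨w, hw, u, hu, rfl⟩ := exists_decomp hs.exp2 (Factor.odd hs.exp2 hs.good hy.factor) v
  have he : dd hs.exp2 (hs.fBar y) (w * u) = dd hs.exp2 (hs.fBar y) w := by
    rw [map_mul, show dd hs.exp2 (hs.fBar y) u = 1 by rw [← MonoidHom.mem_ker, ker_dd]; exact hu, mul_one]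
  show ((dd hs.exp2 (hs.fBar y) (w * u) : ↥(vOf T L)) : G) ∈ _
  rw [he, hdd, Cfsg.wOf, Subgroup.commutator_comm]
  exact Subgroup.commutator_mem_commutator hk (h2 ⟨w, hw, rfl⟩)

theorem card_wImage {y : ↥L ⧸ Cfsg.pCore 2 ↥L} (hy : hs.IsRoot y) : Nat.card (hs.wImage y) = 4 :=
  (Subgroup.card_map_of_injective (vOf T L).subtype_injective).trans hy.factor.2.2.2.1

/-- A root inverted by an element of `J(T)` gives a component. -/
theorem isComp_of_jroot {y : ↥L ⧸ Cfsg.pCore 2 ↥L} (hy : hs.IsRoot y)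
    (hj : ∃ j ∈ jBar T L, j * y * j⁻¹ = y⁻¹) :
    Cfsg.IsJComponent T (compOf L y) ∧ Cfsg.wOf (compOf L y) = hs.wImage y := by
  obtain ⟨A, hA, a, haA, haL, hay⟩ := hs.exists_decomp_maxElem hy hj
  set K := compOf L y with hKdef
  set J := Cfsg.thompsonSubgroupOf 2 T
  obtain ⟨hpc, hidx⟩ := hs.pCoreOf_compOf hy
  obtain ⟨k, hk, hk3, hky⟩ := hs.exists_rep hy
  have hJK : J ≤ Subgroup.normalizer (K : Set G) :=
    (jOf_le_njOf T L).trans (hs.njOf_le_normalizer_compOf hy)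
  have hAK : A ≤ Subgroup.normalizer (K : Set G) := (le_jOf hA).trans hJK
  have hodd : Subgroup.closure {g : G | g ∈ K ∧ Odd (orderOf g)} = K := by
    refine le_antisymm ((Subgroup.closure_le _).mpr fun g hg => hg.1) ((Subgroup.closure_le _).mpr ?_)
    rintro g ⟨hg, ho, hgy⟩
    exact Subgroup.subset_closure ⟨Subgroup.subset_closure ⟨hg, ho, hgy⟩, ho⟩
  have hsub : ⁅K, J⁆ ≤ K := by
    rw [Subgroup.commutator_le]
    intro g hg j hj
    rw [commutatorElement_def, mul_assoc, mul_assoc, ← mul_assoc j]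
    exact mul_mem hg ((Subgroup.mem_normalizer_iff.mp (hJK hj) _).mp (inv_mem hg))
  have hcomm : ⁅K, J⁆ = K := by
    refine le_antisymm hsub ((Subgroup.closure_le _).mpr ?_)
    rintro g ⟨hgL, ho, hgy⟩
    have hgK : g ∈ K := Subgroup.subset_closure ⟨hgL, ho, hgy⟩
    have hKn : K ≤ Subgroup.normalizer ((⁅K, J⁆ : Subgroup G) : Set G) := Subgroup.normalizer_commutator_ge_left K J
    have hc : ⁅(k : G), a⁆ ∈ ⁅K, J⁆ := Subgroup.commutator_mem_commutator hk (le_jOf hA haA)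
    set c : ↥L := k * ⟨a, haL⟩ * k⁻¹ * ⟨a, haL⟩⁻¹ with hcdef
    have himg : toBar L c = y * y := by
      have hay' : toBar L ⟨a, haL⟩ * y⁻¹ * (toBar L ⟨a, haL⟩)⁻¹ = y := by
        rw [← conj_inv, hay, inv_inv]
      rw [hcdef, map_mul, map_mul, map_mul, map_inv, map_inv, hky]
      calc y * toBar L ⟨a, haL⟩ * y⁻¹ * (toBar L ⟨a, haL⟩)⁻¹
          = y * (toBar L ⟨a, haL⟩ * y⁻¹ * (toBar L ⟨a, haL⟩)⁻¹) := by group
        _ = y * y := by rw [hay']
    have hgen : Subgroup.zpowers y ≤ ((⁅K, J⁆).subgroupOf L).map (toBar L) := by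
      rw [Subgroup.zpowers_le]
      refine ⟨c ^ 2, pow_mem hc 2, ?_⟩
      rw [map_pow, himg, ← pow_two, ← pow_mul, pow_succ, hy.pow, one_mul]
    obtain ⟨d, hd', hdg⟩ := hgen hgy
    have hd : (d : G) ∈ ⁅K, J⁆ := hd'
    have hq : (d : G)⁻¹ * g ∈ Cfsg.pCoreOf 2 K := by
      rw [hpc]
      exact ⟨K.mul_mem (K.inv_mem (hsub hd)) hgK, toBar_eq_iff.mp hdg⟩
    have := mem_left_of_odd (Cfsg.Agent.LargeSub.isPGroup_pCoreOf K)
      ((Cfsg.Agent.LargeSub.pCoreOf_le K).trans hKn) hd hq (by rwa [mul_inv_cancel_left])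
    rwa [mul_inv_cancel_left] at this
  have hcond : ∀ S : Subgroup G, Cfsg.IsSylowTwoIn S (K ⊔ J) → J ≤ S → Cfsg.thompsonSubgroupOf 2 S = J :=
    fun S hS hJS => (jOf_eq_of_le hs.sylow hS.2.1
      (hS.1.trans (sup_le (compOf_le L y) ((jOf_le T).trans hs.sylow.1))) hJS).1
  set abar := toBar L ⟨a, haL⟩
  let B : Subgroup G := A ⊓ ((Subgroup.centralizer ({y} : Set (↥L ⧸ Cfsg.pCore 2 ↥L))).comap (toBar L)).map L.subtype
  have hBmem : ∀ b, (hb : b ∈ A) → toBar L ⟨b, hs.sylow.1 (hA.1 hb)⟩ * y * (toBar L ⟨b, hs.sylow.1 (hA.1 hb)⟩)⁻¹ = y →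
      b ∈ B := fun b hb h => ⟨hb, ⟨⟨b, hs.sylow.1 (hA.1 hb)⟩,
        Subgroup.mem_centralizer_singleton_iff.mpr (mul_inv_eq_iff_eq_mul.mp h), rfl⟩⟩
  have hidxB : Nat.card A ≤ 2 * Nat.card B := by
    have hsur : ∀ b ∈ A, b ∈ B ∨ a * b ∈ B := by
      intro b hb
      have hn : toBar L ⟨b, hs.sylow.1 (hA.1 hb)⟩ ∈ nBar T L :=
        jBar_le_nBar T L ⟨_, le_jOf hA hb, rfl⟩
      rcases hy.conj _ hn with h | h
      · exact Or.inl (hBmem b hb h)
      · refine Or.inr (hBmem _ (mul_mem haA hb) ?_)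
        set bb := toBar L ⟨b, hs.sylow.1 (hA.1 hb)⟩
        have e : toBar L ⟨a * b, hs.sylow.1 (hA.1 (mul_mem haA hb))⟩ = abar * bb :=
          map_mul (toBar L) ⟨a, haL⟩ ⟨b, hs.sylow.1 (hA.1 hb)⟩
        rw [e]
        calc abar * bb * y * (abar * bb)⁻¹ = abar * (bb * y * bb⁻¹) * abar⁻¹ := by group
          _ = y := by rw [h, ← conj_inv, hay, inv_inv]
    have h1 : Nat.card A ≤ Nat.card (↥B ⊕ ↥B) := by
      refine Nat.card_le_card_of_surjective (fun p : ↥B ⊕ ↥B => p.elim (fun b : ↥B => (⟨(b : G), b.2.1⟩ : ↥A))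
        (fun b : ↥B => ⟨a * (b : G), mul_mem haA b.2.1⟩)) fun ⟨b, hb⟩ => ?_
      rcases hsur b hb with h | h
      · exact ⟨Sum.inl ⟨b, h⟩, rfl⟩
      · refine ⟨Sum.inr ⟨a * b, h⟩, Subtype.ext ?_⟩
        show a * (a * b) = b
        rw [← mul_assoc, elem_mul_self hA.2.1 haA, one_mul]
    rwa [Nat.card_sum, ← two_mul] at h1
  have hUT : Cfsg.omegaCenterOf (Cfsg.pCoreOf 2 K) ≤ T :=
    ((omegaCenterOf_le _).trans (hpc.le.trans inf_le_right)).trans hs.q_le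
  have hKi : ∀ g ∈ K, ∃ i : ℕ, ((k : G) ^ i)⁻¹ * g ∈ Cfsg.pCoreOf 2 K := by
    intro g hg
    obtain ⟨i, hi⟩ := mem_powers_iff_mem_zpowers.mpr (toBar_compOf L (g := ⟨g, compOf_le L y hg⟩) hg)
    refine ⟨i, ?_⟩
    rw [hpc]
    refine ⟨K.mul_mem (K.inv_mem (K.pow_mem hk i)) hg, ?_⟩
    have : toBar L (k ^ i) = toBar L ⟨g, compOf_le L y hg⟩ := by rw [map_pow, hky]; exact hi
    simpa using toBar_eq_iff.mp this
  have hinv : a * (k : G) * a⁻¹ * k ∈ Cfsg.pCoreOf 2 K := by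
    rw [hpc]
    refine ⟨K.mul_mem ((Subgroup.mem_normalizer_iff.mp (hAK haA) _).mp hk) hk, ?_⟩
    refine (toBar_eq_one (g := ⟨a, haL⟩ * k * ⟨a, haL⟩⁻¹ * k)).mp ?_
    rw [map_mul, map_mul, map_mul, map_inv, hky, hay, inv_mul_cancel]
  have hB : ∀ b ∈ B, (k : G)⁻¹ * (b * k * b⁻¹) ∈ Cfsg.pCoreOf 2 K := by
    rintro b ⟨hbA, b', hb', rfl⟩
    rw [hpc]
    refine ⟨K.mul_mem (K.inv_mem hk) ((Subgroup.mem_normalizer_iff.mp (hAK hbA) _).mp hk), ?_⟩
    refine (toBar_eq_one (g := k⁻¹ * (b' * k * b'⁻¹))).mp ?_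
    rw [SetLike.mem_coe, Subgroup.mem_comap, Subgroup.mem_centralizer_singleton_iff] at hb'
    rw [map_mul, map_inv, map_mul, map_mul, map_inv, hky, hb', mul_inv_cancel_right, inv_mul_cancel]
  have hle4 := card_wOf_le hA hAK hUT haA hk3 hk hKi hinv inf_le_left hidxB hB
  have hle := (hs.wImage_le_wOf hy).1
  have hWeq : Cfsg.wOf K = hs.wImage y :=
    (Subgroup.eq_of_le_of_card_ge hle (by rw [hs.card_wImage hy]; exact hle4)).symm
  refine ⟨⟨hodd, hcomm, hidx, hcond, ?_, fun w hw => ?_⟩, hWeq⟩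
  · rw [hWeq, hs.card_wImage hy]
  · rw [hWeq] at hw
    obtain ⟨v, -, rfl⟩ := hw
    exact congrArg Subtype.val (hs.exp2 v)

/-- Every root is inverted by an element of `J(T)`. -/
theorem jroot {y : ↥L ⧸ Cfsg.pCore 2 ↥L} (hy : hs.IsRoot y) :
    ∃ j ∈ jBar T L, j * y * j⁻¹ = y⁻¹ := by
  obtain ⟨a, ha, hinv⟩ := hy.lift
  by_contra hno
  push Not at hno
  obtain ⟨g, hg, rfl⟩ := ha.1
  have hle : njOf T L ≤ ((Subgroup.centralizer ({y} : Set (↥L ⧸ Cfsg.pCore 2 ↥L))).comap (toBar L)).map L.subtype := by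
    refine (Subgroup.closure_le _).mpr ?_
    rintro _ ⟨x, hx, j, hj, rfl⟩
    have hjL := hs.sylow.1 (jOf_le T hj)
    refine ⟨⟨x, hx⟩ * ⟨j, hjL⟩ * ⟨x, hx⟩⁻¹, ?_, rfl⟩
    rw [SetLike.mem_coe, Subgroup.mem_comap, Subgroup.mem_centralizer_singleton_iff]
    obtain ⟨n, hn, hnx⟩ := hs.frattini hx
    have hnL := hs.njOf_le hn
    set nn := toBar L ⟨n, hnL⟩ with hnn
    set jj := toBar L ⟨n⁻¹ * x * j * (n⁻¹ * x)⁻¹,
      mul_mem (mul_mem (mul_mem (inv_mem hnL) hx) hjL) (inv_mem (mul_mem (inv_mem hnL) hx))⟩ with hjj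
    have hjJ : jj ∈ jBar T L := ⟨_, (Subgroup.mem_normalizer_iff.mp hnx j).mp hj, rfl⟩
    have e : toBar L (⟨x, hx⟩ * ⟨j, hjL⟩ * ⟨x, hx⟩⁻¹) = nn * jj * nn⁻¹ := by
      rw [hnn, hjj, ← map_inv, ← map_mul, ← map_mul]
      congr 1
      refine Subtype.ext ?_
      simp [mul_assoc]
    rw [e]
    have hjc : jj * y * jj⁻¹ = y := (hy.conj jj (jBar_le_nBar T L hjJ)).resolve_right (hno jj hjJ)
    have hjc' : jj * y⁻¹ * jj⁻¹ = y⁻¹ := by rw [← conj_inv, hjc]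
    refine mul_inv_eq_iff_eq_mul.mp ?_
    rcases hy.conj nn⁻¹ (inv_mem ⟨_, hn, rfl⟩) with h | h <;> rw [inv_inv] at h
    · calc nn * jj * nn⁻¹ * y * (nn * jj * nn⁻¹)⁻¹ = nn * (jj * (nn⁻¹ * y * nn) * jj⁻¹) * nn⁻¹ := by group
        _ = nn * (nn⁻¹ * y * nn) * nn⁻¹ := by rw [h, hjc]
        _ = y := by group
    · calc nn * jj * nn⁻¹ * y * (nn * jj * nn⁻¹)⁻¹ = nn * (jj * (nn⁻¹ * y * nn) * jj⁻¹) * nn⁻¹ := by group
        _ = nn * (nn⁻¹ * y * nn) * nn⁻¹ := by rw [h, hjc']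
        _ = y := by group
  have h := (Subgroup.mem_map_iff_mem L.subtype_injective).mp (hle hg)
  rw [Subgroup.mem_comap, Subgroup.mem_centralizer_singleton_iff] at h
  rw [h, mul_inv_cancel_right] at hinv
  exact ne_inv_of_three hy.pow (hy.ne_one hs.exp2) hinv

/-- Every root gives a component. -/
theorem isComp_compOf {y : ↥L ⧸ Cfsg.pCore 2 ↥L} (hy : hs.IsRoot y) :
    Cfsg.IsJComponent T (compOf L y) := (hs.isComp_of_jroot hy (hs.jroot hy)).1

theorem wOf_compOf {y : ↥L ⧸ Cfsg.pCore 2 ↥L} (hy : hs.IsRoot y) :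
    Cfsg.wOf (compOf L y) = hs.wImage y := (hs.isComp_of_jroot hy (hs.jroot hy)).2

/-- Every component in `L` comes from a root. -/
theorem exists_root_of_comp {K : Subgroup G} (hK : Cfsg.IsJComponent T K) (hKL : K ≤ L) :
    ∃ y, hs.IsRoot y ∧ K = compOf L y := by
  set J := Cfsg.thompsonSubgroupOf 2 T
  obtain ⟨hgen, hcomm, hidx, -⟩ := hK
  have hJK : J ≤ Subgroup.normalizer (K : Set G) := by
    refine Subgroup.le_normalizer_iff.mpr fun j hj g hg => ?_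
    have h : ⁅g, j⁆ ∈ K := hcomm.le (Subgroup.commutator_mem_commutator hg hj)
    have e : j * g * j⁻¹ = ⁅g, j⁆⁻¹ * g := by rw [commutatorElement_def]; group
    rw [e]; exact mul_mem (inv_mem h) hg
  have hKnj : K ≤ njOf T L := by
    rw [← hcomm, Subgroup.commutator_le]
    intro g hg j hj
    rw [commutatorElement_def]
    exact mul_mem (Subgroup.subset_closure ⟨g, hKL hg, j, hj, rfl⟩) (inv_mem (jOf_le_njOf T L hj))
  set F := Cfsg.fittingSubgroup ↥(actRange T L)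
  set Kb := (K.subgroupOf L).map (toBar L) with hKb
  have hKbN : Kb ≤ nBar T L := Subgroup.map_mono fun x hx => hKnj hx
  have hfK : ∀ x ∈ Kb, hs.fBar x ∈ F := by
    intro x hx
    obtain ⟨g, hg, rfl⟩ := hx
    have hle : K ≤ ((F.comap hs.fBar).comap (toBar L)).map L.subtype := by
      rw [← hgen]
      refine (Subgroup.closure_le _).mpr fun x ⟨hxK, hxo⟩ => ⟨⟨x, hKL hxK⟩, ?_, rfl⟩
      rw [SetLike.mem_coe, Subgroup.mem_comap, Subgroup.mem_comap, hs.fBar_toBar]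
      refine eSub_le hs.exp2 hs.good (mem_eSub_of_odd hs.exp2 hs.good (hs.toX_nj (hKnj hxK)) ?_)
      refine Odd.of_dvd_nat ?_ (orderOf_map_dvd (toX T L) ⟨x, hKL hxK⟩)
      rwa [Subgroup.orderOf_mk]
    exact (Subgroup.mem_map_iff_mem L.subtype_injective).mp (hle hg)
  have hc := hs.cover
  obtain ⟨a, haJ, ha, k, hk, hne⟩ : ∃ a ∈ jBar T L, IsLift hs.exp2 hs.fBar (nBar T L) a ∧
      ∃ k ∈ Kb, hs.fBar (k * a * k⁻¹ * a) ≠ 1 := by
    by_contra hno
    push Not at hno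
    have hcent : ∀ k ∈ Kb, ∀ j ∈ jBar T L, hs.fBar k * hs.fBar j = hs.fBar j * hs.fBar k := by
      intro k hk j hj
      have hle : jBar T L ≤ (Subgroup.centralizer ({hs.fBar k} : Set ↥(actRange T L))).comap hs.fBar := by
        refine hs.jBar_le_closure.trans ((Subgroup.closure_le _).mpr fun t ⟨ht, htl⟩ => ?_)
        rw [SetLike.mem_coe, Subgroup.mem_comap, Subgroup.mem_centralizer_singleton_iff]
        have h := hno t ht htl k hk
        rw [map_mul, map_mul, map_mul, map_inv, mul_eq_one_iff_eq_inv,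
          inv_eq_of_mul_eq_one_right htl.2.2.1, mul_inv_eq_iff_eq_mul] at h
        exact h.symm
      exact (Subgroup.mem_centralizer_singleton_iff.mp (hle hj)).symm
    have h1 : ∀ x ∈ Kb, hs.fBar x = 1 := by
      intro x hx
      obtain ⟨g, hg, rfl⟩ := hx
      have hle : K ≤ ((hs.fBar.ker).comap (toBar L)).map L.subtype := by
        conv_lhs => rw [← hcomm]
        rw [Subgroup.commutator_le]
        intro g hg j hj
        have hjL := hs.sylow.1 (jOf_le T hj)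
        refine ⟨⁅(⟨g, hKL hg⟩ : ↥L), ⟨j, hjL⟩⁆, ?_, rfl⟩
        rw [SetLike.mem_coe, Subgroup.mem_comap, MonoidHom.mem_ker, map_commutatorElement, map_commutatorElement,
          commutatorElement_eq_one_iff_mul_comm]
        exact hcent _ ⟨⟨g, hKL hg⟩, hg, rfl⟩ _ ⟨⟨j, hjL⟩, hj, rfl⟩
      exact (Subgroup.mem_map_iff_mem L.subtype_injective).mp (hle hg)
    have h2 : K ≤ Cfsg.pCoreOf 2 L := by
      rw [← hcomm, Subgroup.commutator_le]
      intro g hg j hj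
      have hjL := hs.sylow.1 (jOf_le T hj)
      refine (toBar_eq_one (g := ⁅(⟨g, hKL hg⟩ : ↥L), ⟨j, hjL⟩⁆)).mp ?_
      rw [map_commutatorElement, commutatorElement_eq_one_iff_mul_comm]
      exact hc.comm _ (h1 _ ⟨⟨g, hKL hg⟩, hg, rfl⟩) _ (jBar_le_nBar T L ⟨⟨j, hjL⟩, hj, rfl⟩)
    have h3 : K = ⊥ := by
      rw [← hgen, Subgroup.closure_eq_bot_iff]
      rintro g ⟨hgK, hgo⟩
      obtain ⟨n, hn⟩ := pow_two_of_mem (Cfsg.Agent.LargeSub.isPGroup_pCoreOf L) (h2 hgK)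
      exact Subgroup.mem_bot.mp (mem_of_pow_two hgo (n := n) (C := ⊥) (Subgroup.mem_bot.mpr hn))
    rw [h3, Subgroup.relIndex_bot_right] at hidx
    omega
  obtain ⟨hz, -, -⟩ := root_of_comm hs.exp2 hs.good hc ha (hfK k hk) hne
  set z := k * a * k⁻¹ * a with hzdef
  have hzK : z ∈ Kb := by
    rw [hzdef, mul_assoc, mul_assoc]
    refine mul_mem hk ?_
    obtain ⟨a', ha', rfl⟩ := haJ
    obtain ⟨g, hg, rfl⟩ := hk
    have e : toBar L a' * ((toBar L g)⁻¹ * toBar L a') = toBar L (a' * g⁻¹ * a'⁻¹) := by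
      have hai : (toBar L a')⁻¹ = toBar L a' := ha.inv_eq
      simp [map_mul, map_inv, hai, mul_assoc]
    rw [e]
    exact Subgroup.mem_map_of_mem _ ((Subgroup.mem_normalizer_iff.mp (hJK ha') _).mp (inv_mem hg))
  refine ⟨z, hz, ?_⟩
  set P := Cfsg.pCoreOf 2 K
  have hPQ : P ≤ Cfsg.pCoreOf 2 L := by
    intro d hd
    have hdK := Cfsg.Agent.LargeSub.pCoreOf_le K hd
    obtain ⟨n, hn⟩ := pow_two_of_mem (Cfsg.Agent.LargeSub.isPGroup_pCoreOf K) hd
    refine (toBar_eq_one (g := ⟨d, hKL hdK⟩)).mp ?_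
    set e := toBar L ⟨d, hKL hdK⟩ with he
    have h1 : e ^ 2 ^ n = 1 := by
      rw [he, ← map_pow, show (⟨d, hKL hdK⟩ : ↥L) ^ 2 ^ n = 1 from Subtype.ext hn, map_one]
    have heK : e ∈ Kb := ⟨⟨d, hKL hdK⟩, hdK, rfl⟩
    have hf : hs.fBar e = 1 := by
      refine orderOf_eq_one_iff.mp (Nat.eq_one_of_dvd_coprimes
        (Nat.Coprime.pow_left n (Nat.coprime_two_left.mpr (hs.good.odd_orderOf (hfK e heK))))
        (orderOf_dvd_of_pow_eq_one (by rw [← map_pow, h1, map_one])) dvd_rfl)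
    clear_value e
    clear he hn
    induction n with
    | zero => simpa using h1
    | succ n ih =>
      refine ih (hc.sq _ (by rw [map_pow, hf, one_pow]) ?_)
      rw [← pow_two, ← pow_mul, ← pow_succ]; exact h1
  set φ : ↥K →* ↥L ⧸ Cfsg.pCore 2 ↥L := (toBar L).comp (Subgroup.inclusion hKL)
  have hrange : φ.range = Kb := by
    rw [hKb, MonoidHom.range_comp]
    congr 1
    ext x
    exact ⟨fun ⟨w, hw⟩ => hw ▸ w.2, fun hx => ⟨⟨x, hx⟩, rfl⟩⟩
  have hPker : P.subgroupOf K ≤ φ.ker := fun x hx => by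
    rw [MonoidHom.mem_ker, MonoidHom.comp_apply, toBar_eq_one]; exact hPQ hx
  have : Fact (Nat.Prime 3) := ⟨Nat.prime_three⟩
  have hcard : Nat.card Kb ∣ 3 := by
    rw [← hrange, ← Subgroup.index_ker, ← hidx]
    exact Subgroup.index_dvd_of_le hPker
  have hKz : Kb = Subgroup.zpowers z := by
    refine (Subgroup.eq_of_le_of_card_ge (Subgroup.zpowers_le.mpr hzK) ?_).symm
    rw [Nat.card_zpowers, orderOf_eq_prime hz.pow (hz.ne_one hs.exp2)]
    exact Nat.le_of_dvd (by norm_num) hcard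
  refine le_antisymm ?_ ((Subgroup.closure_le _).mpr ?_)
  · conv_lhs => rw [← hgen]
    refine (Subgroup.closure_le _).mpr fun g ⟨hgK, hgo⟩ => Subgroup.subset_closure ⟨hKL hgK, hgo, ?_⟩
    rw [← hKz]; exact ⟨⟨g, hKL hgK⟩, hgK, rfl⟩
  rintro g ⟨hgL, hgo, hgz⟩
  rw [← hKz] at hgz
  obtain ⟨g', hg', hgg⟩ := hgz
  have hq : (g' : G)⁻¹ * g ∈ Cfsg.pCoreOf 2 L := toBar_eq_iff.mp hgg
  -- `O₂(L)` normalises `K`
  have hQK : Cfsg.pCoreOf 2 L ≤ Subgroup.normalizer (K : Set G) := by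
    have hJp : IsPGroup 2 J := hs.sylow.2.1.to_le (jOf_le T)
    have hoddH : ∀ x ∈ K ⊔ J, Odd (orderOf x) → x ∈ K := by
      intro x hx hxo
      rw [← SetLike.mem_coe, Subgroup.coe_mul_of_right_le_normalizer_left K J hJK] at hx
      obtain ⟨c, hc, j, hj, rfl⟩ := hx
      exact mem_left_of_odd hJp hJK hc hj hxo
    have hQJ : ∀ q ∈ Cfsg.pCoreOf 2 L, ∀ j ∈ J, q * j * q⁻¹ ∈ J := fun q hq j hj =>
      (Subgroup.mem_normalizer_iff.mp (jOf_normalized T (hs.q_le hq)) j).mp hj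
    refine Subgroup.le_normalizer_iff.mpr fun q hq => ?_
    have hsup : K ≤ (K ⊔ J).comap (MulAut.conj q).toMonoidHom := by
      conv_lhs => rw [← hcomm]
      rw [Subgroup.commutator_le]
      intro g hg j hj
      show q * ⁅g, j⁆ * q⁻¹ ∈ K ⊔ J
      set q' := g⁻¹ * (q * g * q⁻¹)
      have hq' : q' ∈ Cfsg.pCoreOf 2 L := by
        have := (Subgroup.mem_normalizer_iff''.mp (Cfsg.Agent.LargeSub.self_le_normalizer_pCoreOf L (hKL hg)) q).mp hq
        simpa [q', mul_assoc] using mul_mem this (inv_mem hq)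
      set j' := q * j * q⁻¹
      have e : q * ⁅g, j⁆ * q⁻¹ = g * ((q' * j' * q'⁻¹) * j'⁻¹) * g⁻¹ * ⁅g, j'⁆ := by
        simp only [q', j', commutatorElement_def]; group
      rw [e]
      refine mul_mem (mul_mem (mul_mem (Subgroup.mem_sup_left hg) (Subgroup.mem_sup_right ?_))
        (inv_mem (Subgroup.mem_sup_left hg))) (Subgroup.mem_sup_left (hcomm.le ?_))
      · exact mul_mem (hQJ _ hq' _ (hQJ _ hq _ hj)) (inv_mem (hQJ _ hq _ hj))
      · exact Subgroup.commutator_mem_commutator hg (hQJ _ hq _ hj)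
    have hle : K ≤ K.comap (MulAut.conj q).toMonoidHom := by
      conv_lhs => rw [← hgen]
      refine (Subgroup.closure_le _).mpr fun x ⟨hxK, hxo⟩ => hoddH _ (hsup hxK) ?_
      have := orderOf_injective (MulAut.conj q).toMonoidHom (MulAut.conj q).injective x
      rwa [this]
    exact fun x hx => hle hx
  have := mem_left_of_odd (Cfsg.Agent.LargeSub.isPGroup_pCoreOf L) hQK (c := (g' : G)) hg' hq
    (by rwa [mul_inv_cancel_left])
  rwa [mul_inv_cancel_left] at this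

theorem njOf_le_normalizer_comp {K : Subgroup G} (hK : Cfsg.IsJComponent T K) (hKL : K ≤ L) :
    njOf T L ≤ Subgroup.normalizer (K : Set G) := by
  obtain ⟨y, hy, rfl⟩ := hs.exists_root_of_comp hK hKL
  exact hs.njOf_le_normalizer_compOf hy

/-- Components with the same four-group are equal. -/
theorem comp_eq_of_wOf {K K' : Subgroup G} (hK : Cfsg.IsJComponent T K) (hKL : K ≤ L)
    (hK' : Cfsg.IsJComponent T K') (hK'L : K' ≤ L) (h : Cfsg.wOf K' = Cfsg.wOf K) : K' = K := by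
  obtain ⟨y, hy, rfl⟩ := hs.exists_root_of_comp hK hKL
  obtain ⟨y', hy', rfl⟩ := hs.exists_root_of_comp hK' hK'L
  rw [hs.wOf_compOf hy, hs.wOf_compOf hy'] at h
  have hm := Subgroup.map_injective (vOf T L).subtype_injective h
  refine compOf_congr L (le_antisymm ?_ ?_) <;> rw [Subgroup.zpowers_le]
  · exact Root.zpowers_eq hs.exp2 hs.good hs.cover hy hy' hm
  · exact Root.zpowers_eq hs.exp2 hs.good hs.cover hy' hy hm.symm

/-- Conjugates of components are components. -/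
theorem conj_comp {K : Subgroup G} (hK : Cfsg.IsJComponent T K) (hKL : K ≤ L) {g : G} (hg : g ∈ L) :
    Cfsg.IsJComponent T (K.map (MulAut.conj g).toMonoidHom) ∧ K.map (MulAut.conj g).toMonoidHom ≤ L := by
  obtain ⟨y, hy, rfl⟩ := hs.exists_root_of_comp hK hKL
  have h := compOf_conj L ⟨g, hg⟩ y
  rw [← h]
  exact ⟨hs.isComp_compOf (Root.map_conj hs.exp2 hs.good hs.cover hy _), compOf_le L _⟩

/-- Four-groups of distinct components meet trivially and centralise the other component. -/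
theorem wOf_disjoint {K K' : Subgroup G} (hK : Cfsg.IsJComponent T K) (hKL : K ≤ L)
    (hK' : Cfsg.IsJComponent T K') (hK'L : K' ≤ L) (hne : K' ≠ K) :
    Cfsg.wOf K ⊓ Cfsg.wOf K' = ⊥ ∧ K ≤ Subgroup.centralizer (Cfsg.wOf K' : Set G) := by
  have hne' : Cfsg.wOf K' ≠ Cfsg.wOf K := fun h => hne (hs.comp_eq_of_wOf hK hKL hK' hK'L h)
  obtain ⟨y, hy, rfl⟩ := hs.exists_root_of_comp hK hKL
  obtain ⟨y', hy', rfl⟩ := hs.exists_root_of_comp hK' hK'L
  rw [hs.wOf_compOf hy, hs.wOf_compOf hy'] at hne' ⊢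
  have hm : moved hs.exp2 (hs.fBar y') ≠ moved hs.exp2 (hs.fBar y) :=
    fun h => hne' (congrArg (Subgroup.map (vOf T L).subtype) h)
  constructor
  · rw [eq_bot_iff]
    rintro x ⟨⟨v, hv, rfl⟩, ⟨v', hv', hvv⟩⟩
    cases (vOf T L).subtype_injective hvv
    rw [Factor.inf_eq_bot hs.exp2 hs.good hy.factor hy'.factor hm hv hv', map_one]
    exact one_mem _
  · intro g hg
    rw [Subgroup.mem_centralizer_iff]
    rintro _ ⟨v, hv, rfl⟩
    have hgz := toBar_compOf L (g := ⟨g, compOf_le L y hg⟩) hg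
    have hfix : hs.fBar (toBar L ⟨g, compOf_le L y hg⟩) • v = v := by
      have hle : Subgroup.zpowers y ≤ (MulAction.stabilizer ↥(actRange T L) v).comap hs.fBar :=
        Subgroup.zpowers_le.mpr (Factor.fix_of_ne hs.exp2 hs.good hy.factor hy'.factor hm hv)
      exact hle hgz
    have := congrArg Subtype.val hfix
    rw [hs.fBar_toBar, smul_coe] at this
    exact (mul_inv_eq_iff_eq_mul.mp this).symm

/-- A component exists. -/
theorem exists_comp : ∃ K, Cfsg.IsJComponent T K ∧ K ≤ L := by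
  obtain ⟨A, hA, a, haA, ha, hat⟩ := hs.exists_lift
  have hj : toBar L ⟨a, ha⟩ ∈ jBar T L := ⟨⟨a, ha⟩, le_jOf hA haA, rfl⟩
  have hlift : IsLift hs.exp2 hs.fBar (nBar T L) (toBar L ⟨a, ha⟩) := ⟨jBar_le_nBar T L hj,
    by rw [← map_mul, show (⟨a, ha⟩ : ↥L) * ⟨a, ha⟩ = 1 from Subtype.ext (elem_mul_self hA.2.1 haA), map_one],
    hat⟩
  obtain ⟨y, hy, -, -⟩ := exists_root hs.exp2 hs.good hs.cover hs.fBar_surjective hlift
  exact ⟨_, hs.isComp_compOf hy, compOf_le L y⟩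

/-- A subgroup containing `J(T)`, `O₂(L)` and all components contains the closure of `J(T)`. -/
theorem njOf_le_of_comps {M : Subgroup G} (hJ : Cfsg.thompsonSubgroupOf 2 T ≤ M)
    (hQ : Cfsg.pCoreOf 2 L ≤ M) (hcomps : ∀ K, Cfsg.IsJComponent T K → K ≤ L → K ≤ M) :
    njOf T L ≤ M := by
  set Mb := (M.subgroupOf L).map (toBar L)
  have hJb : jBar T L ≤ Mb := Subgroup.map_mono fun x hx => hJ hx
  have hroot : ∀ y, hs.IsRoot y → y ∈ Mb := fun y hy => by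
    obtain ⟨k, hk, -, hky⟩ := hs.exists_rep hy
    exact ⟨k, hcomps _ (hs.isComp_compOf hy) (compOf_le L y) hk, hky⟩
  refine (Subgroup.closure_le _).mpr ?_
  rintro _ ⟨g, hg, a, ha, rfl⟩
  obtain ⟨n, hn, hng⟩ := hs.frattini hg
  have hnL := hs.njOf_le hn
  have haL := hs.sylow.1 (jOf_le T ha)
  have hmem : n⁻¹ * g * a * (n⁻¹ * g)⁻¹ ∈ Cfsg.thompsonSubgroupOf 2 T :=
    (Subgroup.mem_normalizer_iff.mp hng a).mp ha
  set jj : ↥L := ⟨_, hs.sylow.1 (jOf_le T hmem)⟩ with hjj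
  have key : ∀ j ∈ jBar T L, toBar L ⟨n, hnL⟩ * j * (toBar L ⟨n, hnL⟩)⁻¹ ∈ Mb := by
    intro j hj
    have hle : jBar T L ≤ Mb.comap (MulAut.conj (toBar L ⟨n, hnL⟩)).toMonoidHom :=
      hs.jBar_le_closure.trans ((Subgroup.closure_le _).mpr fun t ⟨htJ, ht⟩ =>
        Cover.conj_lift_mem hs.exp2 hs.good hs.cover hs.fBar_surjective hroot ht (hJb htJ) ⟨_, hn, rfl⟩)
    exact hle hj
  obtain ⟨m, hm, hme⟩ := key (toBar L jj) ⟨jj, hmem, rfl⟩
  rw [← map_inv, ← map_mul, ← map_mul] at hme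
  have hq := toBar_eq_iff.mp hme
  have := M.mul_mem (show (m : G) ∈ M from hm) (hQ (x := _) hq)
  simpa [hjj, mul_assoc] using this

/-- If all components, `J(T)`, `O₂(L)` and `N_L(J(T))` lie in `M`, then so does `L`. -/
theorem le_of_comps {M : Subgroup G} (hN : L ⊓ Subgroup.normalizer (Cfsg.thompsonSubgroupOf 2 T : Set G) ≤ M)
    (hcomps : ∀ K, Cfsg.IsJComponent T K → K ≤ L → K ≤ M) : L ≤ M := by
  have hTM : T ≤ M := (le_inf hs.sylow.1 (jOf_normalized T)).trans hN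
  have hnj := hs.njOf_le_of_comps ((jOf_le T).trans hTM) (hs.q_le.trans hTM) hcomps
  intro g hg
  obtain ⟨n, hn, hng⟩ := hs.frattini hg
  have := mul_mem (hnj hn) (hN ⟨L.mul_mem (L.inv_mem (hs.njOf_le hn)) hg, hng⟩)
  rwa [mul_inv_cancel_left] at this

end Setup

end Cfsg.Agent.JComp
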