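import Cfsg.Agent.Lib.JComp.Base

/-!
Conjugation of `Ω₁(Z(·))`, `W_K` and `J(T)`-components.
-/

set_option autoImplicit false

namespace Cfsg.Agent.JComp

variable {G : Type*} [Group G]

theorem map_conj_le_iff {g : G} {A B : Subgroup G} :
    A.map (MulAut.conj g).toMonoidHom ≤ B ↔ A ≤ B.map (MulAut.conj g⁻¹).toMonoidHom := by
  constructor
  · intro h
    have := Subgroup.map_mono (f := (MulAut.conj g⁻¹).toMonoidHom) h
    rwa [map_map_conj, inv_mul_cancel, map_conj_one] at this
  · intro h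
    have := Subgroup.map_mono (f := (MulAut.conj g).toMonoidHom) h
    rwa [map_map_conj, mul_inv_cancel, map_conj_one] at this

theorem omegaCenterOf_conj (g : G) (X : Subgroup G) :
    Cfsg.omegaCenterOf (X.map (MulAut.conj g).toMonoidHom) =
      (Cfsg.omegaCenterOf X).map (MulAut.conj g).toMonoidHom := by
  have key : ∀ (a : G) (Y : Subgroup G), (Cfsg.omegaCenterOf Y).map (MulAut.conj a).toMonoidHom ≤
      Cfsg.omegaCenterOf (Y.map (MulAut.conj a).toMonoidHom) := by
    rintro a Y _ ⟨z, hz, rfl⟩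
    obtain ⟨h1, h2, h3⟩ := mem_omegaCenterOf.mp hz
    refine mem_omegaCenterOf.mpr ⟨Subgroup.mem_map_of_mem _ h1, ?_, by rw [← map_mul, h3, map_one]⟩
    rintro _ ⟨t, ht, rfl⟩
    rw [← map_mul, ← map_mul, h2 t ht]
  refine le_antisymm ?_ (key g X)
  have := key g⁻¹ (X.map (MulAut.conj g).toMonoidHom)
  rw [map_map_conj, inv_mul_cancel, map_conj_one, map_conj_le_iff, inv_inv] at this
  exact this

variable [Finite G]

theorem wOf_conj (g : G) (K : Subgroup G) :
    Cfsg.wOf (K.map (MulAut.conj g).toMonoidHom) = (Cfsg.wOf K).map (MulAut.conj g).toMonoidHom := by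
  rw [Cfsg.wOf, Cfsg.wOf, pCoreOf_conj, omegaCenterOf_conj, Subgroup.map_commutator]

theorem sylowTwo_map_iff {S L : Subgroup G} {g : G}
    (h : Cfsg.IsSylowTwoIn S (L.map (MulAut.conj g).toMonoidHom)) :
    Cfsg.IsSylowTwoIn (S.map (MulAut.conj g⁻¹).toMonoidHom) L := by
  have := sylowTwo_conj h g⁻¹
  rwa [map_map_conj, inv_mul_cancel, map_conj_one] at this

theorem isJComponent_conj {T K : Subgroup G} (h : Cfsg.IsJComponent T K) (g : G) :
    Cfsg.IsJComponent (T.map (MulAut.conj g).toMonoidHom) (K.map (MulAut.conj g).toMonoidHom) := by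
  obtain ⟨h1, h2, h3, h4, h5, h6⟩ := h
  refine ⟨?_, ?_, ?_, ?_, ?_, ?_⟩
  · conv_rhs => rw [← h1, MonoidHom.map_closure]
    congr 1
    ext x
    constructor
    · rintro ⟨⟨y, hy, rfl⟩, hxo⟩
      exact ⟨y, ⟨hy, by
        rwa [orderOf_injective (MulAut.conj g).toMonoidHom (MulAut.conj g).injective y] at hxo⟩, rfl⟩
    · rintro ⟨y, ⟨hy, hyo⟩, rfl⟩
      exact ⟨Subgroup.mem_map_of_mem _ hy, by
        rwa [orderOf_injective (MulAut.conj g).toMonoidHom (MulAut.conj g).injective y]⟩
  · rw [jOf_conj, ← Subgroup.map_commutator, h2]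
  · rw [pCoreOf_conj, Subgroup.relIndex_map_map_of_injective _ _ (MulAut.conj g).injective]
    exact h3
  · intro S hS hJS
    rw [jOf_conj] at hS hJS ⊢
    rw [← Subgroup.map_sup] at hS
    have hS' := sylowTwo_map_iff hS
    have := h4 _ hS' (by rw [← map_conj_le_iff]; exact hJS)
    rw [jOf_conj] at this
    rw [← this, map_map_conj, mul_inv_cancel, map_conj_one]
  · rw [wOf_conj, Subgroup.card_map_of_injective (MulAut.conj g).injective]
    exact h5
  · rintro w hw
    rw [wOf_conj] at hw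
    obtain ⟨v, hv, rfl⟩ := hw
    rw [← map_mul, h6 v hv, map_one]

omit [Finite G] in
/-- A component normalises its four-group. -/
theorem le_normalizer_wOf (K : Subgroup G) : K ≤ Subgroup.normalizer (Cfsg.wOf K : Set G) :=
  Subgroup.normalizer_commutator_ge_right _ _

theorem normalizer_le_normalizer_wOf (K : Subgroup G) :
    Subgroup.normalizer (K : Set G) ≤ Subgroup.normalizer (Cfsg.wOf K : Set G) := fun g hg => by
  rw [Subgroup.mem_normalizer_iff_map_conj_eq] at hg ⊢
  show (Cfsg.wOf K).map (MulAut.conj g).toMonoidHom = Cfsg.wOf K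
  rw [← wOf_conj]
  exact congrArg Cfsg.wOf hg

omit [Finite G] in
theorem jOf_le_normalizer {T K : Subgroup G} (hK : Cfsg.IsJComponent T K) :
    Cfsg.thompsonSubgroupOf 2 T ≤ Subgroup.normalizer (K : Set G) :=
  Subgroup.le_normalizer_iff_commutator_le_left.mpr hK.2.1.le

end Cfsg.Agent.JComp
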