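import Cfsg.Agent.Lib.JComp.Central
import Cfsg.Agent.Lib.PLocal.Action

/-!
Two edges at a component whose outer four-groups do not commute.

* `AllComm`, `AllComm.same`, `AllComm.w_le`, `AllComm.crit_sq`, `AllComm.false_of_crit`
-/

set_option autoImplicit false

namespace Cfsg.Agent.JComp

open Cfsg.Agent.PLocal

variable {G : Type*} [Group G]

/-- All pairs over groups of order `n` have commuting four-groups. -/
def AllComm (G : Type*) [Group G] (n : ℕ) : Prop :=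
  ∀ T K K' : Subgroup G, Pair T K K' → Nat.card T = n →
    ∀ a ∈ Cfsg.wOf K, ∀ b ∈ Cfsg.wOf K', a * b = b * a

theorem map_conj_mem_normalizer_iff {X : Subgroup G} [Finite G] {t : G}
    (h : ∀ v ∈ X, t * v * t⁻¹ ∈ X) : t ∈ Subgroup.normalizer (X : Set G) :=
  Subgroup.mem_normalizer_iff_map_conj_eq.mpr <| Subgroup.eq_of_le_of_card_ge
    (by rintro _ ⟨v, hv, rfl⟩; exact h v hv)
    (Subgroup.card_map_of_injective (MulAut.conj t).injective).ge

theorem sq_of_comm {a b : G} (ha : a * a = 1) (hb : b * b = 1) :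
    a * b * (a * b) = a * b * a⁻¹ * b⁻¹ := by
  rw [inv_eq_of_mul_eq_one_right ha, inv_eq_of_mul_eq_one_right hb]; group

variable [Finite G] {n : ℕ}

namespace AllComm

variable (hc : AllComm G n)
include hc

theorem same {T K K' : Subgroup G} (s : Side T K) (s' : Side T K') (hn : Nat.card T = n) {a b : G}
    (ha : a ∈ Cfsg.wOf K) (hb : b ∈ Cfsg.wOf K') : a * b = b * a := by
  by_cases h : ∃ N : Subgroup G, Cfsg.IsTwoLocal N ∧ K ⊔ T ≤ N ∧ K' ⊔ T ≤ N
  · obtain ⟨N, hN, h1, h2⟩ := h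
    have hs := s.setup hN h1
    exact elem_comm hs.vOf_elementary ((hs.comp_rep s.comp (le_sup_left.trans h1)).2.2 ha)
      ((hs.comp_rep s'.comp (le_sup_left.trans h2)).2.2 hb)
  · exact hc T K K' ⟨s, s', fun N hN h1 h2 => h ⟨N, hN, h1, h2⟩⟩ hn a ha b hb

theorem w_le {T K K' : Subgroup G} (p : Pair T K K') (hn : Nat.card T = n) :
    Cfsg.wOf K ≤ Cfsg.pCoreOf 2 (K' ⊔ T) := fun v hv =>
  p.right.mem_q.mpr ⟨p.left.w_le_T hv, fun b hb => (hc T K K' p hn v hv b hb).symm⟩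

theorem crit_sq {T T' K K₀ K₂ : Subgroup G} (p : Pair T K K₀) (q : Pair T' K K₂) (hn : Nat.card T = n)
    (hn' : Nat.card T' = n) (hsame : K ⊔ T' = K ⊔ T) {x u : G} (hx : x ∈ Cfsg.wOf K₀)
    (hu : u ∈ Cfsg.wOf K₂) (hxu : x * u ≠ u * x) :
    sqOf (Cfsg.pCoreOf 2 (K ⊔ T) ⊓ Cfsg.pCoreOf 2 (K₀ ⊔ T)) = sqOf (Cfsg.pCoreOf 2 (K ⊔ T)) ∧
      sqOf (Cfsg.pCoreOf 2 (K ⊔ T) ⊓ Cfsg.pCoreOf 2 (K₀ ⊔ T)) ≠ ⊥ := by
  set Q := Cfsg.pCoreOf 2 (K ⊔ T) with hQ
  set Q₀ := Cfsg.pCoreOf 2 (K₀ ⊔ T) with hQ₀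
  have hW₀ : Cfsg.wOf K₀ ≤ Q := hc.w_le p.symm hn
  have hW₂ : Cfsg.wOf K₂ ≤ Q := by rw [hQ, ← hsame]; exact hc.w_le q.symm hn'
  have hQT' : Q ≤ T' := by rw [hQ, ← hsame]; exact q.left.q_le_T
  have hQT : Q ≤ T := p.left.q_le_T
  have hQnorm : ∀ g ∈ K, ∀ {v : G}, v ∈ Q → g * v * g⁻¹ ∈ Q := fun g hg {v} hv =>
    (Subgroup.mem_normalizer_iff.mp
      (Cfsg.Agent.LargeSub.self_le_normalizer_pCoreOf _ (Subgroup.mem_sup_left hg)) v).mp hv
  obtain ⟨r, hr1, hr0, hr2, hrz, hrz', hrc⟩ :=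
    cross_comm p.right q.right hx hu (hQT' (hW₀ hx)) (hQT (hW₂ hu)) hxu
  have hrzc : r ∈ zc T K := hrc ▸ p.central_of_move hW₀ q.right
    (fun g hg => by
      rintro _ ⟨v, hv, rfl⟩
      exact hQT' (hQnorm g hg (hW₀ hv))) hx hu (hW₂ hu) hxu
  have hrK : ∀ g ∈ K, g * r * g⁻¹ = r := fun g hg =>
    mul_inv_eq_iff_eq_mul.mpr (Subgroup.mem_centralizer_iff.mp hrzc.2 g hg)
  have hrT : ∀ t ∈ T, t * r = r * t := fun t ht => p.z0_central ht hrz
  have hr2' : r * r = 1 := omegaCenterOf_sq hrz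
  have hu2 : u * u = 1 := q.right.w_sq hu
  have hui : u⁻¹ = u := inv_eq_of_mul_eq_one_right hu2
  have huT := hQT (hW₂ hu)
  have huQ₀ : u ∉ Side.qT p.right := fun h => hxu (Subgroup.mem_centralizer_iff.mp h.2 x hx)
  -- choose the element of order 3 carrying `T` to `T'`
  obtain ⟨z, hz, hz3, hdec, hfp, hT'⟩ : ∃ z ∈ K, z ^ 3 = 1 ∧
      (∀ g ∈ K, ∃ i : ℕ, (z ^ i)⁻¹ * g ∈ Cfsg.pCoreOf 2 K) ∧
      (∀ w ∈ Cfsg.wOf K, z * w * z⁻¹ = w → w = 1) ∧ T' = T.map (MulAut.conj z).toMonoidHom := by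
    obtain ⟨y, hy, hy3, hdec, hfp⟩ := p.left.exists_y
    obtain ⟨i, hi⟩ := p.left.sylow_eq hdec (T' := T') (hsame ▸ q.left.sylow_P)
    have hyi : y ^ i = y ^ (i % 3) := by
      conv_lhs => rw [← Nat.mod_add_div i 3, pow_add, pow_mul, hy3, one_pow, mul_one]
    rw [hyi] at hi
    obtain h | h | h : i % 3 = 0 ∨ i % 3 = 1 ∨ i % 3 = 2 := by omega
    · exfalso
      rw [h, pow_zero, map_conj_one] at hi
      subst hi
      exact hxu (hc.same p.right q.right hn hx hu)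
    · rw [h, pow_one] at hi
      exact ⟨y, hy, hy3, hdec, hfp, hi⟩
    · rw [h] at hi
      refine ⟨y ^ 2, K.pow_mem hy 2, by rw [← pow_mul, show 2 * 3 = 3 * 2 from rfl, pow_mul, hy3, one_pow],
        fun g hg => ?_, fun w hw e => hfp w hw ?_, hi⟩
      · obtain ⟨j, hj⟩ := hdec g hg
        refine ⟨2 * j, ?_⟩
        rwa [← pow_mul, show 2 * (2 * j) = j + 3 * j by omega, pow_add, pow_mul, hy3, one_pow, mul_one]
      · calc y * w * y⁻¹ = y * (y ^ 2 * w * (y ^ 2)⁻¹) * y⁻¹ := by rw [e]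
          _ = (y * y ^ 2) * w * (y * y ^ 2)⁻¹ := by group
          _ = w := by rw [← pow_succ', hy3]; group
  have hp : Pair T' K (K₀.map (MulAut.conj z).toMonoidHom) := by
    have := p.conj z
    rwa [map_conj_eq_self (Subgroup.le_normalizer hz), ← hT'] at this
  have hnz : z⁻¹ ∈ K := K.inv_mem hz
  have hcv : ∀ v ∈ Cfsg.wOf K₀, u * (z * v * z⁻¹) = z * v * z⁻¹ * u := fun v hv =>
    hc.same q.right hp.right hn' hu (by rw [wOf_conj]; exact conj_mem_map hv)
  -- `u` moves the third four-group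
  have huk : ∃ v ∈ Cfsg.wOf K₀, u * (z ^ 2 * v * (z ^ 2)⁻¹) ≠ z ^ 2 * v * (z ^ 2)⁻¹ * u := by
    by_contra hno
    push Not at hno
    obtain ⟨a, haJ, haQ⟩ := q.left.exists_swap
    have haT' := jOf_le T' haJ
    have ha₀ : z⁻¹ * a * z ∈ T := by rw [hT'] at haT'; exact mem_map_conj.mp haT'
    have ha₀Q : z⁻¹ * a * z ∉ Side.qT p.left := by
      intro h
      refine haQ ⟨haT', Subgroup.mem_centralizer_iff.mpr fun v hv => ?_⟩
      have hv' : z⁻¹ * v * z ∈ Cfsg.wOf K :=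
        (Subgroup.mem_normalizer_iff''.mp (le_normalizer_wOf K hz) v).mp hv
      have hh := Subgroup.mem_centralizer_iff.mp h.2 _ hv'
      calc v * a = z * ((z⁻¹ * v * z) * (z⁻¹ * a * z)) * z⁻¹ := by group
        _ = z * ((z⁻¹ * a * z) * (z⁻¹ * v * z)) * z⁻¹ := by rw [hh]
        _ = a * v := by group
    obtain ⟨p₀, hp₀, haeq⟩ := p.left.invert hz hz3 hdec hfp ha₀ ha₀Q
    have hax : ∃ v ∈ Cfsg.wOf K₀, a * x * a⁻¹ = z ^ 2 * v * (z ^ 2)⁻¹ := by
      have hm : (z⁻¹ * p₀⁻¹ * z) * (z⁻¹ * a * z) ∈ T := by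
        refine T.mul_mem (p.left.core_le ?_) ha₀
        exact (Subgroup.mem_normalizer_iff''.mp (Cfsg.Agent.LargeSub.self_le_normalizer_pCoreOf K hz) _).mp
          (inv_mem hp₀)
      refine ⟨_, (Subgroup.mem_normalizer_iff.mp (p.right.T_le_normalizer_w hm) x).mp hx, ?_⟩
      have hae : a = z ^ 2 * ((z⁻¹ * p₀⁻¹ * z) * (z⁻¹ * a * z)) := by
        have e1 : p₀⁻¹ * z = (z⁻¹ * a * z) * z⁻¹ * (z⁻¹ * a * z)⁻¹ := by
          rw [← inv_inj, mul_inv_rev, inv_inv, ← haeq]; group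
        calc a = z * ((z⁻¹ * a * z) * z⁻¹ * (z⁻¹ * a * z)⁻¹) * (z⁻¹ * a * z) := by group
          _ = z * (p₀⁻¹ * z) * (z⁻¹ * a * z) := by rw [e1]
          _ = _ := by simp [pow_succ, mul_assoc]
      conv_lhs => rw [hae]
      group
    obtain ⟨v, hv, hav⟩ := hax
    have hrv : r * (z ^ 2 * v * (z ^ 2)⁻¹) = z ^ 2 * v * (z ^ 2)⁻¹ * r := by
      have h1 := (hrT v (p.right.w_le_T hv)).symm
      calc r * (z ^ 2 * v * (z ^ 2)⁻¹) = (z ^ 2 * r * (z ^ 2)⁻¹) * (z ^ 2 * v * (z ^ 2)⁻¹) := by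
            rw [hrK _ (K.pow_mem hz 2)]
        _ = z ^ 2 * (r * v) * (z ^ 2)⁻¹ := by rw [conj_mul]
        _ = z ^ 2 * (v * r) * (z ^ 2)⁻¹ := by rw [h1]
        _ = (z ^ 2 * v * (z ^ 2)⁻¹) * (z ^ 2 * r * (z ^ 2)⁻¹) := by rw [conj_mul]
        _ = _ := by rw [hrK _ (K.pow_mem hz 2)]
    have hau : a * u * a⁻¹ * (a * x * a⁻¹) = a * x * a⁻¹ * (a * u * a⁻¹) := by
      rw [hav]
      rcases q.right.comm_mem haT' hu hr2 hr1 hrz' with h | h <;> rw [h]
      · exact hno v hv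
      · exact ((show Commute u _ from hno v hv).mul_left (show Commute r _ from hrv)).eq
    rw [conj_mul, conj_mul, mul_left_inj, mul_right_inj] at hau
    exact hxu hau.symm
  obtain ⟨vk, hvk, hvk'⟩ := huk
  -- the conjugate of `u` in `O₂` of the first edge
  set u₁ := z⁻¹ * u * z with hu₁
  have hu₁Q : u₁ ∈ Q := by
    have := hQnorm z⁻¹ hnz (hW₂ hu)
    rwa [inv_inv] at this
  have hu₁0 : u₁ ∈ Q₀ := p.right.mem_q.mpr ⟨hQT hu₁Q, fun v hv => by
    calc v * u₁ = z⁻¹ * ((z * v * z⁻¹) * u) * z := by rw [hu₁]; group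
      _ = z⁻¹ * (u * (z * v * z⁻¹)) * z := by rw [hcv v hv]
      _ = u₁ * v := by rw [hu₁]; group⟩
  set b := z * vk * z⁻¹ with hb
  have hbW : b ∈ Cfsg.wOf (K₀.map (MulAut.conj z).toMonoidHom) := by
    rw [wOf_conj]; exact conj_mem_map hvk
  have hbu : b * u₁ ≠ u₁ * b := by
    intro h
    refine hvk' ?_
    calc u * (z ^ 2 * vk * (z ^ 2)⁻¹) = z * (u₁ * b) * z⁻¹ := by rw [hu₁, hb]; simp [pow_succ, mul_assoc]
      _ = z * (b * u₁) * z⁻¹ := by rw [h]
      _ = z ^ 2 * vk * (z ^ 2)⁻¹ * u := by rw [hu₁, hb]; simp [pow_succ, mul_assoc]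
  have hWv : ∀ {v : G}, v ∈ Cfsg.wOf (K₀.map (MulAut.conj z).toMonoidHom) → v ∈ Q := by
    intro v hv
    rw [wOf_conj] at hv
    have := hQnorm z hz (hW₀ (mem_map_conj.mp hv))
    simpa [mul_assoc] using this
  have hrv' : r ∈ Cfsg.wOf (K₀.map (MulAut.conj z).toMonoidHom) := by
    rw [wOf_conj, ← hrK z hz]; exact conj_mem_map hr0
  have hrsq : r ∈ sqOf (Q ⊓ Q₀) := by
    by_cases hcom : ∀ a ∈ Cfsg.wOf K₀, a * b = b * a
    · have hbD : b ∈ Q ⊓ Q₀ := ⟨hWv hbW, p.right.mem_q.mpr ⟨hQT (hWv hbW), hcom⟩⟩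
      have hmv : u₁ * b * u₁⁻¹ = b * r := (hp.right.comm_mem (hQT' hu₁Q) hbW hrv' hr1 hrz').resolve_left
        fun e => hbu (mul_inv_eq_iff_eq_mul.mp e).symm
      have hu₁i : u₁⁻¹ = u₁ := by rw [hu₁]; simp [mul_assoc, hui]
      have e : (b * u₁) * (b * u₁) = r := by
        rw [hu₁i] at hmv
        calc (b * u₁) * (b * u₁) = b * (u₁ * b * u₁) := by group
          _ = r := by rw [hmv, ← mul_assoc, hp.right.w_sq hbW, one_mul]
      rw [← e]
      exact sq_mem_sqOf (mul_mem hbD ⟨hu₁Q, hu₁0⟩)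
    · push Not at hcom
      obtain ⟨a, ha, hab⟩ := hcom
      have haT' : a ∈ T' := hQT' (hW₀ ha)
      set a' := z * a * z⁻¹ with ha'
      have ha'W : a' ∈ Cfsg.wOf (K₀.map (MulAut.conj z).toMonoidHom) := by
        rw [wOf_conj]; exact conj_mem_map ha
      have har : a * r = r * a := hrT a (p.right.w_le_T ha)
      have hne : a * a' ≠ a' * a := by
        intro h
        have h1 : a' ≠ 1 := fun e => hab (by rw [conj_eq_one_iff.mp e, one_mul, mul_one])
        have h2 : a' ≠ r := fun e => by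
          refine hab ?_
          have : a = r := by
            rw [ha', ← hrK z hz] at e
            exact mul_left_cancel (mul_right_cancel e)
          rw [this]
          exact (hrT b (hQT (hWv hbW))).symm
        rcases hp.right.w_gen hrv' ha'W hr1 h1 h2.symm hbW with e | e | e | e
        · exact hab (by rw [e, one_mul, mul_one])
        · exact hab (by rw [e]; exact har)
        · exact hab (by rw [e]; exact h)
        · exact hab (by rw [e]; exact ((show Commute a r from har).mul_right (show Commute a a' from h)).eq)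
      obtain ⟨w, hw1, hwa, -, hwz, -, hwc⟩ :=
        cross_comm p.right hp.right ha ha'W haT' (hQT (hWv ha'W)) hne
      obtain rfl : w = r := p.right.z_unique hwa hw1 hwz hr0 hr1 hrz
      set a'' := z * a' * z⁻¹ with ha''
      have c1 : a' * a'' * a'⁻¹ * a''⁻¹ = w := by
        calc a' * a'' * a'⁻¹ * a''⁻¹ = z * (a * a' * a⁻¹ * a'⁻¹) * z⁻¹ := by rw [ha'', ha']; group
          _ = w := by rw [hwc]; exact hrK z hz
      have c2 : a'' * a * a''⁻¹ * a⁻¹ = w := by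
        have e : z * a'' * z⁻¹ = a := by
          rw [ha'', ha']
          calc _ = z ^ 3 * a * (z ^ 3)⁻¹ := by simp [pow_succ, mul_assoc]
            _ = a := by rw [hz3]; group
        calc a'' * a * a''⁻¹ * a⁻¹ = z * (a' * a'' * a'⁻¹ * a''⁻¹) * z⁻¹ := by
              rw [show z * (a' * a'' * a'⁻¹ * a''⁻¹) * z⁻¹ =
                (z * a' * z⁻¹) * (z * a'' * z⁻¹) * (z * a' * z⁻¹)⁻¹ * (z * a'' * z⁻¹)⁻¹ by group,
                ← ha'', e]
          _ = w := by rw [c1]; exact hrK z hz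
      have ha'Q : a' ∈ Q := hWv ha'W
      have ha''Q : a'' ∈ Q := hQnorm z hz ha'Q
      have haa : a * a = 1 := p.right.w_sq ha
      have hai : a⁻¹ = a := inv_eq_of_mul_eq_one_right haa
      have hqc : a * (a' * a'') = a' * a'' * a := by
        have k1 : a * a' = w * a' * a := by rw [← hwc]; group
        have k2 : a * a'' = w * a'' * a := by
          calc a * a'' = w * (w * (a * a'')) := by rw [← mul_assoc w w, hr2', one_mul]
            _ = w * (a'' * a) := by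
              congr 1
              rw [← c2]
              group
            _ = w * a'' * a := (mul_assoc w a'' a).symm
        calc a * (a' * a'') = (a * a') * a'' := (mul_assoc _ _ _).symm
          _ = w * a' * (a * a'') := by rw [k1]; group
          _ = w * (a' * w) * (a'' * a) := by rw [k2]; group
          _ = (w * w) * (a' * a'') * a := by rw [hrT a' (hQT ha'Q)]; group
          _ = a' * a'' * a := by rw [hr2', one_mul]
      have hsQ : a * (a' * a'') ∈ Q := mul_mem (hW₀ ha) (mul_mem ha'Q ha''Q)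
      have hsD : a * (a' * a'') ∈ Q ⊓ Q₀ := by
        refine ⟨hsQ, ?_⟩
        show a * (a' * a'') ∈ Q₀
        rw [hQ₀, ← p.right.q_eq]
        refine p.right.fix_imp (hQT hsQ) ha (fun h => hne ?_) ?_
        · exact (p.z0_central (hQT ha'Q) h).symm
        · rw [mul_inv_eq_iff_eq_mul]
          calc a * (a' * a'') * a = a * (a' * a'' * a) := mul_assoc _ _ _
            _ = a * (a * (a' * a'')) := by rw [hqc]
      have ha'2 : a' * a' = 1 := hp.right.w_sq ha'W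
      have ha''2 : a'' * a'' = 1 := by rw [ha'', conj_mul, ha'2, mul_one, mul_inv_cancel]
      have e : a * (a' * a'') * (a * (a' * a'')) = w := by
        calc a * (a' * a'') * (a * (a' * a'')) = a * ((a' * a'') * a) * (a' * a'') := by simp only [mul_assoc]
          _ = (a * a) * ((a' * a'') * (a' * a'')) := by rw [← hqc]; simp only [mul_assoc]
          _ = w := by rw [haa, one_mul, sq_of_comm ha'2 ha''2, c1]
      rw [← e]
      exact sq_mem_sqOf hsD
  refine ⟨le_antisymm (sqOf_mono inf_le_left) (sqOf_le fun g hg => ?_),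
    fun h => hr1 (Subgroup.mem_bot.mp (h ▸ hrsq))⟩
  rw [p.right.q_eq] at huQ₀
  by_cases hg0 : g ∈ Q₀
  · exact sq_mem_sqOf ⟨hg, hg0⟩
  · obtain ⟨d, hd'⟩ : ∃ d, d = g * u := ⟨_, rfl⟩
    have hd : d ∈ Q ⊓ Q₀ := by
      refine ⟨hd' ▸ mul_mem hg (hW₂ hu), ?_⟩
      show d ∈ Q₀
      rw [hd', hQ₀, ← p.right.q_eq]
      exact p.right.q_mul (hQT hg) huT (p.right.q_eq.symm ▸ hg0) (p.right.q_eq.symm ▸ huQ₀)
    have hge : g = d * u := by rw [hd', mul_assoc, hu2, mul_one]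
    have hdd : d * d ∈ sqOf (Q ⊓ Q₀) := sq_mem_sqOf hd
    rw [hge]
    rcases q.right.comm_mem (hQT' hd.1) hu hr2 hr1 hrz' with h | h
    · have : d * u * (d * u) = d * d := by
        calc d * u * (d * u) = d * ((u * d) * u) := by simp only [mul_assoc]
          _ = d * ((d * u) * u) := by rw [mul_inv_eq_iff_eq_mul.mp h]
          _ = d * d := by rw [mul_assoc d u u, hu2, mul_one]
      rw [this]; exact hdd
    · have h' : d * u = u * r * d := mul_inv_eq_iff_eq_mul.mp h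
      have : d * u * (d * u) = (d * d) * r := by
        calc d * u * (d * u) = d * (u * (d * u)) := mul_assoc _ _ _
          _ = d * (u * (u * r * d)) := by rw [h']
          _ = d * (r * d) := by rw [← mul_assoc u, ← mul_assoc u u, hu2, one_mul]
          _ = d * d * r := by rw [← hrT d (hQT hd.1), mul_assoc]
      rw [this]; exact mul_mem hdd hrsq

theorem false_of_crit {T T' K K₀ K₂ : Subgroup G} (p : Pair T K K₀) (q : Pair T' K K₂) (hn : Nat.card T = n)
    (hn' : Nat.card T' = n) (hsame : K ⊔ T' = K ⊔ T) {x u : G} (hx : x ∈ Cfsg.wOf K₀)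
    (hu : u ∈ Cfsg.wOf K₂) (hxu : x * u ≠ u * x) : False := by
  obtain ⟨hsq, hne⟩ := hc.crit_sq p q hn hn' hsame hx hu hxu
  set Q := Cfsg.pCoreOf 2 (K ⊔ T) with hQ
  set Q₀ := Cfsg.pCoreOf 2 (K₀ ⊔ T) with hQ₀
  refine p.false_of_normalized ((sqOf_le_self _).trans (inf_le_left.trans p.left.q_le_T)) hne ?_ ?_
  · rw [hsq]
    exact (Cfsg.Agent.LargeSub.self_le_normalizer_pCoreOf _).trans (normalizer_le_normalizer_sqOf Q)
  obtain ⟨y, hy, hy3, hdec, hfp⟩ := p.right.exists_y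
  have hyP : y ∈ Subgroup.normalizer ((K₀ ⊔ T : Subgroup G) : Set G) :=
    Subgroup.le_normalizer (Subgroup.mem_sup_left hy)
  set Tb := T.map (MulAut.conj y).toMonoidHom with hTb
  have hsame' : K₀ ⊔ Tb = K₀ ⊔ T := by
    have e := map_conj_eq_self hyP
    rw [Subgroup.map_sup, map_conj_eq_self (Subgroup.le_normalizer hy)] at e
    exact e
  have pb : Pair Tb K₀ (K.map (MulAut.conj y).toMonoidHom) := by
    have := p.symm.conj y
    rwa [map_conj_eq_self (Subgroup.le_normalizer hy)] at this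
  have hnb : Nat.card Tb = n := (Subgroup.card_map_of_injective (MulAut.conj y).injective).trans hn
  set Wb := Cfsg.wOf (K.map (MulAut.conj y).toMonoidHom) with hWb
  by_cases hcom : ∀ a ∈ Cfsg.wOf K, ∀ b ∈ Wb, a * b = b * a
  swap
  · push Not at hcom
    obtain ⟨a, ha, b, hb, hab⟩ := hcom
    rw [inf_comm, (hc.crit_sq p.symm pb hn hnb hsame' ha hb hab).1]
    exact (Cfsg.Agent.LargeSub.self_le_normalizer_pCoreOf _).trans (normalizer_le_normalizer_sqOf Q₀)
  -- commuting case: `Wb ⊔ W₀` is normalised by `⟨K₀, T⟩`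
  refine (?_ : K₀ ⊔ T ≤ Subgroup.normalizer ((Q ⊓ Q₀ : Subgroup G) : Set G)).trans
    (normalizer_le_normalizer_sqOf _)
  have hWbT : Wb ≤ T := (hc.w_le pb.symm hnb).trans (hsame' ▸ p.right.q_le_T)
  have hWbQ : Wb ≤ Q := fun b hb => p.left.mem_q.mpr ⟨hWbT hb, fun a ha => hcom a ha b hb⟩
  have hW₀Q : Cfsg.wOf K₀ ≤ Q := hc.w_le p.symm hn
  have hQT' : Q ≤ T' := by rw [hQ, ← hsame]; exact q.left.q_le_T
  have huQ : u ∈ Q := by rw [hQ, ← hsame]; exact hc.w_le q.symm hn' hu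
  have huT := p.left.q_le_T huQ
  obtain ⟨r, hr1, hr0, hr2, -, hrz', -⟩ := cross_comm p.right q.right hx hu (hQT' (hW₀Q hx)) huT hxu
  set X := Wb ⊔ Cfsg.wOf K₀ with hX
  have hnormX : ∀ t : G, (∀ b ∈ Wb, t * b * t⁻¹ ∈ X) → t ∈ Subgroup.normalizer (Cfsg.wOf K₀ : Set G) →
      t ∈ Subgroup.normalizer (X : Set G) := by
    intro t h1 h2
    refine map_conj_mem_normalizer_iff fun v hv => ?_
    have hle : X ≤ X.comap (MulAut.conj t).toMonoidHom :=
      sup_le (fun b hb => h1 b hb) (fun w hw => Subgroup.mem_sup_right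
        ((Subgroup.mem_normalizer_iff.mp h2 w).mp hw))
    exact hle hv
  have hTbX : Tb ≤ Subgroup.normalizer (X : Set G) := fun t ht => hnormX t
    (fun b hb => Subgroup.mem_sup_left ((Subgroup.mem_normalizer_iff.mp (pb.right.T_le_normalizer_w ht) b).mp hb))
    (pb.left.T_le_normalizer_w ht)
  have huX : u ∈ Subgroup.normalizer (X : Set G) := hnormX u (fun b hb => by
    have hui : u⁻¹ = u := inv_eq_of_mul_eq_one_right (q.right.w_sq hu)
    rcases q.right.comm_mem (hQT' (hWbQ hb)) hu hr2 hr1 hrz' with h | h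
    · refine Subgroup.mem_sup_left ?_
      rw [← mul_inv_eq_iff_eq_mul.mp h, mul_inv_cancel_right]
      exact hb
    · have e : u * b * u⁻¹ = r * b := by
        have h' := mul_inv_eq_iff_eq_mul.mp h
        calc u * b * u⁻¹ = u * (b * u) := by rw [hui, mul_assoc]
          _ = u * (u * r * b) := by rw [h']
          _ = r * b := by rw [← mul_assoc, ← mul_assoc, q.right.w_sq hu, one_mul]
      rw [e]
      exact mul_mem (Subgroup.mem_sup_right hr0) (Subgroup.mem_sup_left hb))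
    (p.right.T_le_normalizer_w huT)
  have huQ₀ : u ∉ Side.qT p.right := fun h => hxu (Subgroup.mem_centralizer_iff.mp h.2 x hx)
  obtain ⟨p₀, hp₀, hueq⟩ := p.right.invert hy hy3 hdec hfp huT huQ₀
  have hy2X : y ^ 2 ∈ Subgroup.normalizer (X : Set G) := by
    have h1 : y * u * y⁻¹ * u⁻¹ ∈ Subgroup.normalizer (X : Set G) :=
      mul_mem (hTbX (conj_mem_map huT)) (inv_mem huX)
    have e : y * u * y⁻¹ * u⁻¹ = y ^ 2 * (y⁻¹ * p₀⁻¹ * y) := by
      calc y * u * y⁻¹ * u⁻¹ = y * (u * y * u⁻¹)⁻¹ := by group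
        _ = y * (y⁻¹ * p₀)⁻¹ := by rw [hueq]
        _ = y ^ 2 * (y⁻¹ * p₀⁻¹ * y) := by simp [pow_succ, mul_assoc]
    rw [e] at h1
    refine (Subgroup.mul_mem_cancel_right _ (hTbX (pb.left.core_le ?_))).mp h1
    exact (Subgroup.mem_normalizer_iff''.mp (Cfsg.Agent.LargeSub.self_le_normalizer_pCoreOf K₀ hy) _).mp
      (inv_mem hp₀)
  have hyX : y ∈ Subgroup.normalizer (X : Set G) := by
    have := mul_mem hy2X hy2X
    rwa [← pow_add, pow_succ, hy3, one_mul] at this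
  have hPX : K₀ ⊔ T ≤ Subgroup.normalizer (X : Set G) := fun g hg => by
    obtain ⟨i, t, ht, rfl⟩ := p.right.mem_P' hdec hg
    refine mul_mem (pow_mem hyX i) ?_
    rw [show t = y⁻¹ * (y * t * y⁻¹) * y by group]
    exact mul_mem (mul_mem (inv_mem hyX) (hTbX (conj_mem_map ht))) hyX
  set E := Q₀ ⊓ Subgroup.centralizer (X : Set G) with hE
  have hPE : K₀ ⊔ T ≤ Subgroup.normalizer (E : Set G) :=
    (le_inf (Cfsg.Agent.LargeSub.self_le_normalizer_pCoreOf _)
      (hPX.trans (Cfsg.Agent.PLocal.normalizer_le_normalizer_centralizer X))).trans Subgroup.inf_normalizer_le_normalizer_inf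
  have hQb : E = Q₀ ⊓ Cfsg.pCoreOf 2 (K.map (MulAut.conj y).toMonoidHom ⊔ Tb) := by
    rw [hE, hX, Cfsg.Agent.PLocal.centralizer_sup]
    apply le_antisymm
    · intro g hg
      have : g ∈ Cfsg.pCoreOf 2 (K₀ ⊔ Tb) := by rw [hsame']; exact hg.1
      exact ⟨hg.1, pb.right.mem_q.mpr ⟨pb.left.q_le_T this, fun b hb => Subgroup.mem_centralizer_iff.mp hg.2.1 b hb⟩⟩
    · intro g hg
      exact ⟨hg.1, Subgroup.mem_centralizer_iff.mpr (pb.right.mem_q.mp hg.2).2,
        Subgroup.mem_centralizer_iff.mpr (p.right.mem_q.mp hg.1).2⟩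
  have hyQ₀ : Q₀.map (MulAut.conj y).toMonoidHom = Q₀ :=
    map_conj_eq_self (Cfsg.Agent.LargeSub.self_le_normalizer_pCoreOf _ (Subgroup.mem_sup_left hy))
  have hQy : (Q ⊓ Q₀).map (MulAut.conj y).toMonoidHom = E := by
    rw [hQb, Subgroup.map_inf _ _ _ (MulAut.conj y).injective, hyQ₀, inf_comm, hQ, hTb, ← Subgroup.map_sup,
      pCoreOf_conj]
  have hEQ : Q ⊓ Q₀ = E := by
    have e := map_conj_eq_self (inv_mem (hPE (Subgroup.mem_sup_left hy)))
    rw [← e, ← hQy, map_map_conj, inv_mul_cancel, map_conj_one]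
  rw [hEQ]
  exact hPE

end AllComm

end Cfsg.Agent.JComp
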