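import Cfsg.Agent.Lib.JComp.Side
import Cfsg.Agent.S2942

/-!
The unique maximal 2-local subgroup over a component outside `M`.

* `exists_maximal_ge`, `mem_of_normalizes`, `isMax_map`; `uMax`
* `Straddle.max_eq`, `Straddle.le_uMax`, `Straddle.uMax_max`, `Straddle.outside_data`
-/

set_option autoImplicit false

namespace Cfsg.Agent.JComp

open Cfsg.Agent.PLocal

variable {G : Type*} [Group G]

/-- The maximal 2-local subgroup over a component `K`: the normaliser of the product of the four-groups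
of the components in `N(W_K)`. -/
def uMax (T K : Subgroup G) : Subgroup G :=
  Subgroup.normalizer (((⨆ K' : {K' : Subgroup G //
    Cfsg.IsJComponent T K' ∧ K' ≤ Subgroup.normalizer (Cfsg.wOf K : Set G)}, Cfsg.wOf K'.1) : Subgroup G) : Set G)

variable [Finite G]

theorem exists_maximal_ge {N : Subgroup G} (hN : Cfsg.IsTwoLocal N) :
    ∃ L, Cfsg.IsMaximalTwoLocal L ∧ N ≤ L := by
  obtain ⟨L, ⟨hL, hNL⟩, hmax⟩ := Set.exists_max_image
    {L : Subgroup G | Cfsg.IsTwoLocal L ∧ N ≤ L} (fun L => Nat.card L) (Set.toFinite _) ⟨N, hN, le_rfl⟩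
  exact ⟨L, ⟨hL, fun L' hL' hLL' =>
    (Subgroup.eq_of_le_of_card_ge hLL' (hmax L' ⟨hL', hNL.trans hLL'⟩)).symm⟩, hNL⟩

theorem mem_of_normalizes {L : Subgroup G} (hL : Cfsg.IsMaximalTwoLocal L) {g : G}
    (hg : L.map (MulAut.conj g).toMonoidHom = L) : g ∈ L := by
  obtain ⟨R, hR, hR1, he⟩ := hL.1
  have hRQ : R ≤ Cfsg.pCoreOf 2 L :=
    Cfsg.Agent.LargeSub.le_pCoreOf (he ▸ Subgroup.le_normalizer) he.le hR
  have hQ1 : Cfsg.pCoreOf 2 L ≠ ⊥ := fun h => hR1 (le_bot_iff.mp (h ▸ hRQ))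
  have heq := hL.2 _ ⟨_, Cfsg.Agent.LargeSub.isPGroup_pCoreOf L, hQ1, rfl⟩
    (Cfsg.Agent.LargeSub.self_le_normalizer_pCoreOf L)
  rw [← heq, Subgroup.mem_normalizer_iff_map_conj_eq]
  show (Cfsg.pCoreOf 2 L).map (MulAut.conj g).toMonoidHom = _
  rw [← pCoreOf_conj, hg]

omit [Finite G] in
theorem isMax_map {L : Subgroup G} (hL : Cfsg.IsMaximalTwoLocal L) (g : G) :
    Cfsg.IsMaximalTwoLocal (L.map (MulAut.conj g).toMonoidHom) := by
  refine ⟨isTwoLocal_map hL.1 g, fun N hN hle => ?_⟩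
  have := hL.2 _ (isTwoLocal_map hN g⁻¹) (map_conj_le_iff.mp hle)
  rw [← this, map_map_conj, mul_inv_cancel, map_conj_one]

omit [Finite G] in
theorem map_conj_mem {L : Subgroup G} {g : G} (hg : g ∈ L) : L.map (MulAut.conj g).toMonoidHom = L :=
  map_conj_eq_self (Subgroup.le_normalizer hg)

namespace Straddle

variable {S : Sylow 2 G} {M T : Subgroup G} (h : Straddle S M T)
include h

/-- A setup for a 2-local over a component outside `M`. -/
theorem exists_setup {L K : Subgroup G} (hL : Cfsg.IsTwoLocal L) (hKM : ¬ K ≤ M) (hKL : K ≤ L)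
    (hJL : Cfsg.thompsonSubgroupOf 2 T ≤ L) :
    ∃ T₀, Setup T₀ L ∧ Cfsg.thompsonSubgroupOf 2 T₀ = Cfsg.thompsonSubgroupOf 2 T := by
  obtain ⟨T₀, hT₀, hJT₀⟩ := exists_sylowTwo_ge (h.isPGroup.to_le (jOf_le T)) hJL
  obtain ⟨hJ, -, -, hs⟩ := h.sylow_data hL (fun hle => hKM (hKL.trans hle)) hT₀ hJT₀
  exact ⟨T₀, hs, hJ⟩

/-- The maximal 2-local over a component outside `M` is unique. -/
theorem max_eq {L K : Subgroup G} (hK : Cfsg.IsJComponent T K) (hKM : ¬ K ≤ M)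
    (hL : Cfsg.IsMaximalTwoLocal L) (hKL : K ⊔ Cfsg.thompsonSubgroupOf 2 T ≤ L) : L = uMax T K := by
  obtain ⟨T₀, hs, hJ⟩ := h.exists_setup hL.1 hKM (le_sup_left.trans hKL) (le_sup_right.trans hKL)
  have hWK := le_normalizer_wOf K
  obtain ⟨T₁, hs₁, hJ₁⟩ := h.exists_setup (wOf_twoLocal hK) hKM hWK
    ((jOf_le_normalizer hK).trans (normalizer_le_normalizer_wOf K))
  have hcong : ∀ {R R' K' : Subgroup G}, Cfsg.thompsonSubgroupOf 2 R = Cfsg.thompsonSubgroupOf 2 R' →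
      Cfsg.IsJComponent R K' → Cfsg.IsJComponent R' K' := fun h hK => isJComponent_congr h hK
  have hK₀ := hcong hJ.symm hK
  -- components of `L` lie in `N(W_K)`
  have hin : ∀ K', Cfsg.IsJComponent T K' → K' ≤ L → K' ≤ Subgroup.normalizer (Cfsg.wOf K : Set G) := by
    intro K' hK' hK'L
    by_cases e : K' = K
    · subst e; exact hWK
    · exact ((hs.wOf_disjoint (hcong hJ.symm hK') hK'L hK₀ (le_sup_left.trans hKL) (Ne.symm e)).2).trans
        (Subgroup.centralizer_le_normalizer _)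
  set U : Subgroup G :=
    ⨆ K' : {K' : Subgroup G // Cfsg.IsJComponent T K' ∧ K' ≤ L}, Cfsg.wOf K'.1 with hU
  have hWle : ∀ {K' : Subgroup G}, Cfsg.IsJComponent T K' → K' ≤ L → Cfsg.wOf K' ≤ U := fun h1 h2 =>
    le_iSup (fun K' : {K' : Subgroup G // Cfsg.IsJComponent T K' ∧ K' ≤ L} => Cfsg.wOf K'.1) ⟨_, h1, h2⟩
  have hUV : U ≤ vOf T₀ L := iSup_le fun K' => (hs.comp_rep (hcong hJ.symm K'.2.1) K'.2.2).2.2
  have hU1 : U ≠ ⊥ := fun e => by
    have := (hWle hK (le_sup_left.trans hKL))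
    rw [e, le_bot_iff] at this
    have h4 := hK.2.2.2.2.1
    rw [this, Subgroup.card_bot] at h4
    omega
  have hLU : L ≤ Subgroup.normalizer (U : Set G) := fun g hg => by
    refine Subgroup.mem_normalizer_iff_map_conj_eq.mpr (Subgroup.eq_of_le_of_card_ge ?_
      (Subgroup.card_map_of_injective (MulAut.conj g).injective).ge)
    rw [hU, Subgroup.map_iSup]
    refine iSup_le fun K' => ?_
    show (Cfsg.wOf K'.1).map (MulAut.conj g).toMonoidHom ≤ _
    rw [← wOf_conj]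
    obtain ⟨h1, h2⟩ := hs.conj_comp (hcong hJ.symm K'.2.1) K'.2.2 hg
    exact hWle (hcong hJ h1) h2
  have hLeq : Subgroup.normalizer (U : Set G) = L :=
    hL.2 _ ⟨U, (elemAb_isPGroup (elemAb_mono hs.vOf_elementary hUV)), hU1, rfl⟩ hLU
  -- components of `N(W_K)` lie in `L`
  have hout : ∀ K', Cfsg.IsJComponent T K' → K' ≤ Subgroup.normalizer (Cfsg.wOf K : Set G) → K' ≤ L := by
    intro K' hK' hK'N
    rw [← hLeq, Subgroup.le_normalizer_iff]
    intro g hg u hu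
    have hle : U ≤ U.comap (MulAut.conj g).toMonoidHom := iSup_le fun K₂ v hv => by
      refine hWle K₂.2.1 K₂.2.2 ?_
      show g * v * g⁻¹ ∈ Cfsg.wOf K₂.1
      have hK₂N := hin K₂.1 K₂.2.1 K₂.2.2
      by_cases e : K' = K₂.1
      · exact (Subgroup.mem_normalizer_iff.mp (le_normalizer_wOf _ (e ▸ hg)) v).mp hv
      · have := (hs₁.wOf_disjoint (hcong hJ₁.symm hK') hK'N (hcong hJ₁.symm K₂.2.1) hK₂N (Ne.symm e)).2 hg
        rw [← Subgroup.mem_centralizer_iff.mp this v hv, mul_inv_cancel_right]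
        exact hv
    exact hle hu
  rw [← hLeq, uMax]
  refine congrArg (fun A : Subgroup G => Subgroup.normalizer (A : Set G)) (le_antisymm (iSup_le fun K' => ?_) (iSup_le fun K' => ?_))
  · exact le_iSup (fun K' : {K' : Subgroup G //
      Cfsg.IsJComponent T K' ∧ K' ≤ Subgroup.normalizer (Cfsg.wOf K : Set G)} => Cfsg.wOf K'.1)
      ⟨K'.1, K'.2.1, hin _ K'.2.1 K'.2.2⟩
  · exact hWle K'.2.1 (hout _ K'.2.1 K'.2.2)

theorem uMax_max {K : Subgroup G} (hK : Cfsg.IsJComponent T K) (hKM : ¬ K ≤ M) :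
    Cfsg.IsMaximalTwoLocal (uMax T K) ∧ K ⊔ Cfsg.thompsonSubgroupOf 2 T ≤ uMax T K := by
  obtain ⟨L, hL, hle⟩ := exists_maximal_ge (wOf_twoLocal hK)
  have hKJ := (sup_le (le_normalizer_wOf K) ((jOf_le_normalizer hK).trans (normalizer_le_normalizer_wOf K))).trans hle
  rw [← h.max_eq hK hKM hL hKJ]
  exact ⟨hL, hKJ⟩

/-- Every 2-local over `⟨K, J(T)⟩` lies in the maximal one. -/
theorem le_uMax {N K : Subgroup G} (hK : Cfsg.IsJComponent T K) (hKM : ¬ K ≤ M) (hN : Cfsg.IsTwoLocal N)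
    (hKN : K ⊔ Cfsg.thompsonSubgroupOf 2 T ≤ N) : N ≤ uMax T K := by
  obtain ⟨L, hL, hle⟩ := exists_maximal_ge hN
  rw [← h.max_eq hK hKM hL (hKN.trans hle)]
  exact hle

/-- The data of a member of `jComponentsOutside M T`. -/
theorem outside_data {K : Subgroup G} (hK : K ∈ Cfsg.jComponentsOutside M T) :
    K ⊔ T ≤ uMax T K ∧ Cfsg.IsSylowTwoIn T (uMax T K) ∧ Setup T (uMax T K) ∧
      (K.subgroupOf (uMax T K)).IsSubnormal := by
  obtain ⟨⟨hKc, -⟩, hKM, hbot⟩ := hK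
  have hN : Cfsg.IsTwoLocal (Subgroup.normalizer (Cfsg.pCoreOf 2 (K ⊔ T) : Set G)) :=
    ⟨_, Cfsg.Agent.LargeSub.isPGroup_pCoreOf _, hbot, rfl⟩
  have hKT : K ⊔ T ≤ uMax T K := (Cfsg.Agent.LargeSub.self_le_normalizer_pCoreOf _).trans
    (h.le_uMax hKc hKM hN ((sup_le_sup_left (jOf_le T) K).trans (Cfsg.Agent.LargeSub.self_le_normalizer_pCoreOf _)))
  obtain ⟨hsyl, hs⟩ := h.sylow_of_le (h.uMax_max hKc hKM).1.1 (fun hle => hKM ((le_sup_left.trans hKT).trans hle))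
    (le_sup_right.trans hKT)
  exact ⟨hKT, hsyl, hs, Cfsg.Agent.S2942.result hs.hyp.char2 hs.hyp.solv hs.hyp.cent T h.isPGroup h.ne_bot _
    hs.mem K hKc (le_sup_left.trans hKT)⟩

end Straddle

end Cfsg.Agent.JComp
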