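import Cfsg.Agent.Lib.JComp.Path
import Cfsg.Agent.Lib.JComp.Unique

/-!
Components outside `M` with different maximal 2-locals.

* `Straddle.z0_card_eq`, `Straddle.z0_cases`, `zc_inf_eq_bot`, `zc_card_mul_le`, `Straddle.four_comp`
* `exists_mem_normalizer_not_mem`, `Straddle.side`, `Straddle.pair_conj`, `Straddle.exists_pair_of_not_sylow`
-/

set_option autoImplicit false

namespace Cfsg.Agent.JComp

open Cfsg.Agent.PLocal

variable {G : Type*} [Group G]

theorem isJComponent_normJ {T K : Subgroup G} (hK : Cfsg.IsJComponent T K) [Finite G] {g : G}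
    (hg : g ∈ Subgroup.normalizer (Cfsg.thompsonSubgroupOf 2 T : Set G)) :
    Cfsg.IsJComponent T (K.map (MulAut.conj g).toMonoidHom) :=
  isJComponent_congr (by rw [jOf_conj, map_conj_eq_self hg]) (isJComponent_conj hK g)

theorem not_le_map {K M : Subgroup G} {g : G} (hg : g ∈ M) (h : ¬ K ≤ M) :
    ¬ K.map (MulAut.conj g).toMonoidHom ≤ M := fun hle => h fun k hk => by
  have := mul_mem (mul_mem (inv_mem hg) (hle (Subgroup.mem_map_of_mem _ hk))) hg
  simpa [mul_assoc] using this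

variable [Finite G]

omit [Finite G] in
theorem zc_conj {T K : Subgroup G} {g : G}
    (hg : g ∈ Subgroup.normalizer (Cfsg.thompsonSubgroupOf 2 T : Set G)) :
    zc T (K.map (MulAut.conj g).toMonoidHom) = (zc T K).map (MulAut.conj g).toMonoidHom := by
  have hZ : (Cfsg.omegaCenterOf (Cfsg.thompsonSubgroupOf 2 T)).map (MulAut.conj g).toMonoidHom =
      Cfsg.omegaCenterOf (Cfsg.thompsonSubgroupOf 2 T) := by
    rw [← omegaCenterOf_conj, map_conj_eq_self hg]
  have hC : Subgroup.centralizer ((K.map (MulAut.conj g).toMonoidHom : Subgroup G) : Set G) =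
      (Subgroup.centralizer (K : Set G)).map (MulAut.conj g).toMonoidHom := by
    ext x
    rw [mem_map_conj, Subgroup.mem_centralizer_iff, Subgroup.mem_centralizer_iff]
    constructor
    · intro hx k hk
      have := hx _ (conj_mem_map hk)
      calc k * (g⁻¹ * x * g) = g⁻¹ * ((g * k * g⁻¹) * x) * g := by group
        _ = g⁻¹ * (x * (g * k * g⁻¹)) * g := by rw [this]
        _ = g⁻¹ * x * g * k := by group
    · rintro hx _ ⟨k, hk, rfl⟩
      show g * k * g⁻¹ * x = x * (g * k * g⁻¹)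
      calc g * k * g⁻¹ * x = g * (k * (g⁻¹ * x * g)) * g⁻¹ := by group
        _ = g * (g⁻¹ * x * g * k) * g⁻¹ := by rw [hx k hk]
        _ = x * (g * k * g⁻¹) := by group
  rw [zc, zc, Subgroup.map_inf _ _ _ (MulAut.conj g).injective, hZ, hC]

/-- `W_K` has no element central in `K`. -/
theorem Setup.w_inf_cent {T L K : Subgroup G} (hs : Setup T L) (hK : Cfsg.IsJComponent T K) (hKL : K ≤ L) :
    Cfsg.wOf K ⊓ Subgroup.centralizer (K : Set G) = ⊥ := by
  obtain ⟨⟨y, hy, -, -, hfp⟩, -⟩ := hs.comp_rep hK hKL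
  refine (Subgroup.eq_bot_iff_forall _).mpr fun x hx => hfp x hx.1 ?_
  rw [Subgroup.mem_centralizer_iff.mp hx.2 y hy, mul_inv_cancel_right]

theorem exists_ne_one_z0_w {T K : Subgroup G} (hT : IsPGroup 2 T) (hK : Cfsg.IsJComponent T K) :
    ∃ w, w ∈ Cfsg.omegaCenterOf (Cfsg.thompsonSubgroupOf 2 T) ∧ w ∈ Cfsg.wOf K ∧ w ≠ 1 := by
  obtain ⟨h2, -⟩ := comp_split hT hK
  have : Nontrivial ↥(Cfsg.omegaCenterOf (Cfsg.thompsonSubgroupOf 2 T) ⊓ Cfsg.wOf K) :=
    Finite.one_lt_card_iff_nontrivial.mp (by omega)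
  obtain ⟨⟨w, hw⟩, hw1⟩ := exists_ne (1 : ↥(Cfsg.omegaCenterOf (Cfsg.thompsonSubgroupOf 2 T) ⊓ Cfsg.wOf K))
  exact ⟨w, hw.1, hw.2, fun e => hw1 (Subtype.ext e)⟩

omit [Finite G] in
/-- Two components with no common 2-local have parts of `Ω₁(Z(J))` meeting trivially. -/
theorem zc_inf_eq_bot {T K K₂ : Subgroup G} (hT : IsPGroup 2 T)
    (hno : ∀ N : Subgroup G, Cfsg.IsTwoLocal N → K ⊔ Cfsg.thompsonSubgroupOf 2 T ≤ N →
      K₂ ⊔ Cfsg.thompsonSubgroupOf 2 T ≤ N → False) : zc T K ⊓ zc T K₂ = ⊥ := by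
  by_contra h
  have hD : IsPGroup 2 ↥(zc T K ⊓ zc T K₂) := hT.to_le ((inf_le_left.trans inf_le_left).trans (z0_le T))
  have hJ : Cfsg.thompsonSubgroupOf 2 T ≤
      Subgroup.normalizer ((zc T K ⊓ zc T K₂ : Subgroup G) : Set G) := fun j hj => by
    refine Subgroup.centralizer_le_normalizer _ (Subgroup.mem_centralizer_iff.mpr fun z hz => ?_)
    exact ((mem_omegaCenterOf.mp (show z ∈ zc T K ⊓ zc T K₂ from hz).1.1).2.1 j hj).symm
  refine hno _ ⟨_, hD, h, rfl⟩ (sup_le ?_ hJ) (sup_le ?_ hJ)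
  · exact (Subgroup.le_centralizer_iff.mp (inf_le_left.trans inf_le_right)).trans (Subgroup.centralizer_le_normalizer _)
  · exact (Subgroup.le_centralizer_iff.mp (inf_le_right.trans inf_le_right)).trans (Subgroup.centralizer_le_normalizer _)

theorem zc_card_mul_le {T K K₂ : Subgroup G} (hdis : zc T K ⊓ zc T K₂ = ⊥) :
    Nat.card (zc T K) * Nat.card (zc T K₂) ≤
      Nat.card ↥(Cfsg.omegaCenterOf (Cfsg.thompsonSubgroupOf 2 T)) := by
  rw [← card_sup_of_disjoint_normalizer (A := zc T K) (B := zc T K₂) ?_ (disjoint_iff.mpr hdis)]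
  · exact Subgroup.card_le_of_le (sup_le inf_le_left inf_le_left)
  · refine Subgroup.le_normalizer_iff.mpr fun g hg x hx => ?_
    rwa [← (mem_omegaCenterOf.mp hg.1).2.1 x (mem_omegaCenterOf.mp hx.1).1, mul_inv_cancel_right]

namespace Straddle

variable {S : Sylow 2 G} {M T : Subgroup G} (h : Straddle S M T)
include h

theorem w_inf_cent {K : Subgroup G} (hK : Cfsg.IsJComponent T K) (hKM : ¬ K ≤ M) :
    Cfsg.wOf K ⊓ Subgroup.centralizer (K : Set G) = ⊥ := by
  obtain ⟨T₁, hs, hJ⟩ := h.exists_setup (wOf_twoLocal hK) hKM (le_normalizer_wOf K)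
    ((jOf_le_normalizer hK).trans (normalizer_le_normalizer_wOf K))
  exact hs.w_inf_cent (isJComponent_congr hJ.symm hK) (le_normalizer_wOf K)

theorem z0_card_eq {K : Subgroup G} (hK : Cfsg.IsJComponent T K) (hKM : ¬ K ≤ M) :
    Nat.card ↥(Cfsg.omegaCenterOf (Cfsg.thompsonSubgroupOf 2 T)) = 2 * Nat.card (zc T K) := by
  obtain ⟨h2, hsplit⟩ := comp_split h.isPGroup hK
  set Z := Cfsg.omegaCenterOf (Cfsg.thompsonSubgroupOf 2 T)
  have hsp : zc T K ⊔ (Z ⊓ Cfsg.wOf K) = Z := by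
    refine le_antisymm (sup_le inf_le_left inf_le_left) ?_
    conv_lhs => rw [← hsplit]
    exact sup_le_sup_right (le_inf inf_le_left (inf_le_right.trans (inf_le_right.trans
      (Subgroup.centralizer_le (SetLike.coe_subset_coe.mpr le_sup_left))))) _
  have hn : Z ⊓ Cfsg.wOf K ≤ Subgroup.normalizer (zc T K : Set G) := Subgroup.le_normalizer_iff.mpr
    fun g hg x hx => by
      rwa [← (mem_omegaCenterOf.mp hg.1).2.1 x (mem_omegaCenterOf.mp hx.1).1, mul_inv_cancel_right]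
  have hdis : Disjoint (zc T K) (Z ⊓ Cfsg.wOf K) := disjoint_iff.mpr <| le_bot_iff.mp <| by
    rw [← h.w_inf_cent hK hKM]
    exact le_inf (inf_le_right.trans inf_le_right) (inf_le_left.trans inf_le_right)
  have he := card_sup_of_disjoint_normalizer hn hdis
  rw [hsp, h2] at he
  rw [he, mul_comm]

/-- The elements of `Ω₁(Z(J))` when `zc` has order at most 2. -/
theorem z0_cases {K : Subgroup G} (hK : Cfsg.IsJComponent T K) (h2 : Nat.card (zc T K) ≤ 2) {c w v : G}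
    (hc : c ∈ zc T K) (hc1 : c ≠ 1) (hwz : w ∈ Cfsg.omegaCenterOf (Cfsg.thompsonSubgroupOf 2 T))
    (hw : w ∈ Cfsg.wOf K) (hw1 : w ≠ 1) (hv : v ∈ Cfsg.omegaCenterOf (Cfsg.thompsonSubgroupOf 2 T)) :
    v = 1 ∨ v = c ∨ v = w ∨ v = c * w := by
  obtain ⟨hW2, hsplit⟩ := comp_split h.isPGroup hK
  set Z := Cfsg.omegaCenterOf (Cfsg.thompsonSubgroupOf 2 T)
  have hsp : Z ≤ zc T K ⊔ (Z ⊓ Cfsg.wOf K) := by
    conv_lhs => rw [← hsplit]
    exact sup_le_sup_right (le_inf inf_le_left (inf_le_right.trans (inf_le_right.trans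
      (Subgroup.centralizer_le (SetLike.coe_subset_coe.mpr le_sup_left))))) _
  have hn : Z ⊓ Cfsg.wOf K ≤ Subgroup.normalizer (zc T K : Set G) := Subgroup.le_normalizer_iff.mpr
    fun g hg x hx => by
      rwa [← (mem_omegaCenterOf.mp hg.1).2.1 x (mem_omegaCenterOf.mp hx.1).1, mul_inv_cancel_right]
  have hm := hsp hv
  rw [← SetLike.mem_coe, Subgroup.coe_mul_of_right_le_normalizer_left _ _ hn] at hm
  obtain ⟨a, ha, b, hb, rfl⟩ := hm
  rcases eq_one_or_eq_of_card_le h2 hc hc1 ha with rfl | rfl <;>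
    rcases eq_one_or_eq_of_card_le hW2.le (⟨hwz, hw⟩ : w ∈ Z ⊓ Cfsg.wOf K) hw1 hb with rfl | rfl <;> simp

theorem uMax_map {K : Subgroup G} (hK : Cfsg.IsJComponent T K) (hKM : ¬ K ≤ M) {g : G}
    (hg : g ∈ Subgroup.normalizer (Cfsg.thompsonSubgroupOf 2 T : Set G)) :
    uMax T (K.map (MulAut.conj g).toMonoidHom) = (uMax T K).map (MulAut.conj g).toMonoidHom := by
  obtain ⟨hmax, hle⟩ := h.uMax_max hK hKM
  refine (h.max_eq (isJComponent_normJ hK hg) (not_le_map (h.normalizer_jOf_le hg) hKM) (isMax_map hmax g) ?_).symm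
  have := Subgroup.map_mono (f := (MulAut.conj g).toMonoidHom) hle
  rwa [Subgroup.map_sup, map_conj_eq_self hg] at this

/-- A component and its conjugate by an element outside its maximal 2-local share no 2-local. -/
theorem no_common_conj {K : Subgroup G} (hK : Cfsg.IsJComponent T K) (hKM : ¬ K ≤ M) {g : G}
    (hg : g ∈ Subgroup.normalizer (Cfsg.thompsonSubgroupOf 2 T : Set G)) (hgL : g ∉ uMax T K)
    (N : Subgroup G) (hN : Cfsg.IsTwoLocal N) (h1 : K ⊔ Cfsg.thompsonSubgroupOf 2 T ≤ N)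
    (h2 : K.map (MulAut.conj g).toMonoidHom ⊔ Cfsg.thompsonSubgroupOf 2 T ≤ N) : False := by
  obtain ⟨hmax, -⟩ := h.uMax_max hK hKM
  refine hgL (mem_of_normalizes hmax ?_)
  rw [← h.uMax_map hK hKM hg]
  exact (h.max_eq (isJComponent_normJ hK hg) (not_le_map (h.normalizer_jOf_le hg) hKM) hmax
    (h2.trans (h.le_uMax hK hKM hN h1))).symm

/-- No four components: conjugate components and an element of `N(J)` outside the maximal 2-local. -/
theorem four_comp {K K₁ : Subgroup G} (hK : Cfsg.IsJComponent T K) (hKM : ¬ K ≤ M)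
    (hK₁ : Cfsg.IsJComponent T K₁) (hK₁M : ¬ K₁ ≤ M) (hK₁L : K₁ ≤ uMax T K) (hne : K₁ ≠ K) {g : G}
    (hg : g ∈ Subgroup.normalizer (Cfsg.thompsonSubgroupOf 2 T : Set G)) (hgL : g ∉ uMax T K) : False := by
  obtain ⟨hmax, hle⟩ := h.uMax_max hK hKM
  have hL₁ : uMax T K = uMax T K₁ := h.max_eq hK₁ hK₁M hmax (sup_le hK₁L (le_sup_right.trans hle))
  obtain ⟨T₀, hs, hJ⟩ := h.exists_setup hmax.1 hKM (le_sup_left.trans hle) (le_sup_right.trans hle)
  have hK' := isJComponent_congr hJ.symm hK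
  have hK₁' := isJComponent_congr hJ.symm hK₁
  obtain ⟨hWW, hKW₁⟩ := hs.wOf_disjoint hK' (le_sup_left.trans hle) hK₁' hK₁L hne
  obtain ⟨-, hK₁W⟩ := hs.wOf_disjoint hK₁' hK₁L hK' (le_sup_left.trans hle) (Ne.symm hne)
  obtain ⟨w, hwz, hw, hw1⟩ := exists_ne_one_z0_w h.isPGroup hK
  obtain ⟨w₁, hw₁z, hw₁, hw₁1⟩ := exists_ne_one_z0_w h.isPGroup hK₁
  have hc : w₁ ∈ zc T K := ⟨hw₁z, Subgroup.le_centralizer_iff.mp hKW₁ hw₁⟩
  have hc₁ : w ∈ zc T K₁ := ⟨hwz, Subgroup.le_centralizer_iff.mp hK₁W hw⟩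
  have hww : w₁ ≠ w := fun e => hw1 (Subgroup.mem_bot.mp (hWW ▸ ⟨hw, e ▸ hw₁⟩))
  set Kg := K.map (MulAut.conj g).toMonoidHom
  set K₁g := K₁.map (MulAut.conj g).toMonoidHom
  have hKg := isJComponent_normJ hK hg
  have hKgM : ¬ Kg ≤ M := not_le_map (h.normalizer_jOf_le hg) hKM
  have hKgL : uMax T Kg ≠ uMax T K := fun e => hgL (mem_of_normalizes hmax (by rw [← h.uMax_map hK hKM hg, e]))
  have hK₁gM : ¬ K₁g ≤ M := not_le_map (h.normalizer_jOf_le hg) hK₁M
  have hK₁gU : uMax T K₁g = uMax T Kg := by rw [h.uMax_map hK₁ hK₁M hg, h.uMax_map hK hKM hg, hL₁]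
  have hdis : ∀ A B : Subgroup G, Cfsg.IsJComponent T A → ¬ A ≤ M → uMax T A = uMax T K →
      Cfsg.IsJComponent T B → ¬ B ≤ M → uMax T B = uMax T Kg → zc T A ⊓ zc T B = ⊥ := by
    intro A B hA hAM hAU hB hBM hBU
    refine zc_inf_eq_bot h.isPGroup fun N hN h1 h2 => hKgL ?_
    rw [← hBU, ← hAU]
    exact (h.max_eq hB hBM (h.uMax_max hA hAM).1 (h2.trans (h.le_uMax hA hAM hN h1))).symm
  have hcard : Nat.card (zc T K) ≤ 2 := by
    have e1 := zc_card_mul_le (hdis K Kg hK hKM rfl hKg hKgM rfl)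
    rw [h.z0_card_eq hK hKM, zc_conj hg, Subgroup.card_map_of_injective (MulAut.conj g).injective] at e1
    exact Nat.le_of_mul_le_mul_right e1 Nat.card_pos
  have hthird : ∀ B : Subgroup G, Cfsg.IsJComponent T B → ¬ B ≤ M → uMax T B = uMax T Kg →
      ∀ v ∈ zc T B, v ≠ 1 → v = w₁ * w := by
    intro B hB hBM hBU v hv hv1
    rcases h.z0_cases hK hcard hc hw₁1 hwz hw hw1 hv.1 with e | e | e | e
    · exact absurd e hv1
    · exact absurd (Subgroup.mem_bot.mp (hdis K B hK hKM rfl hB hBM hBU ▸ ⟨e ▸ hc, hv⟩)) hv1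
    · exact absurd (Subgroup.mem_bot.mp (hdis K₁ B hK₁ hK₁M hL₁.symm hB hBM hBU ▸ ⟨e ▸ hc₁, hv⟩)) hv1
    · exact e
  have e1 := hthird Kg hKg hKgM rfl (g * w₁ * g⁻¹) (by rw [zc_conj hg]; exact conj_mem_map hc)
    (fun e => hw₁1 (conj_eq_one_iff.mp e))
  have e2 := hthird K₁g (isJComponent_normJ hK₁ hg) hK₁gM hK₁gU (g * w * g⁻¹)
    (by rw [zc_conj hg]; exact conj_mem_map hc₁) (fun e => hw1 (conj_eq_one_iff.mp e))
  exact hww (mul_left_cancel (mul_right_cancel (e1.trans e2.symm)))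

/-- The side of an amalgam given by a component normalised by `T`. -/
theorem side {K : Subgroup G} (hK : K ∈ Cfsg.jComponentsOutside M T)
    (hn : T ≤ Subgroup.normalizer (K : Set G)) : Side T K :=
  ⟨h.hyp, h.isPGroup, hK.1.1, hn,
    fun N hN hle => (h.sylow_of_le hN (fun hl => hK.2.1 ((le_sup_left.trans hle).trans hl))
      (le_sup_right.trans hle)).1,
    _, (h.uMax_max hK.1.1 hK.2.1).1.1, (h.outside_data hK).1⟩

/-- `T` and an element of `N(T)` outside the maximal 2-local give a pair. -/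
theorem pair_conj {K : Subgroup G} (hK : K ∈ Cfsg.jComponentsOutside M T)
    (hn : T ≤ Subgroup.normalizer (K : Set G)) {g : G} (hg : g ∈ Subgroup.normalizer (T : Set G))
    (hgL : g ∉ uMax T K) : Pair T K (K.map (MulAut.conj g).toMonoidHom) := by
  have hgJ : g ∈ Subgroup.normalizer (Cfsg.thompsonSubgroupOf 2 T : Set G) :=
    Subgroup.mem_normalizer_iff_map_conj_eq.mpr (by
      show (Cfsg.thompsonSubgroupOf 2 T).map (MulAut.conj g).toMonoidHom = _
      rw [← jOf_conj, map_conj_eq_self hg])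
  have s := (h.side hK hn).conj g
  rw [map_conj_eq_self hg] at s
  exact ⟨h.side hK hn, s, fun N hN h1 h2 => h.no_common_conj hK.1.1 hK.2.1 hgJ hgL N hN
    ((sup_le_sup_left (jOf_le T) K).trans h1) ((sup_le_sup_left (jOf_le T) _).trans h2)⟩

end Straddle

/-- A non-Sylow 2-subgroup is moved by an element of `N(T)` outside `L`. -/
theorem exists_mem_normalizer_not_mem {T L : Subgroup G} (hTL : Cfsg.IsSylowTwoIn T L) {S : Sylow 2 G}
    (hTS : T ≤ S) (hne : T ≠ S) : ∃ g ∈ (S : Subgroup G), g ∈ Subgroup.normalizer (T : Set G) ∧ g ∉ L := by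
  by_contra hno
  push Not at hno
  refine hne (Cfsg.Agent.Isolated.eq_of_normalizer_le S.2 hTS fun g hgS hgN => ?_)
  have he : (S : Subgroup G) ⊓ L = T :=
    eq_of_le_twoGroup hTL (S.2.to_le inf_le_left) inf_le_right (le_inf hTS hTL.1)
  exact he ▸ ⟨hgS, hno g hgS hgN⟩

namespace Straddle

variable {S : Sylow 2 G} {M T : Subgroup G} (h : Straddle S M T)
include h

theorem le_normalizer_of_not_sylow {K : Subgroup G} (hK : K ∈ Cfsg.jComponentsOutside M T) {R : Sylow 2 G}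
    (hTR : T ≤ R) (hne : T ≠ R) : T ≤ Subgroup.normalizer (K : Set G) := by
  obtain ⟨hle, hsyl, hs, -⟩ := h.outside_data hK
  intro x hx
  by_contra hxK
  obtain ⟨g, -, hgN, hgL⟩ := exists_mem_normalizer_not_mem hsyl hTR hne
  obtain ⟨h1, h2⟩ := hs.conj_comp hK.1.1 (le_sup_left.trans hle) (hle (Subgroup.mem_sup_right hx))
  refine h.four_comp hK.1.1 hK.2.1 h1 (not_le_map (h.le_M hx) hK.2.1) h2
    (fun e => hxK (Subgroup.mem_normalizer_iff_map_conj_eq.mpr e)) (g := g) ?_ hgL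
  refine Subgroup.mem_normalizer_iff_map_conj_eq.mpr ?_
  show (Cfsg.thompsonSubgroupOf 2 T).map (MulAut.conj g).toMonoidHom = _
  rw [← jOf_conj, map_conj_eq_self hgN]

/-- A non-Sylow `T` gives a pair of conjugate components. -/
theorem exists_pair_of_not_sylow {R : Sylow 2 G} (hTR : T ≤ R) (hne : T ≠ R) :
    ∃ K, K ∈ Cfsg.jComponentsOutside M T ∧ ∃ g ∈ (R : Subgroup G), g ∈ Subgroup.normalizer (T : Set G) ∧
      g ∉ uMax T K ∧ Pair T K (K.map (MulAut.conj g).toMonoidHom) := by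
  obtain ⟨K, hK⟩ := h.exists_outside
  obtain ⟨g, hgR, hgN, hgL⟩ := exists_mem_normalizer_not_mem (h.outside_data hK).2.1 hTR hne
  exact ⟨K, hK, g, hgR, hgN, hgL, h.pair_conj hK (h.le_normalizer_of_not_sylow hK hTR hne) hgN hgL⟩

end Straddle

end Cfsg.Agent.JComp
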