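import Cfsg.Agent.Lib.JComp.Transvect

/-!
The product of symmetric groups of degree 3 generated by the transvections.

* `Factor`, `Owns`, `exists_factor`: each transvection inverts a central subgroup of order 3 of `F`
* `Factor.moved_eq_or`, `Factor.mem_zpowers`: the four-groups of factors are equal or independent
* `Owns.commute_factor`, `Owns.commute`, `Owns.mul_mem_zpowers`
* `eSub`, `nSub`, `nSub_fix`, `nSub_sq`, `nSub_commutator`, `mem_eSub_of_odd`
-/

set_option autoImplicit false

namespace Cfsg.Agent.JComp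

open scoped commutatorElement

variable {X V : Type*} [Group X] [Group V] [MulDistribMulAction X V] (hV : Exp2 V)

theorem eq_one_of_smul_eq_one {g : X} {a : V} (h : g • a = 1) : a = 1 := by
  rw [← inv_smul_smul g a, h, smul_one]

theorem moved_mul {a b : X} {W : Subgroup V} (ha : moved hV a ≤ W) (hb : moved hV b ≤ W) :
    moved hV (a * b) ≤ W := by
  rintro _ ⟨v, rfl⟩
  have h : dd hV (a * b) v = dd hV a (b • v) * dd hV b v := by
    rw [dd_apply, dd_apply, dd_apply, mul_smul, mul_assoc, ← mul_assoc (b • v), hV, one_mul]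
  rw [h]
  exact mul_mem (ha (dd_mem_moved hV a _)) (hb (dd_mem_moved hV b _))

theorem moved_one : moved hV (1 : X) = ⊥ := by
  rw [eq_bot_iff]
  rintro _ ⟨v, rfl⟩
  rw [Subgroup.mem_bot, dd_apply, one_smul, hV]

theorem moved_pow (x : X) : ∀ n : ℕ, moved hV (x ^ n) ≤ moved hV x
  | 0 => by rw [pow_zero, moved_one]; exact bot_le
  | n + 1 => by rw [pow_succ]; exact moved_mul hV (moved_pow x n) le_rfl

theorem moved_inv [Finite X] (x : X) : moved hV x⁻¹ = moved hV x := by
  have h : ∀ y : X, moved hV y⁻¹ ≤ moved hV y := fun y => by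
    obtain ⟨k, hk⟩ := mem_powers_iff_mem_zpowers.mpr (Subgroup.inv_mem _ (Subgroup.mem_zpowers y))
    rw [← (hk : y ^ k = y⁻¹)]
    exact moved_pow hV y k
  exact le_antisymm (h x) (by simpa using h x⁻¹)

theorem moved_conj (g x : X) {w : V} (hw : w ∈ moved hV x) : g • w ∈ moved hV (g * x * g⁻¹) := by
  obtain ⟨v, rfl⟩ := hw
  exact ⟨g • v, by rw [smul_dd hV]⟩

theorem smul_mem_moved_of_inv [Finite X] {g x : X} (h : g * x * g⁻¹ = x⁻¹) {w : V}
    (hw : w ∈ moved hV x) : g • w ∈ moved hV x := by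
  have := moved_conj hV g x hw
  rwa [h, moved_inv] at this

theorem smul_mem_moved_self (x : X) {w : V} (hw : w ∈ moved hV x) : x • w ∈ moved hV x :=
  smul_mem_moved hV (by group) hw

theorem smul_sq_ne {y : X} (hy : Odd (orderOf y)) {w : V} (hw : w ∈ moved hV y) (h1 : w ≠ 1) :
    y • y • w ≠ w := by
  intro h
  refine h1 (eq_one_of_mem_moved_of_fixed hV hy hw ?_)
  obtain ⟨k, hk⟩ := hy
  have h2 : ∀ m : ℕ, (y * y) ^ m • w = w := fun m => by
    induction m with
    | zero => simp
    | succ m ih => rw [pow_succ, mul_smul, mul_smul, h, ih]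
  have := pow_orderOf_eq_one y
  rw [hk, pow_succ', pow_mul, pow_two] at this
  calc y • w = y • ((y * y) ^ k • w) := by rw [h2]
    _ = w := by rw [← mul_smul, this, one_smul]

theorem smul_ne {y : X} (hy : Odd (orderOf y)) {w : V} (hw : w ∈ moved hV y) (h1 : w ≠ 1) :
    y • w ≠ w := fun h => h1 (eq_one_of_mem_moved_of_fixed hV hy hw h)

section Four

variable [Finite V] {y : X} (hy : Odd (orderOf y)) (h4 : Nat.card (moved hV y) = 4)
include hy h4

/-- The elements of a four-group acted on without fixed points. -/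
theorem mem_four {w : V} (hw : w ∈ moved hV y) (h1 : w ≠ 1) {u : V} (hu : u ∈ moved hV y) :
    u = 1 ∨ u = w ∨ u = y • w ∨ u = y • y • w := by
  by_contra h
  simp only [not_or] at h
  obtain ⟨n1, n2, n3, n4⟩ := h
  have hy1 := smul_mem_moved_self hV y hw
  have hy2 := smul_mem_moved_self hV y hy1
  have e1 := smul_ne hV hy hw h1
  have e2 := smul_sq_ne hV hy hw h1
  have e3 : y • y • w ≠ y • w := fun h => e1 (MulAction.injective y h)
  have e4 : ∀ {a : V}, a ≠ 1 → y • a ≠ 1 := fun {a} ha h => ha (eq_one_of_smul_eq_one h)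
  have hinj : Function.Injective ![(⟨1, one_mem _⟩ : moved hV y), ⟨w, hw⟩, ⟨_, hy1⟩, ⟨_, hy2⟩, ⟨u, hu⟩] := by
    intro i j hij
    have := e4 h1
    have := e4 (e4 h1)
    have hij' := congrArg Subtype.val hij
    clear hij
    fin_cases i <;> fin_cases j <;> simp at hij' ⊢ <;>
      first | exact absurd hij' (by assumption) | exact absurd hij'.symm (by assumption)
  have := Nat.card_le_card_of_injective _ hinj
  rw [h4, Nat.card_fin] at this
  omega

/-- A nontrivial invariant subgroup is everything. -/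
theorem four_le {U : Subgroup V} {w : V} (hw : w ∈ moved hV y) (h1 : w ≠ 1) (hwU : w ∈ U)
    (hywU : y • w ∈ U) : moved hV y ≤ U := by
  intro u hu
  have e1 := smul_ne hV hy hw h1
  rcases mem_four hV hy h4 hw h1 hu with rfl | rfl | rfl | rfl
  · exact one_mem _
  · exact hwU
  · exact hywU
  · have hm : w * y • w ∈ moved hV y := mul_mem hw (smul_mem_moved_self hV y hw)
    rcases mem_four hV hy h4 hw h1 hm with h | h | h | h
    · exact absurd (by rw [mul_eq_one_iff_inv_eq.mp h |>.symm, inv_eq_of_mul_eq_one_right (hV w)]) e1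
    · exact absurd (mul_eq_left.mp h) fun hh => h1 (eq_one_of_smul_eq_one hh)
    · exact absurd (mul_eq_right.mp h) h1
    · rw [← h]; exact mul_mem hwU hywU

theorem pow_three_smul {w : V} (hw : w ∈ moved hV y) : y • y • y • w = w := by
  by_cases h1 : w = 1
  · simp [h1]
  have hy1 := smul_mem_moved_self hV y hw
  have hy2 := smul_mem_moved_self hV y hy1
  rcases mem_four hV hy h4 hw h1 (smul_mem_moved_self hV y hy2) with h | h | h | h
  · exact absurd h fun hh => h1 (MulAction.injective y (MulAction.injective y (MulAction.injective y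
      (by simpa [smul_one] using hh))))
  · exact h
  · exact absurd (MulAction.injective y h) (smul_sq_ne hV hy hw h1)
  · exact absurd (MulAction.injective y (MulAction.injective y h)) (smul_ne hV hy hw h1)

end Four

variable [Finite X] [Finite V] [FaithfulSMul X V] (F : Subgroup X)

/-- A factor: a central element of order 3 of `F` moving a four-group. -/
def Factor (x : X) : Prop :=
  x ∈ F ∧ x ^ 3 = 1 ∧ x ≠ 1 ∧ Nat.card (moved hV x) = 4 ∧ ∀ f ∈ F, f * x = x * f

/-- The transvection `t` inverts the factor `x`. -/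
def Owns (t x : X) : Prop :=
  IsTransv hV t ∧ Factor hV F x ∧ t * x * t⁻¹ = x⁻¹ ∧ moved hV t ≤ moved hV x ∧
    ∀ f ∈ F, f * t * f⁻¹ * t ∈ Subgroup.zpowers x

variable {F} (hF : Good F)

include hF in
theorem two_transv_product {t y : X} (hyF : y ∈ F) (hy1 : y ≠ 1) {t' : X} (hy : y = t' * t)
    (ht : IsTransv hV t) (ht' : IsTransv hV t') (hinv : t * y * t⁻¹ = y⁻¹) :
    Nat.card (moved hV y) = 4 ∧ y ^ 3 = 1 ∧ moved hV t ≤ moved hV y := by
  have hodd := hF.odd_orderOf hyF
  have hle : Nat.card (moved hV y) ≤ 4 := by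
    let f : moved hV t' × moved hV t → V := fun p => (p.1 : V) * p.2
    have hsub : ((moved hV y : Subgroup V) : Set V) ⊆ Set.range f := by
      rintro _ ⟨v, rfl⟩
      refine ⟨(⟨_, dd_mem_moved hV t' (t • v)⟩, ⟨_, dd_mem_moved hV t v⟩), ?_⟩
      simp only [f, dd_apply]
      rw [hy, mul_smul, mul_assoc, ← mul_assoc (t • v), hV, one_mul]
    calc Nat.card (moved hV y) ≤ Nat.card (Set.range f) := Nat.card_mono (Set.toFinite _) hsub
      _ ≤ Nat.card (moved hV t' × moved hV t) := Finite.card_range_le f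
      _ = 4 := by rw [Nat.card_prod, ht'.2, ht.2]
  have hbot : moved hV y ≠ ⊥ := by
    intro h
    refine hy1 (eq_one_of_stab hV hodd (W := ⊥) (fun w hw => ?_) h.le)
    rw [Subgroup.mem_bot.mp hw, smul_one]
  obtain ⟨w, hw, hw1⟩ := (Subgroup.ne_bot_iff_exists_ne_one (H := moved hV y)).mp hbot |>
    fun ⟨a, ha⟩ => (⟨a, a.2, fun h => ha (Subtype.ext h)⟩ : ∃ w, w ∈ moved hV y ∧ w ≠ 1)
  have hy1' := smul_mem_moved_self hV y hw
  have hy2' := smul_mem_moved_self hV y hy1'
  have h4 : Nat.card (moved hV y) = 4 := by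
    refine le_antisymm hle ?_
    have e1 := smul_ne hV hodd hw hw1
    have e2 := smul_sq_ne hV hodd hw hw1
    have e3 : y • y • w ≠ y • w := fun h => e1 (MulAction.injective y h)
    have e4 : ∀ {a : V}, a ≠ 1 → y • a ≠ 1 := fun {a} ha h => ha (eq_one_of_smul_eq_one h)
    have := e4 hw1
    have := e4 (e4 hw1)
    have hinj : Function.Injective ![(⟨1, one_mem _⟩ : moved hV y), ⟨w, hw⟩, ⟨_, hy1'⟩, ⟨_, hy2'⟩] := by
      intro i j hij
      have hij' := congrArg Subtype.val hij
      clear hij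
      fin_cases i <;> fin_cases j <;> simp at hij' ⊢ <;>
        first | exact absurd hij' (by assumption) | exact absurd hij'.symm (by assumption)
    simpa using Nat.card_le_card_of_injective _ hinj
  refine ⟨h4, ?_, ?_⟩
  · have hodd3 : Odd (orderOf (y ^ 3)) :=
      hF.odd_orderOf (pow_mem hyF 3)
    refine eq_one_of_stab hV hodd3 (W := moved hV y) (fun u hu => ?_) (moved_pow hV y 3)
    rw [pow_three, mul_smul, mul_smul, pow_three_smul hV hodd h4 hu]
  · obtain ⟨u, hu, hne⟩ : ∃ u ∈ moved hV y, t • u ≠ u := by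
      by_contra hno
      push Not at hno
      refine smul_sq_ne hV hodd hw hw1 ?_
      have h2 : y⁻¹ • w = y • w := by
        rw [← hinv, mul_smul, mul_smul, inv_smul_eq_iff.mpr (hno w hw).symm, hno _ hy1']
      rw [← h2, smul_inv_smul]
    have hmem : dd hV t u ∈ moved hV y := by
      rw [dd_apply]
      exact mul_mem (smul_mem_moved_of_inv hV hinv hu) hu
    have h0 : dd hV t u ≠ 1 := fun h => hne (by rw [smul_eq_mul_dd hV t u, h, one_mul])
    intro v hv
    rcases ht.dd_eq hV (dd_mem_moved hV t u) h0 hv with rfl | rfl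
    · exact one_mem _
    · exact hmem

include hF in
/-- Each transvection inverts a central subgroup of order 3 of `F`. -/
theorem exists_factor {t : X} (ht : IsTransv hV t) : ∃ x, Owns hV F t x := by
  have ht1 : t ≠ 1 := by
    intro h
    have := ht.2
    rw [h, moved_one, Subgroup.card_bot] at this
    omega
  let y : X → X := fun f => f * t * f⁻¹ * t
  have htinv : t⁻¹ = t := inv_eq_of_mul_eq_one_right ht.1
  have hyF : ∀ f ∈ F, y f ∈ F := fun f hf => by
    have h1 := hF.normal t f⁻¹ (inv_mem hf)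
    rw [htinv] at h1
    simpa [y, mul_assoc] using mul_mem hf h1
  have hyinv : ∀ f, t * y f * t⁻¹ = (y f)⁻¹ := fun f => by
    simp [y, htinv, mul_inv_rev, mul_assoc, ht.1]
  have key : ∀ f ∈ F, y f ≠ 1 → Nat.card (moved hV (y f)) = 4 ∧ (y f) ^ 3 = 1 ∧
      moved hV t ≤ moved hV (y f) := fun f hf h1 =>
    two_transv_product hV hF (hyF f hf) h1 (t' := f * t * f⁻¹) rfl ht (ht.conj hV f) (hyinv f)
  obtain ⟨v₁, hv₁, hv₁1⟩ : ∃ v, v ∈ moved hV t ∧ v ≠ 1 := by
    by_contra hno
    push Not at hno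
    have : moved hV t = ⊥ := (Subgroup.eq_bot_iff_forall _).mpr hno
    have h2 := ht.2
    rw [this, Subgroup.card_bot] at h2
    omega
  obtain ⟨f₀, hf₀, hne⟩ : ∃ f ∈ F, y f ≠ 1 := by
    by_contra hno
    push Not at hno
    refine ht1 (hF.eq_one_of_sq (hF.cent fun f hf => ?_) ht.1)
    have h := hno f hf
    simp only [y] at h
    rw [mul_eq_one_iff_eq_inv, htinv, mul_inv_eq_iff_eq_mul] at h
    exact h
  have hall : ∀ f ∈ F, y f ∈ Subgroup.zpowers (y f₀) := by
    intro f hf
    by_cases h1 : y f = 1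
    · rw [h1]; exact one_mem _
    obtain ⟨a4, a3, av⟩ := key f₀ hf₀ hne
    obtain ⟨b4, b3, bv⟩ := key f hf h1
    set a := y f₀
    set b := y f
    have haF := hyF f₀ hf₀
    have hbF := hyF f hf
    have hao := hF.odd_orderOf haF
    have hbo := hF.odd_orderOf hbF
    let P : Subgroup X := Subgroup.closure {a, b}
    have hPF : P ≤ F := (Subgroup.closure_le _).mpr (by
      rintro g (rfl | rfl)
      exacts [haF, hbF])
    obtain ⟨z, hzP, hz1, hzc⟩ : ∃ z ∈ P, z ≠ 1 ∧ ∀ g ∈ P, g * z = z * g := by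
      haveI : Group.IsNilpotent P := Cfsg.Agent.Cores.isNilpotent_of_le hPF hF.nilp
      haveI : Nontrivial P := ⟨⟨a, Subgroup.subset_closure (by simp)⟩, 1, fun h => hne (congrArg Subtype.val h)⟩
      have htne : (⊤ : Subgroup P) ≠ ⊥ := top_ne_bot
      have h0 := Cfsg.Agent.Cores.inf_center_ne_bot (⊤ : Subgroup P) htne
      rw [top_inf_eq, Subgroup.ne_bot_iff_exists_ne_one] at h0
      obtain ⟨z, hz⟩ := h0
      exact ⟨z.1, z.1.2, fun h => hz (Subtype.ext (Subtype.ext h)),
        fun g hg => congrArg Subtype.val (Subgroup.mem_center_iff.mp z.2 ⟨g, hg⟩)⟩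
    have hzo := hF.odd_orderOf (hPF hzP)
    have hza : z * a * z⁻¹ = a := by rw [← hzc a (Subgroup.subset_closure (by simp)), mul_inv_cancel_right]
    have hzb : z * b * z⁻¹ = b := by rw [← hzc b (Subgroup.subset_closure (by simp)), mul_inv_cancel_right]
    have haz : a * z * a⁻¹ = z := by rw [hzc a (Subgroup.subset_closure (by simp)), mul_inv_cancel_right]
    have hbz : b * z * b⁻¹ = z := by rw [hzc b (Subgroup.subset_closure (by simp)), mul_inv_cancel_right]
    have hone : ∀ g : X, g ∈ F → Nat.card (moved hV g) = 4 → g * z * g⁻¹ = z →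
        (∃ w ∈ moved hV z, g • w ≠ w) → moved hV g ≤ moved hV z := by
      rintro g hg hg4 hgz ⟨w, hw, hgw⟩
      have hmem : dd hV g w ∈ moved hV z := mul_mem (smul_mem_moved hV hgz hw) hw
      exact four_le hV (hF.odd_orderOf hg) hg4 (dd_mem_moved hV g w)
        (fun h => hgw (by rw [smul_eq_mul_dd hV g w, h, one_mul])) hmem (smul_mem_moved hV hgz hmem)
    have hboth : moved hV a ≤ moved hV z ∧ moved hV b ≤ moved hV z := by
      by_cases h2 : ∃ w ∈ moved hV z, a • w ≠ w <;> by_cases h3 : ∃ w ∈ moved hV z, b • w ≠ w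
      · exact ⟨hone a haF a4 haz h2, hone b hbF b4 hbz h3⟩
      · push Not at h3
        exact absurd (eq_one_of_mem_moved_of_fixed hV hbo (bv hv₁)
          (h3 _ (hone a haF a4 haz h2 (av hv₁)))) hv₁1
      · push Not at h2
        exact absurd (eq_one_of_mem_moved_of_fixed hV hao (av hv₁)
          (h2 _ (hone b hbF b4 hbz h3 (bv hv₁)))) hv₁1
      · push Not at h2 h3
        refine absurd (eq_one_of_stab hV hzo (W := moved hV z) (fun w hw => ?_) le_rfl) hz1
        have hle : P ≤ MulAction.stabilizer X w := (Subgroup.closure_le _).mpr (by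
          rintro g (rfl | rfl)
          exacts [h2 w hw, h3 w hw])
        exact hle hzP
    have hz0 : z • v₁ ≠ v₁ := smul_ne hV hzo (hboth.1 (av hv₁)) hv₁1
    have hmem_a : z • v₁ ∈ moved hV a := smul_mem_moved hV hza (av hv₁)
    have hmem_b : z • v₁ ∈ moved hV b := smul_mem_moved hV hzb (bv hv₁)
    have hz1' : z • v₁ ≠ 1 := fun h => hv₁1 (eq_one_of_smul_eq_one h)
    have hle : moved hV a ≤ moved hV b := by
      intro u hu
      have hprod : v₁ * z • v₁ ∈ moved hV a := mul_mem (av hv₁) hmem_a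
      rcases mem_four hV hao a4 (av hv₁) hv₁1 hu with rfl | rfl | rfl | rfl
      · exact one_mem _
      · exact bv hv₁
      all_goals
        rcases mem_four hV hao a4 (av hv₁) hv₁1 hmem_a with h | h | h | h <;>
          rcases mem_four hV hao a4 (av hv₁) hv₁1 hprod with h' | h' | h' | h' <;>
          first
          | exact absurd h hz1'
          | exact absurd h hz0
          | exact absurd (mul_eq_left.mp h') hz1'
          | (refine absurd ?_ hz0
             have := congrArg (v₁ * ·) h'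
             simpa [hV.mul_self_mul] using this)
          | (rw [← h]; exact hmem_b)
          | (rw [← h']; exact mul_mem (bv hv₁) hmem_b)
          | (rw [h] at h'; exact absurd (mul_eq_right.mp h') hv₁1)
    have heq : moved hV a = moved hV b := Subgroup.eq_of_le_of_card_ge hle (by rw [a4, b4])
    -- `b` is a power of `a`
    have hagree : ∀ p ∈ Subgroup.zpowers a, b • v₁ = p • v₁ →
        (∀ w ∈ moved hV a, b • w = p • w) → b ∈ Subgroup.zpowers a := by
      intro p hp _ hbp
      have hpF : p ∈ F := Subgroup.zpowers_le.mpr haF hp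
      obtain ⟨k, rfl⟩ := mem_powers_iff_mem_zpowers.mpr hp
      simp only at hpF hbp hp
      have h1 : (a ^ k)⁻¹ * b = 1 := by
        refine eq_one_of_stab hV (hF.odd_orderOf (mul_mem (inv_mem hpF) hbF)) (W := moved hV a)
          (fun w hw => by rw [mul_smul, hbp w hw, inv_smul_smul]) (moved_mul hV ?_ heq.ge)
        rw [moved_inv]; exact moved_pow hV a k
      rw [inv_mul_eq_one.mp h1] at hp
      exact hp
    have hb1 := smul_ne hV hbo (bv hv₁) hv₁1
    have hbm : b • v₁ ∈ moved hV a := heq ▸ smul_mem_moved_self hV b (bv hv₁)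
    have hb1' : b • v₁ ≠ 1 := fun h => hv₁1 (eq_one_of_smul_eq_one h)
    have hb2 : b • b • v₁ ≠ v₁ := smul_sq_ne hV hbo (bv hv₁) hv₁1
    have hb2' : b • b • v₁ ≠ b • v₁ := fun h => hb1 (MulAction.injective b h)
    have hb2m : b • b • v₁ ∈ moved hV a := heq ▸ smul_mem_moved_self hV b (heq ▸ hbm)
    have hb2one : b • b • v₁ ≠ 1 := fun h => hb1' (eq_one_of_smul_eq_one h)
    have hb3 : b • b • b • v₁ = v₁ := pow_three_smul hV hbo b4 (bv hv₁)
    have ha3 : a • a • a • v₁ = v₁ := pow_three_smul hV hao a4 (av hv₁)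
    rcases mem_four hV hao a4 (av hv₁) hv₁1 hbm with h | h | h | h
    · exact absurd h hb1'
    · exact absurd h hb1
    · refine hagree a (Subgroup.mem_zpowers a) h ?_
      have h2 : b • b • v₁ = a • a • v₁ := by
        rcases mem_four hV hao a4 (av hv₁) hv₁1 hb2m with h' | h' | h' | h'
        exacts [absurd h' hb2one, absurd h' hb2, absurd (h'.trans h.symm) hb2', h']
      intro w hw
      rcases mem_four hV hao a4 (av hv₁) hv₁1 hw with rfl | rfl | rfl | rfl
      · simp
      · exact h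
      · rw [← h, h2, h]
      · rw [← h2, hb3, h2, ha3]
    · refine hagree (a * a) (mul_mem (Subgroup.mem_zpowers a) (Subgroup.mem_zpowers a)) (h.trans (mul_smul a a v₁).symm) ?_
      have h2 : b • b • v₁ = a • v₁ := by
        rcases mem_four hV hao a4 (av hv₁) hv₁1 hb2m with h' | h' | h' | h'
        exacts [absurd h' hb2one, absurd h' hb2, h', absurd (h'.trans h.symm) hb2']
      intro w hw
      refine Eq.trans ?_ (mul_smul a a w).symm
      rcases mem_four hV hao a4 (av hv₁) hv₁1 hw with rfl | rfl | rfl | rfl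
      · simp
      · exact h
      · rw [← h2, hb3, h2, ha3]
      · rw [← h, h2, h, ha3]
  obtain ⟨x4, x3, xv⟩ := key f₀ hf₀ hne
  refine ⟨y f₀, ht, ⟨hyF f₀ hf₀, x3, hne, x4, fun f hf => ?_⟩, hyinv f₀, xv, hall⟩
  have h1 : f * y f₀ * f⁻¹ = y (f * f₀) * (y f)⁻¹ := by
    have e : y (f * f₀) * (y f)⁻¹ = f * (f₀ * t * f₀⁻¹ * t⁻¹) * f⁻¹ := by simp only [y]; group
    rw [e, htinv]
  have h2 : f * y f₀ * f⁻¹ ∈ Subgroup.zpowers (y f₀) :=
    h1 ▸ mul_mem (hall _ (mul_mem hf hf₀)) (inv_mem (hall f hf))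
  obtain ⟨k, hk⟩ := mem_powers_iff_mem_zpowers.mpr h2
  simp only at hk
  rw [← Nat.mod_add_div k 3, pow_add, pow_mul, x3, one_pow, mul_one] at hk
  obtain ⟨m, hm⟩ := hF.odd_orderOf hf
  have hk3 : k % 3 < 3 := Nat.mod_lt _ (by norm_num)
  interval_cases h : k % 3
  · rw [pow_zero] at hk; exact absurd (conj_eq_one_iff.mp hk.symm) hne
  · rw [pow_one, eq_mul_inv_iff_mul_eq] at hk; exact hk.symm
  · exfalso
    have hk' : f * y f₀ * f⁻¹ = (y f₀)⁻¹ := by
      rw [← hk]; refine eq_inv_of_mul_eq_one_left ?_; rw [← pow_succ, x3]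
    have hfix : ∀ i : ℕ, (f * f) ^ i * y f₀ * ((f * f) ^ i)⁻¹ = y f₀ := fun i => by
      induction i with
      | zero => simp
      | succ i ih =>
        have : f * f * y f₀ * (f * f)⁻¹ = y f₀ := by
          calc f * f * y f₀ * (f * f)⁻¹ = f * (f * y f₀ * f⁻¹) * f⁻¹ := by group
            _ = f * (y f₀)⁻¹ * f⁻¹ := by rw [hk']
            _ = (f * y f₀ * f⁻¹)⁻¹ := by group
            _ = y f₀ := by rw [hk', inv_inv]
        calc (f * f) ^ (i + 1) * y f₀ * ((f * f) ^ (i + 1))⁻¹
            = (f * f) ^ i * (f * f * y f₀ * (f * f)⁻¹) * ((f * f) ^ i)⁻¹ := by rw [pow_succ]; group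
          _ = y f₀ := by rw [this, ih]
    have hfm : (f * f) ^ m = f⁻¹ := by
      refine eq_inv_of_mul_eq_one_left ?_
      rw [← pow_two, ← pow_mul, ← pow_succ, ← hm, pow_orderOf_eq_one]
    have h5 := hfix m
    rw [hfm] at h5
    rw [inv_inv] at h5
    have h6 : f * (f⁻¹ * y f₀ * f) * f⁻¹ = y f₀ := by group
    rw [h5, hk'] at h6
    exact hne (hF.eq_one_of_sq (hyF f₀ hf₀) (mul_eq_one_iff_inv_eq.mpr h6))

include hF

theorem Factor.odd {x : X} (hx : Factor hV F x) : Odd (orderOf x) := hF.odd_orderOf hx.1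

theorem Factor.conj {x : X} (hx : Factor hV F x) (g : X) : Factor hV F (g * x * g⁻¹) := by
  refine ⟨hF.normal g x hx.1, by rw [conj_pow, hx.2.1, mul_one, mul_inv_cancel],
    fun h => hx.2.2.1 (by rwa [conj_eq_one_iff] at h), ?_, fun f hf => ?_⟩
  · rw [← hx.2.2.2.1]
    refine Nat.card_congr (Equiv.ofBijective (fun w : moved hV (g * x * g⁻¹) =>
      (⟨g⁻¹ • (w : V), by simpa [mul_assoc] using moved_conj hV g⁻¹ _ w.2⟩ : moved hV x)) ⟨?_, ?_⟩)
    · intro a b h
      exact Subtype.ext (MulAction.injective g⁻¹ (congrArg Subtype.val h))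
    · intro w
      exact ⟨⟨g • (w : V), moved_conj hV g x w.2⟩, Subtype.ext (inv_smul_smul g _)⟩
  · have := hx.2.2.2.2 (g⁻¹ * f * g) (by simpa using hF.normal g⁻¹ f hf)
    calc f * (g * x * g⁻¹) = g * (g⁻¹ * f * g * x) * g⁻¹ := by group
      _ = g * (x * (g⁻¹ * f * g)) * g⁻¹ := by rw [this]
      _ = g * x * g⁻¹ * f := by group

/-- Factors with different four-groups centralise each other's. -/
theorem Factor.fix_of_ne {x x' : X} (hx : Factor hV F x) (hx' : Factor hV F x')
    (hne : moved hV x' ≠ moved hV x) {w : V} (hw : w ∈ moved hV x') : x • w = w := by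
  by_contra h
  have hc : x * x' * x⁻¹ = x' := by rw [hx'.2.2.2.2 x hx.1, mul_inv_cancel_right]
  have hc' : x' * x * x'⁻¹ = x := by rw [hx.2.2.2.2 x' hx'.1, mul_inv_cancel_right]
  have h1 : dd hV x w ≠ 1 := fun h' => h (by rw [smul_eq_mul_dd hV x w, h', one_mul])
  have h2 : dd hV x w ∈ moved hV x' := mul_mem (smul_mem_moved hV hc hw) hw
  refine hne (le_antisymm ?_ ?_)
  · exact four_le hV (Factor.odd hV hF hx') hx'.2.2.2.1 h2 h1 (dd_mem_moved hV x w)
      (smul_mem_moved hV hc' (dd_mem_moved hV x w))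
  · exact four_le hV (Factor.odd hV hF hx) hx.2.2.2.1 (dd_mem_moved hV x w) h1 h2 (smul_mem_moved hV hc h2)

theorem Factor.inf_eq_bot {x x' : X} (hx : Factor hV F x) (hx' : Factor hV F x')
    (hne : moved hV x' ≠ moved hV x) {w : V} (hw : w ∈ moved hV x) (hw' : w ∈ moved hV x') : w = 1 :=
  eq_one_of_mem_moved_of_fixed hV (Factor.odd hV hF hx) hw (Factor.fix_of_ne hV hF hx hx' hne hw')

/-- A factor is determined by its four-group. -/
theorem Factor.mem_zpowers {x x' : X} (hx : Factor hV F x) (hx' : Factor hV F x')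
    (heq : moved hV x' = moved hV x) : x' ∈ Subgroup.zpowers x := by
  have ho := Factor.odd hV hF hx
  have ho' := Factor.odd hV hF hx'
  have hc : ∀ w : V, x' • x • w = x • x' • w := fun w => by
    rw [← mul_smul, ← mul_smul, hx.2.2.2.2 x' hx'.1]
  obtain ⟨w, hw, hw1⟩ : ∃ w, w ∈ moved hV x ∧ w ≠ 1 := by
    by_contra hno
    push Not at hno
    have := hx.2.2.2.1
    rw [(Subgroup.eq_bot_iff_forall _).mpr hno, Subgroup.card_bot] at this
    omega
  have hm : x' • w ∈ moved hV x := heq ▸ smul_mem_moved_self hV x' (heq ▸ hw)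
  have fin : ∀ p ∈ Subgroup.zpowers x, moved hV p⁻¹ ≤ moved hV x → p ∈ F → x' • w = p • w →
      (∀ u : V, p • x • u = x • p • u) → x' ∈ Subgroup.zpowers x := by
    intro p hp hpm hpF hw' hpc
    have h1 : p⁻¹ * x' = 1 := by
      refine eq_one_of_stab hV (hF.odd_orderOf (mul_mem (inv_mem hpF) hx'.1)) (W := moved hV x)
        (fun u hu => ?_) (moved_mul hV hpm heq.le)
      rw [mul_smul, inv_smul_eq_iff]
      rcases mem_four hV ho hx.2.2.2.1 hw hw1 hu with rfl | rfl | rfl | rfl
      · simp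
      · exact hw'
      · rw [hc, hw', hpc]
      · rw [hc, hc, hw', hpc, hpc]
    rw [inv_mul_eq_one.mp h1] at hp
    exact hp
  rcases mem_four hV ho hx.2.2.2.1 hw hw1 hm with h | h | h | h
  · exact absurd h fun hh => hw1 (eq_one_of_smul_eq_one hh)
  · exact absurd h (smul_ne hV ho' (heq ▸ hw) hw1)
  · exact fin x (Subgroup.mem_zpowers x) (moved_inv hV x).le hx.1 h fun u => rfl
  · refine fin (x * x) (mul_mem (Subgroup.mem_zpowers x) (Subgroup.mem_zpowers x)) ?_
      (mul_mem hx.1 hx.1) (by rw [mul_smul]; exact h) fun u => by rw [mul_smul, mul_smul]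
    rw [moved_inv, ← sq]; exact moved_pow hV x 2

theorem Owns.fix_fixed {t x : X} (h : Owns hV F t x) {v : V} (hv : x • v = v) : t • v = v := by
  have hxi : x⁻¹ • v = v := inv_smul_eq_iff.mpr hv.symm
  have h1 : x • dd hV t v = dd hV t v := by
    have htxt : x * t = t * x⁻¹ := by
      have := congrArg (·⁻¹) h.2.2.1
      simp only [mul_inv_rev, inv_inv] at this
      calc x * t = t * (t⁻¹ * x * t) := by group
        _ = t * x⁻¹ := by
          have h2 : t⁻¹ = t := inv_eq_of_mul_eq_one_right h.1.1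
          rw [h2, show t * x * t = x⁻¹ by simpa [h2] using h.2.2.1]
    rw [dd_apply, smul_mul', ← mul_smul, htxt, mul_smul, hxi, hv]
  have := eq_one_of_mem_moved_of_fixed hV (Factor.odd hV hF h.2.1) (h.2.2.2.1 (dd_mem_moved hV t v)) h1
  rw [smul_eq_mul_dd hV t v, this, one_mul]

theorem Owns.fix_moved {t x x' : X} (h : Owns hV F t x) (hx' : Factor hV F x')
    (hne : moved hV x' ≠ moved hV x) {w : V} (hw : w ∈ moved hV x') : t • w = w :=
  Owns.fix_fixed hV hF h (Factor.fix_of_ne hV hF h.2.1 hx' hne hw)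

theorem Owns.commute_factor {t x x' : X} (h : Owns hV F t x) (hx' : Factor hV F x')
    (hne : moved hV x' ≠ moved hV x) : t * x' = x' * t := by
  refine eq_of_smul_eq_smul (α := V) fun v => ?_
  have h1 : x' • dd hV t v = dd hV t v :=
    Factor.fix_of_ne hV hF hx' h.2.1 hne.symm (h.2.2.2.1 (dd_mem_moved hV t v))
  have h2 : t • dd hV x' v = dd hV x' v := Owns.fix_moved hV hF h hx' hne (dd_mem_moved hV x' v)
  rw [mul_smul, mul_smul, smul_eq_mul_dd hV x' v, smul_mul', h2, smul_eq_mul_dd hV t v, smul_mul', h1,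
    smul_eq_mul_dd hV x' v, ← mul_assoc, ← mul_assoc, hV.comm (dd hV x' v)]

theorem Owns.commute {t t' x x' : X} (h : Owns hV F t x) (h' : Owns hV F t' x')
    (hne : moved hV x' ≠ moved hV x) : t * t' = t' * t := by
  refine eq_of_smul_eq_smul (α := V) fun v => ?_
  have h1 : t • dd hV t' v = dd hV t' v :=
    Owns.fix_moved hV hF h h'.2.1 hne (h'.2.2.2.1 (dd_mem_moved hV t' v))
  have h2 : t' • dd hV t v = dd hV t v :=
    Owns.fix_moved hV hF h' h.2.1 hne.symm (h.2.2.2.1 (dd_mem_moved hV t v))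
  rw [mul_smul, mul_smul, smul_eq_mul_dd hV t' v, smul_mul', h1, smul_eq_mul_dd hV t v, smul_mul', h2,
    smul_eq_mul_dd hV t' v, ← mul_assoc, ← mul_assoc, hV.comm (dd hV t' v)]

theorem Owns.mul_mem_zpowers {t t' x x' : X} (h : Owns hV F t x) (h' : Owns hV F t' x')
    (heq : moved hV x' = moved hV x) : t * t' ∈ Subgroup.zpowers x := by
  have ho := Factor.odd hV hF h.2.1
  obtain ⟨k, hk⟩ := mem_powers_iff_mem_zpowers.mpr (Factor.mem_zpowers hV hF h.2.1 h'.2.1 heq)
  have hk : x ^ k = x' := hk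
  obtain ⟨j, hj⟩ := mem_powers_iff_mem_zpowers.mpr (Factor.mem_zpowers hV hF h'.2.1 h.2.1 heq.symm)
  have hj : x' ^ j = x := hj
  have hinv : t' * x * t'⁻¹ = x⁻¹ := by rw [← hj, ← conj_pow, h'.2.2.1, inv_pow]
  have hpx : ∀ v : V, (t * t') • x • v = x • (t * t') • v := fun v => by
    have e : t * t' * x = x * (t * t') := by
      calc t * t' * x = t * (t' * x * t'⁻¹) * t⁻¹ * (t * t') := by group
        _ = x * (t * t') := by
          rw [hinv, show t * x⁻¹ * t⁻¹ = (t * x * t⁻¹)⁻¹ by group, h.2.2.1, inv_inv]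
    rw [← mul_smul, e, mul_smul]
  have hfix : ∀ v : V, x • v = v → (t * t') • v = v := fun v hv => by
    have hv' : x' • v = v := by
      rw [← hk]
      have hle : Subgroup.zpowers x ≤ MulAction.stabilizer X v := Subgroup.zpowers_le.mpr hv
      exact hle (pow_mem (Subgroup.mem_zpowers x) k)
    rw [mul_smul, Owns.fix_fixed hV hF h' hv', Owns.fix_fixed hV hF h hv]
  obtain ⟨w, hw, hw1⟩ : ∃ w, w ∈ moved hV x ∧ w ≠ 1 := by
    by_contra hno
    push Not at hno
    have := h.2.1.2.2.2.1
    rw [(Subgroup.eq_bot_iff_forall _).mpr hno, Subgroup.card_bot] at this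
    omega
  have hm : (t * t') • w ∈ moved hV x := by
    rw [mul_smul]
    refine smul_mem_moved_of_inv hV h.2.2.1 ?_
    rw [← heq] at hw ⊢
    exact smul_mem_moved_of_inv hV h'.2.2.1 hw
  have fin : ∀ p : X, p ∈ Subgroup.zpowers x → (t * t') • w = p • w →
      (∀ u : V, p • x • u = x • p • u) → (∀ v : V, x • v = v → p • v = v) → t * t' ∈ Subgroup.zpowers x := by
    intro p hp hw' hpc hpf
    suffices e : t * t' = p by rw [e]; exact hp
    refine eq_of_smul_eq_smul (α := V) fun v => ?_
    obtain ⟨a, ha, b, hb, rfl⟩ := exists_decomp hV ho v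
    rw [mem_fixedSub_singleton] at hb
    rw [smul_mul', smul_mul', hfix b hb, hpf b hb]
    congr 1
    rcases mem_four hV ho h.2.1.2.2.2.1 hw hw1 ha with rfl | rfl | rfl | rfl
    · simp
    · exact hw'
    · rw [hpx, hw', hpc]
    · rw [hpx, hpx, hw', hpc, hpc]
  rcases mem_four hV ho h.2.1.2.2.2.1 hw hw1 hm with hh | hh | hh | hh
  · exact absurd hh fun e => hw1 (eq_one_of_smul_eq_one e)
  · exact fin 1 (one_mem _) (by rw [hh, one_smul]) (fun u => by rw [one_smul, one_smul]) (fun v _ => one_smul X v)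
  · exact fin x (Subgroup.mem_zpowers x) hh (fun u => rfl) (fun v hv => hv)
  · exact fin (x * x) (mul_mem (Subgroup.mem_zpowers x) (Subgroup.mem_zpowers x)) (hh.trans (mul_smul x x w).symm)
      (fun u => by rw [mul_smul, mul_smul]) (fun v hv => by rw [mul_smul, hv, hv])


/-- The subgroup generated by the factors. -/
def eSub (F : Subgroup X) : Subgroup X := Subgroup.closure {x | Factor hV F x}

/-- The subgroup generated by the transvections. -/
def nSub (_hF : Good F) : Subgroup X := Subgroup.closure {t | IsTransv hV t}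

theorem eSub_le : eSub hV F ≤ F := (Subgroup.closure_le _).mpr fun _ hx => hx.1

theorem eSub_comm {e f : X} (he : e ∈ eSub hV F) (hf : f ∈ F) : f * e = e * f := by
  have hle : eSub hV F ≤ Subgroup.centralizer ({f} : Set X) :=
    (Subgroup.closure_le _).mpr fun x hx => Subgroup.mem_centralizer_singleton_iff.mpr (hx.2.2.2.2 f hf).symm
  exact (Subgroup.mem_centralizer_singleton_iff.mp (hle he)).symm

theorem eSub_normal : (eSub hV F).Normal := by
  refine ⟨fun e he g => ?_⟩
  have hle : eSub hV F ≤ (eSub hV F).comap (MulAut.conj g).toMonoidHom :=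
    (Subgroup.closure_le _).mpr fun x hx => Subgroup.subset_closure (Factor.conj hV hF hx g)
  exact hle he

theorem transv_commutator {t t' : X} (ht : IsTransv hV t) (ht' : IsTransv hV t') :
    ⁅t, t'⁆ ∈ eSub hV F := by
  obtain ⟨x, hx⟩ := exists_factor hV hF ht
  obtain ⟨x', hx'⟩ := exists_factor hV hF ht'
  by_cases h : moved hV x' = moved hV x
  · have hle : Subgroup.zpowers x ≤ eSub hV F := Subgroup.zpowers_le.mpr (Subgroup.subset_closure hx.2.1)
    have h1 : t * t' ∈ eSub hV F := hle (Owns.mul_mem_zpowers hV hF hx hx' h)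
    rw [commutatorElement_def, inv_eq_of_mul_eq_one_right ht.1, inv_eq_of_mul_eq_one_right ht'.1, mul_assoc]
    exact mul_mem h1 h1
  · have hc : ⁅t, t'⁆ = 1 := commutatorElement_eq_one_iff_mul_comm.mpr (Owns.commute hV hF hx hx' h)
    rw [hc]; exact one_mem _

theorem nSub_commutator {a b : X} (ha : a ∈ nSub hV hF) (hb : b ∈ nSub hV hF) :
    ⁅a, b⁆ ∈ eSub hV F := by
  haveI := eSub_normal hV hF
  let π := QuotientGroup.mk' (eSub hV F)
  have key : ∀ t, IsTransv hV t → ∀ u ∈ nSub hV hF, π t * π u = π u * π t := by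
    intro t ht u hu
    induction hu using Subgroup.closure_induction with
    | mem u hu =>
      rw [← commutatorElement_eq_one_iff_mul_comm, ← map_commutatorElement]
      exact (QuotientGroup.eq_one_iff _).mpr (transv_commutator hV hF ht hu)
    | one => simp
    | mul u v _ _ hu hv => rw [map_mul, ← mul_assoc, hu, mul_assoc, hv, mul_assoc]
    | inv u _ hu => rw [map_inv]; exact (Commute.inv_right hu).eq
  have key2 : π a * π b = π b * π a := by
    induction ha using Subgroup.closure_induction with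
    | mem u hu => exact key u hu b hb
    | one => simp
    | mul u v _ _ hu hv => rw [map_mul, mul_assoc, hv, ← mul_assoc, hu, mul_assoc]
    | inv u _ hu => rw [map_inv]; exact (Commute.inv_left hu).eq
  rw [← commutatorElement_eq_one_iff_mul_comm, ← map_commutatorElement] at key2
  exact (QuotientGroup.eq_one_iff _).mp key2

theorem nSub_sq {n : X} (hn : n ∈ nSub hV hF) : n * n ∈ eSub hV F := by
  haveI := eSub_normal hV hF
  let π := QuotientGroup.mk' (eSub hV F)
  suffices h : π (n * n) = 1 from (QuotientGroup.eq_one_iff _).mp h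
  induction hn using Subgroup.closure_induction with
  | mem u hu => rw [hu.1, map_one]
  | one => simp
  | mul u v hu hv ihu ihv =>
    have hc : π v * π u = π u * π v := by
      rw [← commutatorElement_eq_one_iff_mul_comm, ← map_commutatorElement]
      exact (QuotientGroup.eq_one_iff _).mpr (nSub_commutator hV hF hv hu)
    rw [map_mul] at ihu ihv ⊢
    rw [map_mul, mul_assoc (π u), ← mul_assoc (π v), hc, mul_assoc (π u), ihv, mul_one, ihu]
  | inv u _ ihu =>
    rw [map_mul] at ihu ⊢
    rw [map_inv, ← mul_inv_rev, ihu, inv_one]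

/-- An element of odd order generated by transvections lies in the product of the factors. -/
theorem mem_eSub_of_odd {n : X} (hn : n ∈ nSub hV hF) (ho : Odd (orderOf n)) : n ∈ eSub hV F := by
  obtain ⟨k, hk⟩ := ho
  have h : n = ((n * n) ^ k)⁻¹ := by
    refine eq_inv_of_mul_eq_one_left ?_
    rw [← pow_two, ← pow_mul, ← pow_succ', ← hk, pow_orderOf_eq_one]
  rw [h]
  exact inv_mem (pow_mem (nSub_sq hV hF hn) k)

/-- Products of transvections stabilise every factor. -/
theorem nSub_fix {n x : X} (hn : n ∈ nSub hV hF) (hx : Factor hV F x) :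
    n * x * n⁻¹ = x ∨ n * x * n⁻¹ = x⁻¹ := by
  induction hn using Subgroup.closure_induction with
  | mem t ht =>
    obtain ⟨y, hy⟩ := exists_factor hV hF ht
    by_cases h : moved hV x = moved hV y
    · right
      obtain ⟨k, hk⟩ := mem_powers_iff_mem_zpowers.mpr (Factor.mem_zpowers hV hF hy.2.1 hx h)
      have hk : y ^ k = x := hk
      rw [← hk, ← conj_pow, hy.2.2.1, inv_pow]
    · left
      rw [Owns.commute_factor hV hF hy hx h, mul_inv_cancel_right]
  | one => left; simp
  | mul u v _ _ hu hv =>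
    have e : u * v * x * (u * v)⁻¹ = u * (v * x * v⁻¹) * u⁻¹ := by group
    rw [e]
    rcases hv with hv | hv <;> rw [hv]
    · exact hu
    · rw [show u * x⁻¹ * u⁻¹ = (u * x * u⁻¹)⁻¹ by group]
      rcases hu with hu | hu <;> rw [hu]
      · exact Or.inr rfl
      · exact Or.inl (inv_inv x)
  | inv u _ hu =>
    rcases hu with hu | hu
    · left; conv_lhs => rw [← hu]
      group
    · right; conv_rhs => rw [← inv_inv x]
      have : u⁻¹ * x * u⁻¹⁻¹ = u⁻¹ * (u * x⁻¹ * u⁻¹) * u := by
        rw [show u * x⁻¹ * u⁻¹ = (u * x * u⁻¹)⁻¹ by group, hu, inv_inv, inv_inv]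
      rw [this]; group

theorem nSub_normal : (nSub hV hF).Normal := by
  refine ⟨fun n hn g => ?_⟩
  have hle : nSub hV hF ≤ (nSub hV hF).comap (MulAut.conj g).toMonoidHom :=
    (Subgroup.closure_le _).mpr fun t ht => Subgroup.subset_closure (ht.conj hV g)
  exact hle hn

end Cfsg.Agent.JComp
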