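import Cfsg.Agent.Lib.JComp.PairProps
import Cfsg.Agent.Lib.JComp.CenterCases
import Mathlib.GroupTheory.SpecificGroups.Cyclic

/-!
The two maximal 2-locals of a pair are `S₄` or `S₄ × Z₂`.

* `Side.mem_q_of_cent`, `Pair.max_eq_P`, `Pair.exists_s4`, `Pair.iso`
-/

set_option autoImplicit false

namespace Cfsg.Agent.JComp

open Cfsg.Agent.PLocal

variable {G : Type*} [Group G] [Finite G]

namespace Side

variable {T K : Subgroup G} (s : Side T K)
include s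

omit [Finite G] in
theorem pow_fix {y : G} (hy3 : y ^ 3 = 1) (hfp : ∀ w ∈ Cfsg.wOf K, y * w * y⁻¹ = w → w = 1) {v : G}
    (hv : v ∈ Cfsg.wOf K) (hv1 : v ≠ 1) {i : ℕ} (h : y ^ i * v * (y ^ i)⁻¹ = v) : y ^ i = 1 := by
  rw [← Nat.mod_add_div i 3, pow_add, pow_mul, hy3, one_pow, mul_one] at h ⊢
  obtain e | e | e : i % 3 = 0 ∨ i % 3 = 1 ∨ i % 3 = 2 := by omega
  · rw [e, pow_zero]
  · rw [e, pow_one] at h; exact absurd (hfp v hv h) hv1
  · exfalso
    rw [e] at h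
    refine hv1 (hfp v hv ?_)
    calc y * v * y⁻¹ = y * (y ^ 2 * v * (y ^ 2)⁻¹) * y⁻¹ := by rw [h]
      _ = (y * y ^ 2) * v * (y * y ^ 2)⁻¹ := by group
      _ = v := by rw [← pow_succ', hy3]; group

theorem mem_q_of_cent {g : G} (hg : g ∈ K ⊔ T) (h : ∀ w ∈ Cfsg.wOf K, w * g = g * w) :
    g ∈ Cfsg.pCoreOf 2 (K ⊔ T) := by
  obtain ⟨y, -, hy3, hdec, hfp⟩ := s.exists_y
  obtain ⟨w, hw, hw1, -, -, hwf⟩ := s.exists_w
  obtain ⟨i, t, ht, rfl⟩ := s.mem_P' hdec hg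
  have h1 : y ^ i * w * (y ^ i)⁻¹ = w := by
    calc y ^ i * w * (y ^ i)⁻¹ = y ^ i * (t * w * t⁻¹) * (y ^ i)⁻¹ := by rw [hwf t ht]
      _ = y ^ i * t * w * (y ^ i * t)⁻¹ := by group
      _ = w := mul_inv_eq_iff_eq_mul.mpr (h w hw).symm
  rw [s.pow_fix hy3 hfp hw hw1 h1, one_mul] at h ⊢
  exact s.mem_q.mpr ⟨ht, h⟩

/-- `K` permutes the involutions of `W` transitively. -/
theorem exists_pow_conj {y v : G} (hy : y ∈ K) (hy3 : y ^ 3 = 1)
    (hfp : ∀ w ∈ Cfsg.wOf K, y * w * y⁻¹ = w → w = 1) {w : G} (hw : w ∈ Cfsg.wOf K) (hw1 : w ≠ 1)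
    (hv : v ∈ Cfsg.wOf K) (hv1 : v ≠ 1) : ∃ i : ℕ, y ^ i * w * (y ^ i)⁻¹ = v := by
  have hcy : ∀ x ∈ Cfsg.wOf K, y * x * y⁻¹ ∈ Cfsg.wOf K := fun x hx =>
    (Subgroup.mem_normalizer_iff.mp (le_normalizer_wOf K hy) x).mp hx
  have hne : w ≠ y * w * y⁻¹ := fun e => hw1 (hfp w hw e.symm)
  have h1 : y * w * y⁻¹ ≠ 1 := fun e => hw1 (conj_eq_one_iff.mp e)
  rcases s.w_gen hw (hcy w hw) hw1 h1 hne hv with h | h | h | h
  · exact absurd h hv1
  · exact ⟨0, by simpa using h.symm⟩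
  · exact ⟨1, by rw [pow_one]; exact h.symm⟩
  · refine ⟨2, h.symm ▸ ?_⟩
    have he : y ^ 2 * w * (y ^ 2)⁻¹ = y * (y * w * y⁻¹) * y⁻¹ := by simp [pow_succ, mul_assoc]
    rw [he]
    rcases s.w_gen hw (hcy w hw) hw1 h1 hne (hcy _ (hcy w hw)) with h' | h' | h' | h'
    · exact absurd (conj_eq_one_iff.mp h') h1
    · exfalso
      refine hne ?_
      calc w = (y ^ 3) * w * (y ^ 3)⁻¹ := by rw [hy3]; group
        _ = y * (y * (y * w * y⁻¹) * y⁻¹) * y⁻¹ := by simp [pow_succ, mul_assoc]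
        _ = y * w * y⁻¹ := by rw [h']
    · exact absurd (hfp _ (hcy w hw) h') h1
    · exact h'

end Side

namespace Pair

variable {T K K' : Subgroup G} (p : Pair T K K')
include p

theorem w_sup_zc : Cfsg.wOf K ⊔ zc T K = Cfsg.pCoreOf 2 (K ⊔ T) := by
  obtain ⟨hD, -, hQc, -⟩ := p.small
  have hle : zc T K ≤ Cfsg.pCoreOf 2 (K ⊔ T) := fun z hz => (hD.ge hz.1).1
  refine Subgroup.eq_of_le_of_card_ge (sup_le p.left.w_le_q hle) ?_
  have hn : zc T K ≤ Subgroup.normalizer (Cfsg.wOf K : Set G) :=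
    (hle.trans p.left.q_le_T).trans p.left.T_le_normalizer_w
  rw [card_sup_of_disjoint_normalizer hn (disjoint_iff.mpr (by rw [inf_comm]; exact p.left.zc_inf_w)),
    hQc, p.left.comp.2.2.2.2.1, p.left.card_z0]
  omega

/-- The maximal 2-local over `⟨K, T⟩` equals it. -/
theorem max_eq_P {L : Subgroup G} (hL : Cfsg.IsTwoLocal L) (hle : K ⊔ T ≤ L) : L = K ⊔ T := by
  obtain ⟨-, hQe, hQc, -⟩ := p.small
  have h4 := p.z0_card
  have hKL : K ≤ L := le_sup_left.trans hle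
  have hs := p.left.setup hL hle
  have hRQ : Cfsg.pCoreOf 2 L ≤ Cfsg.pCoreOf 2 (K ⊔ T) := Cfsg.Agent.LargeSub.le_pCoreOf
    (hs.q_le.trans le_sup_right) (hle.trans (Cfsg.Agent.LargeSub.self_le_normalizer_pCoreOf L))
    (Cfsg.Agent.LargeSub.isPGroup_pCoreOf L)
  have hR : Cfsg.pCoreOf 2 L = Cfsg.pCoreOf 2 (K ⊔ T) := le_antisymm hRQ fun q hq =>
    p.left.hyp.cent_le hL (Subgroup.mem_centralizer_iff.mpr fun r hr => elem_comm hQe (hRQ hr) hq)
  have huniq : ∀ K'', Cfsg.IsJComponent T K'' → K'' ≤ L → K'' = K := by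
    intro K'' hK'' hK''L
    by_contra hne
    obtain ⟨hdis, -⟩ := hs.wOf_disjoint p.left.comp hKL hK'' hK''L hne
    have h1 := (hs.comp_rep p.left.comp hKL).2.2
    have h2 := (hs.comp_rep hK'' hK''L).2.2
    have hn : Cfsg.wOf K'' ≤ Subgroup.normalizer (Cfsg.wOf K : Set G) :=
      Subgroup.le_normalizer_iff.mpr fun g hg x hx => by
        rwa [hs.vOf_comm (h2 hg) (h1 hx), mul_inv_cancel_right]
    have hc := card_sup_of_disjoint_normalizer hn (disjoint_iff.mpr hdis)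
    rw [p.left.comp.2.2.2.2.1, hK''.2.2.2.2.1] at hc
    have hle16 := Subgroup.card_le_of_le (sup_le (h1.trans hs.vOf_le_q) (h2.trans hs.vOf_le_q))
    rw [hc, hR, hQc] at hle16
    omega
  have hLW : L ≤ Subgroup.normalizer (Cfsg.wOf K : Set G) := fun g hg => by
    obtain ⟨hc, hcL⟩ := hs.conj_comp p.left.comp hKL hg
    exact normalizer_le_normalizer_wOf K (Subgroup.mem_normalizer_iff_map_conj_eq.mpr (huniq _ hc hcL))
  -- the centraliser of `W` in `L` is a 2-group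
  set C := L ⊓ Subgroup.centralizer (Cfsg.wOf K : Set G) with hC
  have hCn : L ≤ Subgroup.normalizer (C : Set G) :=
    (le_inf Subgroup.le_normalizer (hLW.trans (normalizer_le_normalizer_centralizer _))).trans
      Subgroup.inf_normalizer_le_normalizer_inf
  have hC2 : ∀ g ∈ C, g * g ∈ Cfsg.pCoreOf 2 (K ⊔ T) := by
    intro g hg
    have hgW : ∀ v ∈ Cfsg.wOf K, g * v * g⁻¹ = v := fun v hv =>
      mul_inv_eq_iff_eq_mul.mpr (Subgroup.mem_centralizer_iff.mp hg.2 v hv).symm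
    have hz : ∀ e ∈ zc T K, g * g * e * (g * g)⁻¹ = e := by
      intro e he
      by_cases he1 : e = 1
      · simp [he1]
      have heQ : g * e * g⁻¹ ∈ Cfsg.pCoreOf 2 (K ⊔ T) := by
        rw [← hR]
        refine (Subgroup.mem_normalizer_iff.mp (Cfsg.Agent.LargeSub.self_le_normalizer_pCoreOf L hg.1) e).mp ?_
        rw [hR, ← p.w_sup_zc]
        exact Subgroup.mem_sup_right he
      rw [← p.w_sup_zc] at heQ
      have hn : zc T K ≤ Subgroup.normalizer (Cfsg.wOf K : Set G) :=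
        (inf_le_left.trans (z0_le T)).trans p.left.T_le_normalizer_w
      rw [← SetLike.mem_coe, Subgroup.coe_mul_of_right_le_normalizer_left _ _ hn] at heQ
      obtain ⟨v, hv, e', he', hve⟩ := heQ
      have hve' : v * e' = g * e * g⁻¹ := hve
      rcases eq_one_or_eq_of_card_le p.zc_card he he1 he' with h1 | h1
      · exfalso
        rw [h1, mul_one] at hve'
        have : e = v := by
          calc e = g⁻¹ * (g * e * g⁻¹) * g := by group
            _ = g⁻¹ * (g * v * g⁻¹) * g := by rw [← hve', hgW v hv]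
            _ = v := by group
        exact he1 (Subgroup.mem_bot.mp (p.left.zc_inf_w ▸ ⟨he, this ▸ hv⟩))
      · rw [h1] at hve'
        calc g * g * e * (g * g)⁻¹ = g * (g * e * g⁻¹) * g⁻¹ := by group
          _ = g * (v * e) * g⁻¹ := by rw [hve']
          _ = (g * v * g⁻¹) * (g * e * g⁻¹) := by group
          _ = v * (v * e) := by rw [hgW v hv, ← hve']
          _ = e := by rw [← mul_assoc, p.left.w_sq hv, one_mul]
    rw [← hR]
    refine p.left.hyp.cent_le hL ?_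
    rw [hR, ← p.w_sup_zc, Cfsg.Agent.PLocal.centralizer_sup]
    refine ⟨Subgroup.mem_centralizer_iff.mpr fun v hv => ?_,
      Subgroup.mem_centralizer_iff.mpr fun v hv => (mul_inv_eq_iff_eq_mul.mp (hz v hv)).symm⟩
    exact Subgroup.mem_centralizer_iff.mp (mul_mem hg.2 hg.2) v hv
  have hCp : IsPGroup 2 C := fun g => ⟨2, Subtype.ext (by
    have hh := hC2 g g.2
    have := elem_mul_self hQe hh
    simp only [SubmonoidClass.coe_pow, OneMemClass.coe_one]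
    rw [show (2 : ℕ) ^ 2 = 2 + 2 from rfl, pow_add, pow_two]
    exact this)⟩
  have hCQ : C ≤ Cfsg.pCoreOf 2 (K ⊔ T) := hR ▸ Cfsg.Agent.LargeSub.le_pCoreOf inf_le_left hCn hCp
  refine le_antisymm (fun g hg => ?_) hle
  obtain ⟨y, hy, hy3, -, hfp⟩ := p.left.exists_y
  obtain ⟨w, hw, hw1, hwz, -, hwf⟩ := p.left.exists_w
  obtain ⟨i, hi⟩ := p.left.exists_pow_conj hy hy3 hfp hw hw1
    ((Subgroup.mem_normalizer_iff.mp (hLW hg) w).mp hw) (fun e => hw1 (conj_eq_one_iff.mp e))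
  have hyi : y ^ i ∈ K ⊔ T := Subgroup.mem_sup_left (K.pow_mem hy i)
  set u := (y ^ i)⁻¹ * g with hu
  suffices u ∈ K ⊔ T by simpa [hu] using mul_mem hyi this
  have huL : u ∈ L := mul_mem (inv_mem (hle hyi)) hg
  have huw : u * w * u⁻¹ = w := by
    calc u * w * u⁻¹ = (y ^ i)⁻¹ * (g * w * g⁻¹) * y ^ i := by rw [hu]; group
      _ = w := by rw [← hi]; group
  obtain ⟨x, hx, hx1, hx0⟩ := p.left.exists_moved
  have hgen := fun v (hv : v ∈ Cfsg.wOf K) =>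
    p.left.w_gen hw hx hw1 hx1 (fun e => hx0 (e ▸ hwz)) hv
  have hcent : ∀ k : G, k ∈ L → k * w * k⁻¹ = w → k * x * k⁻¹ = x → k ∈ Cfsg.pCoreOf 2 (K ⊔ T) := by
    intro k hk h1 h2
    refine hCQ ⟨hk, Subgroup.mem_centralizer_iff.mpr fun v hv => (mul_inv_eq_iff_eq_mul.mp ?_).symm⟩
    rcases hgen v hv with e | e | e | e <;> rw [e]
    · simp
    · exact h1
    · exact h2
    · rw [← conj_mul, h1, h2]
  have hQP := Cfsg.Agent.LargeSub.pCoreOf_le (p := 2) (K ⊔ T)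
  rcases hgen _ ((Subgroup.mem_normalizer_iff.mp (hLW huL) x).mp hx) with e | e | e | e
  · exact absurd (conj_eq_one_iff.mp e) hx1
  · exact absurd (mul_left_cancel (mul_right_cancel (e.trans huw.symm))) (fun e' : x = w => hx0 (e' ▸ hwz))
  · exact hQP (hcent u huL huw e)
  · obtain ⟨a, ha, haQ⟩ := p.left.exists_swap
    have haT := jOf_le T ha
    have hax : a * x * a⁻¹ = x * w := (p.left.comm_mem haT hx hw hw1 hwz).resolve_left
      fun e => haQ (p.left.fix_imp haT hx hx0 e)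
    have := hcent (a * u) (mul_mem (hle (Subgroup.mem_sup_right haT)) huL) (by
      calc a * u * w * (a * u)⁻¹ = a * (u * w * u⁻¹) * a⁻¹ := by group
        _ = w := by rw [huw, hwf a haT]) (by
      calc a * u * x * (a * u)⁻¹ = a * (u * x * u⁻¹) * a⁻¹ := by group
        _ = (a * w * a⁻¹) * (a * x * a⁻¹) := by rw [e, conj_mul]
        _ = x := by rw [hwf a haT, hax, p.left.w_comm hx hw, ← mul_assoc, p.left.w_sq hw, one_mul])
    have hh := mul_mem (inv_mem (Subgroup.mem_sup_right haT : a ∈ K ⊔ T)) (hQP this)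
    rwa [inv_mul_cancel_left] at hh

/-- A subgroup `S₄` of `⟨K, T⟩` complementing `zc`. -/
theorem exists_s4 : ∃ N : Subgroup G, N ≤ K ⊔ T ∧ N ⊓ zc T K = ⊥ ∧ N ⊔ zc T K = K ⊔ T ∧
    Nonempty (↥N ≃* Equiv.Perm (Fin 4)) := by
  obtain ⟨hD, hQe, hQc, -⟩ := p.small
  obtain ⟨a, ha, b, hbW, hab⟩ := p.exists_noncomm
  have hbT : b ∈ T := p.right.w_le_T hbW
  have hbb : b * b = 1 := p.right.w_sq hbW
  have hbi : b⁻¹ = b := inv_eq_of_mul_eq_one_right hbb
  have hbQ : b ∉ Side.qT p.left := fun h => hab (Subgroup.mem_centralizer_iff.mp h.2 a ha)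
  obtain ⟨y₀, hy₀, hy₀3, hdec₀, hfp₀⟩ := p.left.exists_y
  obtain ⟨q, hq, hbyeq⟩ := p.left.invert hy₀ hy₀3 hdec₀ hfp₀ hbT hbQ
  have hqQ : q ∈ Cfsg.pCoreOf 2 (K ⊔ T) := p.left.mem_q.mpr ⟨p.left.core_le hq, fun v hv =>
    ((mem_omegaCenterOf.mp (p.left.w_le_u hv)).2.1 q hq).symm⟩
  set Q := Cfsg.pCoreOf 2 (K ⊔ T) with hQ
  set P := K ⊔ T with hP
  have hPQ : P ≤ Subgroup.normalizer (Q : Set G) := Cfsg.Agent.LargeSub.self_le_normalizer_pCoreOf _
  have hy₀P : y₀ ∈ P := Subgroup.mem_sup_left hy₀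
  set z := b * y₀ * b⁻¹ * y₀⁻¹ with hzdef
  have hz : z = y₀ * (y₀ * q * y₀⁻¹) := by
    rw [hzdef, hbyeq]
    calc y₀⁻¹ * q * y₀⁻¹ = y₀⁻¹ * (y₀⁻¹ * (y₀ * q * y₀⁻¹)) := by group
      _ = (y₀ ^ 3) * (y₀⁻¹ * (y₀⁻¹ * (y₀ * q * y₀⁻¹))) := by rw [hy₀3, one_mul]
      _ = _ := by simp [pow_succ, mul_assoc]
  set q₁ := y₀ * q * y₀⁻¹ with hq₁
  have hq₁Q : q₁ ∈ Q := (Subgroup.mem_normalizer_iff.mp (hPQ hy₀P) q).mp hqQ
  have hzinv : b * z * b⁻¹ = z⁻¹ := by
    rw [hzdef, hbi]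
    calc b * (b * y₀ * b * y₀⁻¹) * b = (b * b) * y₀ * (b * y₀⁻¹ * b) := by group
      _ = y₀ * (b * y₀⁻¹ * b) := by rw [hbb, one_mul]
      _ = (b * y₀ * b * y₀⁻¹)⁻¹ := by simp [mul_assoc, hbi]
  have hzP : z ∈ P := by rw [hz]; exact mul_mem hy₀P (Subgroup.mem_sup_right (p.left.q_le_T hq₁Q))
  have hzW : ∀ v ∈ Cfsg.wOf K, z * v * z⁻¹ = y₀ * v * y₀⁻¹ := fun v hv => by
    rw [hz]
    calc y₀ * q₁ * v * (y₀ * q₁)⁻¹ = y₀ * (q₁ * v * q₁⁻¹) * y₀⁻¹ := by group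
      _ = y₀ * v * y₀⁻¹ := by rw [mul_inv_eq_iff_eq_mul.mpr ((p.left.mem_q.mp hq₁Q).2 v hv).symm]
  have hz3Q : z ^ 3 ∈ Q := by
    refine p.left.mem_q_of_cent (pow_mem hzP 3) fun v hv => (mul_inv_eq_iff_eq_mul.mp ?_).symm
    have hcy : ∀ x ∈ Cfsg.wOf K, y₀ * x * y₀⁻¹ ∈ Cfsg.wOf K := fun x hx =>
      (Subgroup.mem_normalizer_iff.mp (le_normalizer_wOf K hy₀) x).mp hx
    calc z ^ 3 * v * (z ^ 3)⁻¹ = z * (z * (z * v * z⁻¹) * z⁻¹) * z⁻¹ := by simp [pow_succ, mul_assoc]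
      _ = y₀ * (y₀ * (y₀ * v * y₀⁻¹) * y₀⁻¹) * y₀⁻¹ := by
          rw [hzW v hv, hzW _ (hcy v hv), hzW _ (hcy _ (hcy v hv))]
      _ = (y₀ ^ 3) * v * (y₀ ^ 3)⁻¹ := by simp [pow_succ, mul_assoc]
      _ = v := by rw [hy₀3]; group
  have hz6 : z ^ 6 = 1 := by
    rw [show (6 : ℕ) = 3 + 3 from rfl, pow_add]
    exact elem_mul_self hQe hz3Q
  set y := z ^ 4 with hydef
  have hy3 : y ^ 3 = 1 := by rw [hydef, ← pow_mul, show 4 * 3 = 6 * 2 from rfl, pow_mul, hz6, one_pow]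
  have hyP : y ∈ P := pow_mem hzP 4
  have hyW : ∀ v ∈ Cfsg.wOf K, y * v * y⁻¹ = y₀ * v * y₀⁻¹ := fun v hv => by
    have hzv : z * v * z⁻¹ ∈ Cfsg.wOf K :=
      (Subgroup.mem_normalizer_iff.mp (p.left.le_normalizer_w hzP) v).mp hv
    calc y * v * y⁻¹ = z ^ 3 * (z * v * z⁻¹) * (z ^ 3)⁻¹ := by rw [hydef]; simp [pow_succ, mul_assoc]
      _ = z * v * z⁻¹ := mul_inv_eq_iff_eq_mul.mpr ((p.left.mem_q.mp hz3Q).2 _ hzv).symm
      _ = _ := hzW v hv
  have hfp : ∀ v ∈ Cfsg.wOf K, y * v * y⁻¹ = v → v = 1 := fun v hv e => hfp₀ v hv (hyW v hv ▸ e)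
  have hyinv : b * y * b⁻¹ = y⁻¹ := by rw [hydef, ← conj_pow, hzinv, inv_pow]
  obtain ⟨w, hw, hw1, hwz, -, hwf⟩ := p.left.exists_w
  have hy1 : y ≠ 1 := fun e => hw1 (hfp w hw (by rw [e]; group))
  have hyo : orderOf y = 3 := by
    have : Fact (Nat.Prime 3) := ⟨Nat.prime_three⟩
    exact orderOf_eq_prime hy3 hy1
  have hbnQ : b ∉ Q := by rw [hQ, ← p.left.q_eq]; exact hbQ
  have hb1 : b ≠ 1 := fun e => hbnQ (e ▸ one_mem _)
  have hbo : orderOf b = 2 := orderOf_eq_prime (by rw [pow_two]; exact hbb) hb1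
  set Y := Subgroup.zpowers y with hY
  set H := Y ⊔ Subgroup.zpowers b with hH
  have hnY : Subgroup.zpowers b ≤ Subgroup.normalizer (Y : Set G) := by
    refine Subgroup.zpowers_le.mpr (map_conj_mem_normalizer_iff fun v hv => ?_)
    obtain ⟨n, rfl⟩ := Subgroup.mem_zpowers_iff.mp hv
    rw [← conj_zpow, hyinv]
    exact zpow_mem (inv_mem (Subgroup.mem_zpowers y)) n
  have hmemH : ∀ h ∈ H, ∃ i : ℕ, h = y ^ i ∨ h = y ^ i * b := by
    intro h hh
    rw [← SetLike.mem_coe, hH, Subgroup.coe_mul_of_right_le_normalizer_left _ _ hnY] at hh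
    obtain ⟨u, hu, v, hv, rfl⟩ := hh
    obtain ⟨i, hi⟩ := mem_powers_iff_mem_zpowers.mpr hu
    have hc : Nat.card (Subgroup.zpowers b) ≤ 2 := by rw [Nat.card_zpowers, hbo]
    rcases eq_one_or_eq_of_card_le hc (Subgroup.mem_zpowers b) hb1 hv with e | e
    · exact ⟨i, Or.inl (by show u * v = y ^ i; rw [e, mul_one]; exact hi.symm)⟩
    · exact ⟨i, Or.inr (by show u * v = y ^ i * b; rw [e]; exact congrArg (· * b) hi.symm)⟩
  have hHP : H ≤ P := sup_le (Subgroup.zpowers_le.mpr hyP) (Subgroup.zpowers_le.mpr (Subgroup.mem_sup_right hbT))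
  have hHQ : H ⊓ Q = ⊥ := by
    refine (Subgroup.eq_bot_iff_forall _).mpr fun h hh => ?_
    obtain ⟨i, rfl | rfl⟩ := hmemH h hh.1
    · refine p.left.pow_fix hy3 hfp hw hw1 ?_
      exact mul_inv_eq_iff_eq_mul.mpr ((p.left.mem_q.mp hh.2).2 w hw).symm
    · exfalso
      have hfixw : y ^ i * b * w * (y ^ i * b)⁻¹ = w :=
        mul_inv_eq_iff_eq_mul.mpr ((p.left.mem_q.mp hh.2).2 w hw).symm
      have : y ^ i * w * (y ^ i)⁻¹ = w := by
        calc y ^ i * w * (y ^ i)⁻¹ = y ^ i * (b * w * b⁻¹) * (y ^ i)⁻¹ := by rw [hwf b hbT]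
          _ = y ^ i * b * w * (y ^ i * b)⁻¹ := by group
          _ = w := hfixw
      have hh2 := hh.2
      rw [p.left.pow_fix hy3 hfp hw hw1 this, one_mul] at hh2
      exact hbnQ hh2
  have hH6 : Nat.card H = 6 := by
    rw [hH, card_sup_of_disjoint_normalizer hnY, Nat.card_zpowers, Nat.card_zpowers, hyo, hbo]
    rw [disjoint_iff, Subgroup.eq_bot_iff_forall]
    intro v hv
    refine orderOf_eq_one_iff.mp (Nat.eq_one_of_dvd_coprimes (by decide : Nat.Coprime 3 2) ?_ ?_)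
    · rw [← hyo, ← Nat.card_zpowers y]; exact Subgroup.orderOf_dvd_natCard _ hv.1
    · rw [← hbo, ← Nat.card_zpowers b]; exact Subgroup.orderOf_dvd_natCard _ hv.2
  set W := Cfsg.wOf K with hW
  set N := W ⊔ H with hN
  have hHW : H ≤ Subgroup.normalizer (W : Set G) := hHP.trans p.left.le_normalizer_w
  have hWH : W ⊓ H = ⊥ := le_bot_iff.mp (le_trans (le_inf inf_le_right (inf_le_left.trans p.left.w_le_q)) hHQ.le)
  have hN24 : Nat.card N = 24 := by
    rw [hN, card_sup_of_disjoint_normalizer hHW (disjoint_iff.mpr hWH), hH6, p.left.comp.2.2.2.2.1]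
  have hWP : W ≤ P := p.left.w_le_T.trans le_sup_right
  have hNP : N ≤ P := sup_le hWP hHP
  have hzcQ : zc T K ≤ Q := fun v hv => (hD.ge hv.1).1
  have hNzc : N ⊓ zc T K = ⊥ := by
    refine (Subgroup.eq_bot_iff_forall _).mpr fun c hc => ?_
    have hcN : c ∈ W ⊔ H := hc.1
    rw [← SetLike.mem_coe, Subgroup.coe_mul_of_right_le_normalizer_left W H hHW] at hcN
    obtain ⟨v, hv, h, hh, rfl⟩ := hcN
    have hhQ : h ∈ Q := by
      have := mul_mem (inv_mem (p.left.w_le_q hv)) (hzcQ hc.2)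
      simpa using this
    have h1 : h = 1 := Subgroup.mem_bot.mp (hHQ ▸ ⟨hh, hhQ⟩)
    subst h1
    have : v * 1 ∈ zc T K ⊓ W := ⟨hc.2, by simpa using hv⟩
    rw [hW, p.left.zc_inf_w] at this
    exact Subgroup.mem_bot.mp this
  have hcn : zc T K ≤ Subgroup.normalizer (N : Set G) := fun c hc => by
    refine Subgroup.centralizer_le_normalizer _ (Subgroup.mem_centralizer_iff.mpr fun g hg => ?_)
    have hle : P ≤ Subgroup.centralizer {c} := sup_le
      (fun k hk => Subgroup.mem_centralizer_singleton_iff.mpr (Subgroup.mem_centralizer_iff.mp hc.2 k hk))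
      (fun t ht => Subgroup.mem_centralizer_singleton_iff.mpr (p.z0_central ht hc.1))
    exact Subgroup.mem_centralizer_singleton_iff.mp (hle (hNP hg))
  refine ⟨N, hNP, hNzc, Subgroup.eq_of_le_of_card_ge (sup_le hNP (hzcQ.trans (Cfsg.Agent.LargeSub.pCoreOf_le _))) ?_, ?_⟩
  · rw [card_sup_of_disjoint_normalizer hcn (disjoint_iff.mpr hNzc), hN24, hP, p.left.card_P, p.left.card_q,
      hQc, p.left.card_z0]
    omega
  -- the action on the four cosets of `H`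
  set H' := H.subgroupOf N with hH'
  have hidx : H'.index = 4 := by
    have h1 := H'.card_mul_index
    rw [hN24, Nat.card_congr (Subgroup.subgroupOfEquivOfLe (le_sup_right : H ≤ N)).toEquiv, hH6] at h1
    omega
  have hcore : H'.normalCore = ⊥ := by
    refine (Subgroup.eq_bot_iff_forall _).mpr fun c hc => ?_
    have hcH : (c : G) ∈ H := H'.normalCore_le hc
    refine Subtype.ext (Subgroup.mem_bot.mp (hHQ ▸ ⟨hcH, p.left.mem_q_of_cent (hHP hcH) fun v hv => ?_⟩))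
    have hv' : (⟨v, Subgroup.mem_sup_left hv⟩ : N) * c * (⟨v, Subgroup.mem_sup_left hv⟩ : N)⁻¹ ∈ H'.normalCore :=
      (Subgroup.normalCore_normal H').conj_mem c hc _
    have hvcH : v * (c : G) * v⁻¹ ∈ H := H'.normalCore_le hv'
    have hone : v * (c : G) * v⁻¹ * (c : G)⁻¹ = 1 := by
      refine Subgroup.mem_bot.mp (hWH ▸ ⟨?_, H.mul_mem hvcH (H.inv_mem hcH)⟩)
      rw [show v * (c : G) * v⁻¹ * (c : G)⁻¹ = v * ((c : G) * v⁻¹ * (c : G)⁻¹) by group]
      exact W.mul_mem hv ((Subgroup.mem_normalizer_iff.mp (hHW hcH) _).mp (W.inv_mem hv))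
    exact mul_inv_eq_iff_eq_mul.mp (mul_inv_eq_one.mp hone)
  have hinj : Function.Injective (MulAction.toPermHom N (N ⧸ H')) := by
    rw [← MonoidHom.ker_eq_bot_iff, ← Subgroup.normalCore_eq_ker, hcore]
  have hq4 : Nat.card (N ⧸ H') = 4 := by rw [← Subgroup.index_eq_card, hidx]
  have hbij : Function.Bijective (MulAction.toPermHom N (N ⧸ H')) := by
    refine hinj.bijective_of_nat_card_le ?_
    rw [Nat.card_perm, hq4, hN24]
    rfl
  exact ⟨(MulEquiv.ofBijective _ hbij).trans (Finite.equivFinOfCardEq hq4).permCongrHom⟩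

theorem iso : (Nat.card (zc T K) = 1 ∧ Nonempty (↥(K ⊔ T) ≃* Equiv.Perm (Fin 4))) ∨
    (Nat.card (zc T K) = 2 ∧ Nonempty (↥(K ⊔ T) ≃* Equiv.Perm (Fin 4) × Multiplicative (ZMod 2))) := by
  obtain ⟨N, hNP, hdis, hsup, ⟨e⟩⟩ := p.exists_s4
  have hpos : 0 < Nat.card (zc T K) := Nat.card_pos
  have h2 := p.zc_card
  obtain h1 | h1 : Nat.card (zc T K) = 1 ∨ Nat.card (zc T K) = 2 := by omega
  · refine Or.inl ⟨h1, ?_⟩
    rw [← hsup, Subgroup.card_eq_one.mp h1, sup_bot_eq]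
    exact ⟨e⟩
  · refine Or.inr ⟨h1, ?_⟩
    have hle : K ⊔ T ≤ Subgroup.centralizer (zc T K : Set G) := sup_le
      (fun k hk => Subgroup.mem_centralizer_iff.mpr fun c hc =>
        (Subgroup.mem_centralizer_iff.mp hc.2 k hk).symm)
      (fun t ht => Subgroup.mem_centralizer_iff.mpr fun c hc => (p.z0_central ht hc.1).symm)
    have hcomm : ∀ (n : N) (c : zc T K), (n : G) * c = c * n := fun n c =>
      (Subgroup.mem_centralizer_iff.mp (hle (hNP n.2)) c c.2).symm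
    let f : N × zc T K →* ↥(K ⊔ T) :=
      { toFun := fun q => ⟨q.1 * q.2, hsup ▸ Subgroup.mul_mem_sup q.1.2 q.2.2⟩
        map_one' := Subtype.ext (one_mul 1)
        map_mul' := fun q r => Subtype.ext (by
          show (q.1 : G) * r.1 * (q.2 * r.2) = q.1 * q.2 * (r.1 * r.2)
          rw [mul_assoc, ← mul_assoc (r.1 : G), hcomm r.1 q.2]
          simp [mul_assoc]) }
    have hf : Function.Bijective f := by
      refine ⟨fun q r h => Subgroup.mul_injective_of_disjoint (disjoint_iff.mpr hdis) (congrArg Subtype.val h), ?_⟩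
      rintro ⟨g, hg⟩
      have hg' : g ∈ N ⊔ zc T K := hsup.symm ▸ hg
      rw [← SetLike.mem_coe, Subgroup.coe_mul_of_right_le_normalizer_left] at hg'
      · obtain ⟨n, hn, c, hc, hnc⟩ := hg'
        exact ⟨(⟨n, hn⟩, ⟨c, hc⟩), Subtype.ext hnc⟩
      · exact fun c hc => Subgroup.centralizer_le_normalizer _
          (Subgroup.mem_centralizer_iff.mpr fun n hn => hcomm ⟨n, hn⟩ ⟨c, hc⟩)
    have : Fact (Nat.Prime 2) := ⟨Nat.prime_two⟩
    exact ⟨(MulEquiv.ofBijective f hf).symm.trans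
      (e.prodCongr (mulEquivOfPrimeCardEq (p := 2) h1 (by simp)))⟩

end Pair

end Cfsg.Agent.JComp
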