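import Cfsg.Agent.Lib.JComp.Component
import Cfsg.Agent.Lib.JComp.Conj

/-!
2-local subgroups as overgroups; the local subgroup `N(W_K)`.

* `IsJComp.wOf_twoLocal`, `not_jOf_le_pCoreOf`, `Hyp.cent_le`, `Hyp.setup`
* `Hyp.zero_setup`, `Hyp.zero_normalizer_le`, `Hyp.zero_comp_of_le`
-/

set_option autoImplicit false

namespace Cfsg.Agent.JComp

variable {G : Type*} [Group G]

theorem wOf_twoLocal {T K : Subgroup G} (hK : Cfsg.IsJComponent T K) :
    Cfsg.IsTwoLocal (Subgroup.normalizer (Cfsg.wOf K : Set G)) := by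
  refine ⟨Cfsg.wOf K, fun ⟨w, hw⟩ => ⟨1, Subtype.ext ?_⟩, fun h => ?_, rfl⟩
  · show w ^ 2 ^ 1 = 1
    rw [pow_one, pow_two]; exact hK.2.2.2.2.2 w hw
  · have := hK.2.2.2.2.1
    rw [h, Subgroup.card_bot] at this
    omega

theorem not_le_twoGroup {T K P : Subgroup G} (hK : Cfsg.IsJComponent T K) (hP : IsPGroup 2 P) :
    ¬ K ≤ P := by
  intro h
  have h3 : K = ⊥ := by
    rw [← hK.1, Subgroup.closure_eq_bot_iff]
    rintro g ⟨hgK, hgo⟩
    obtain ⟨n, hn⟩ := pow_two_of_mem hP (h hgK)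
    exact Subgroup.mem_bot.mp (mem_of_pow_two hgo (n := n) (C := ⊥) (Subgroup.mem_bot.mpr hn))
  have := hK.2.2.1
  rw [h3, Subgroup.relIndex_bot_right] at this
  omega

theorem not_jOf_le_pCoreOf {T K N : Subgroup G} (hK : Cfsg.IsJComponent T K) (hKN : K ≤ N) :
    ¬ Cfsg.thompsonSubgroupOf 2 T ≤ Cfsg.pCoreOf 2 N := by
  intro h
  refine not_le_twoGroup hK (Cfsg.Agent.LargeSub.isPGroup_pCoreOf (p := 2) N) ?_
  rw [← hK.2.1, Subgroup.commutator_le]
  intro g hg j hj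
  rw [commutatorElement_def]
  exact mul_mem ((Subgroup.mem_normalizer_iff.mp
    (Cfsg.Agent.LargeSub.self_le_normalizer_pCoreOf N (hKN hg)) _).mp (h hj)) (inv_mem (h hj))

variable [Finite G] (h : Hyp G)
include h

omit [Finite G] in
theorem Hyp.cent_le {N : Subgroup G} (hN : Cfsg.IsTwoLocal N) :
    Subgroup.centralizer (Cfsg.pCoreOf 2 N : Set G) ≤ Cfsg.pCoreOf 2 N := by
  obtain ⟨P, hP, hP1, rfl⟩ := hN
  have h1 := Cfsg.Agent.LargeSub.centralizer_pCore_iff.mp (h.char2.2 P hP hP1)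
  have hPQ : P ≤ Cfsg.pCoreOf 2 (Subgroup.normalizer (P : Set G)) :=
    Cfsg.Agent.LargeSub.le_pCoreOf Subgroup.le_normalizer le_rfl hP
  exact fun x hx => h1 ⟨Subgroup.centralizer_le_normalizer _
    (Subgroup.centralizer_le (SetLike.coe_subset_coe.mpr hPQ) hx), hx⟩

omit [Finite G] in
theorem Hyp.setup {N R : Subgroup G} (hN : Cfsg.IsTwoLocal N) (hR : Cfsg.IsSylowTwoIn R N)
    (hJ : ¬ Cfsg.thompsonSubgroupOf 2 R ≤ Cfsg.pCoreOf 2 N) : Setup R N :=
  ⟨h, hR, hJ, h.cent_le hN⟩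

theorem Hyp.zero_setup {T K R : Subgroup G} (hK : K ∈ Cfsg.jComponentsZero T)
    (hR : Cfsg.IsSylowTwoIn R (Subgroup.normalizer (Cfsg.wOf K : Set G)))
    (hJR : Cfsg.thompsonSubgroupOf 2 T ≤ R) :
    Setup R (Subgroup.normalizer (Cfsg.wOf K : Set G)) ∧ Cfsg.IsJComponent R K := by
  have hJ := hK.2 R hJR hR
  refine ⟨h.setup (wOf_twoLocal hK.1) hR ?_, isJComponent_congr hJ.symm hK.1⟩
  rw [hJ]
  exact not_jOf_le_pCoreOf hK.1 (le_normalizer_wOf K)

theorem Hyp.zero_exists_setup {T K : Subgroup G} (hT : IsPGroup 2 T) (hK : K ∈ Cfsg.jComponentsZero T) :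
    ∃ R, Cfsg.thompsonSubgroupOf 2 T ≤ R ∧ Cfsg.thompsonSubgroupOf 2 R = Cfsg.thompsonSubgroupOf 2 T ∧
      Setup R (Subgroup.normalizer (Cfsg.wOf K : Set G)) ∧ Cfsg.IsJComponent R K := by
  obtain ⟨R, hR, hJR⟩ := exists_sylowTwo_ge (hT.to_le (jOf_le T))
    ((jOf_le_normalizer hK.1).trans (normalizer_le_normalizer_wOf K))
  obtain ⟨h1, h2⟩ := h.zero_setup hK hR hJR
  exact ⟨R, hJR, hK.2 R hJR hR, h1, h2⟩

theorem Hyp.zero_normalizer_le {T K : Subgroup G} (hT : IsPGroup 2 T) (hK : K ∈ Cfsg.jComponentsZero T) :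
    Subgroup.normalizer (Cfsg.wOf K : Set G) ≤ Subgroup.normalizer (K : Set G) := by
  obtain ⟨R, -, -, hs, hKR⟩ := h.zero_exists_setup hT hK
  intro g hg
  obtain ⟨hc, hcN⟩ := hs.conj_comp hKR (le_normalizer_wOf K) hg
  refine Subgroup.mem_normalizer_iff_map_conj_eq.mpr
    (hs.comp_eq_of_wOf hKR (le_normalizer_wOf K) hc hcN ?_)
  show Cfsg.wOf (K.map (MulAut.conj g).toMonoidHom) = _
  rw [wOf_conj]
  exact Subgroup.mem_normalizer_iff_map_conj_eq.mp hg

theorem Hyp.zero_comp_of_le {T K : Subgroup G} (hT : IsPGroup 2 T) (hK : K ∈ Cfsg.jComponentsZero T)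
    (g : G) (hg : Cfsg.thompsonSubgroupOf 2 (T.map (MulAut.conj g).toMonoidHom) ≤
      Subgroup.normalizer (Cfsg.wOf K : Set G)) :
    Cfsg.IsJComponent (T.map (MulAut.conj g).toMonoidHom) K := by
  obtain ⟨R, hJR, hJ, hs, hKR⟩ := h.zero_exists_setup hT hK
  rw [jOf_conj] at hg
  obtain ⟨n, hn, hle⟩ := exists_conj_le hs.sylow ((hT.to_le (jOf_le T)).map _) hg
  have hR' := sylowTwo_conj' hs.sylow hn
  -- `J(T^g)` and `J(T^n)` coincide
  have heq : (Cfsg.thompsonSubgroupOf 2 T).map (MulAut.conj g).toMonoidHom =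
      (Cfsg.thompsonSubgroupOf 2 T).map (MulAut.conj n).toMonoidHom := by
    have h1 := jOf_mono (T := T.map (MulAut.conj g).toMonoidHom) (S := R.map (MulAut.conj n).toMonoidHom)
      (by rw [jOf_conj]; exact hle)
    have hab : ∀ (U : Subgroup G) (a : G),
        Cfsg.maxElemAbelianOrder (U.map (MulAut.conj a).toMonoidHom) = Cfsg.maxElemAbelianOrder U := by
      intro U a
      obtain ⟨A, hA⟩ := exists_maxElem U
      have hA' : A.map (MulAut.conj a).toMonoidHom ∈ maxElem (U.map (MulAut.conj a).toMonoidHom) := by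
        refine mem_maxElem.mpr ⟨Subgroup.map_mono hA.1,
          Cfsg.Agent.PLocal.elemAb_map (MulAut.conj a).toMonoidHom hA.2.1, fun B hB hBe => ?_⟩
        rw [Subgroup.card_map_of_injective (MulAut.conj a).injective]
        have := hA.2.2 (B.map (MulAut.conj a⁻¹).toMonoidHom) ((map_conj_le_iff).mpr (by rwa [inv_inv]))
          (Cfsg.Agent.PLocal.elemAb_map (MulAut.conj a⁻¹).toMonoidHom hBe)
        rwa [Subgroup.card_map_of_injective (MulAut.conj a⁻¹).injective] at this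
      rw [maxElemAbelianOrder_eq hA', maxElemAbelianOrder_eq hA,
        Subgroup.card_map_of_injective (MulAut.conj a).injective]
    have hTR : Cfsg.maxElemAbelianOrder R ≤ Cfsg.maxElemAbelianOrder T :=
      (jOf_mono (T := R) (S := T) (hJ ▸ jOf_le T)).1
    have h2 := h1.2 (by rw [hab, hab]; exact hTR)
    rw [jOf_conj, jOf_conj, hJ] at h2
    refine Subgroup.eq_of_le_of_card_ge h2 (le_of_eq ?_)
    exact (Subgroup.card_map_of_injective (MulAut.conj n).injective).trans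
      (Subgroup.card_map_of_injective (MulAut.conj g).injective).symm
  have hKn : K.map (MulAut.conj n).toMonoidHom = K :=
    Subgroup.mem_normalizer_iff_map_conj_eq.mp (h.zero_normalizer_le hT hK hn)
  refine isJComponent_congr ?_ (hKn ▸ isJComponent_conj hK.1 n)
  rw [jOf_conj, jOf_conj, heq]

end Cfsg.Agent.JComp
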