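import Cfsg.Agent.Lib.JComp.Iso
import Cfsg.Agent.Lib.TwoFusion.Transfer

/-!
The subgroup generated by the elements of odd order, in the presence of a pair.

* `dOf`: the product of the two four-groups; `Pair.card_dOf`, `Pair.conj_central`
* `Pair.inf_odd_le`: its Sylow part is `dOf` (transfer)
* `Pair.oddPart_maximal`: `⟨K, dOf⟩` is a maximal 2-local of it, isomorphic to `S₄`
-/

set_option autoImplicit false

namespace Cfsg.Agent.JComp

open Cfsg.Agent.PLocal
open scoped commutatorElement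

variable {G : Type*} [Group G]

/-- The product of two four-groups. -/
def dOf (K K' : Subgroup G) : Subgroup G := Cfsg.wOf K ⊔ Cfsg.wOf K'

/-- A group in a union of two subgroups lies in one of them. -/
theorem le_or_le_of_subset {B A A' : Subgroup G} (h : ∀ x ∈ B, x ∈ A ∨ x ∈ A') : B ≤ A ∨ B ≤ A' := by
  by_contra hn
  simp only [not_or, SetLike.not_le_iff_exists] at hn
  obtain ⟨⟨x, hx, hxA⟩, ⟨y, hy, hyA'⟩⟩ := hn
  have hx' := (h x hx).resolve_left hxA
  have hy' := (h y hy).resolve_right hyA'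
  rcases h _ (mul_mem hx hy) with h1 | h1
  · exact hxA ((Subgroup.mul_mem_cancel_right A hy').mp h1)
  · exact hyA' ((Subgroup.mul_mem_cancel_left A' hx').mp h1)

variable [Finite G]

namespace Side

variable {T K : Subgroup G} (s : Side T K)
include s

theorem w_le_K : Cfsg.wOf K ≤ K :=
  (s.w_le_u.trans (omegaCenterOf_le _)).trans (Cfsg.Agent.LargeSub.pCoreOf_le K)

theorem wOf_ne_bot : Cfsg.wOf K ≠ ⊥ := fun h => by
  have := s.comp.2.2.2.2.1
  rw [h, Subgroup.card_bot] at this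
  omega

theorem inf_normalizer_T : (K ⊔ T) ⊓ Subgroup.normalizer (T : Set G) = T := by
  refine le_antisymm ?_ (le_inf le_sup_right Subgroup.le_normalizer)
  set N := (K ⊔ T) ⊓ Subgroup.normalizer (T : Set G)
  have hTN : T ≤ N := le_inf le_sup_right Subgroup.le_normalizer
  obtain ⟨k, hk⟩ := Subgroup.card_dvd_of_le hTN
  have hNP := Subgroup.card_dvd_of_le (inf_le_left : N ≤ K ⊔ T)
  have hpos : 0 < Nat.card T := Nat.card_pos
  rw [hk, s.card_P, mul_comm 3] at hNP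
  have hk3 : k ∣ 3 := Nat.dvd_of_mul_dvd_mul_left hpos hNP
  rcases (Nat.dvd_prime Nat.prime_three).mp hk3 with rfl | rfl
  · exact (Subgroup.eq_of_le_of_card_ge hTN (by rw [hk, mul_one])).ge
  exfalso
  have he : N = K ⊔ T := Subgroup.eq_of_le_of_card_ge inf_le_left (by rw [hk, s.card_P, mul_comm])
  have hTQ : T ≤ Cfsg.pCoreOf 2 (K ⊔ T) :=
    Cfsg.Agent.LargeSub.le_pCoreOf le_sup_right (he.ge.trans inf_le_right) s.twoGroup
  have := Subgroup.card_le_of_le hTQ
  have := s.card_q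
  omega

end Side

namespace Pair

variable {T K K' : Subgroup G} (p : Pair T K K')
include p

theorem exists_w_pair : ∃ a b w, a ∈ Cfsg.wOf K ∧ b ∈ Cfsg.wOf K' ∧ a * b ≠ b * a ∧ w ≠ 1 ∧
    w ∈ Cfsg.wOf K ∧ w ∈ Cfsg.wOf K' ∧ w ∈ Cfsg.omegaCenterOf (Cfsg.thompsonSubgroupOf 2 T) ∧
    a * b * a⁻¹ * b⁻¹ = w := by
  obtain ⟨a, ha, b, hb, hab⟩ := p.exists_noncomm
  obtain ⟨w, h1, h2, h3, h4, h5⟩ := p.w_eq ha hb hab
  exact ⟨a, b, w, ha, hb, hab, h1, h2, h3, h4, h5⟩

theorem zc_card_eq : Nat.card (zc T K) = Nat.card (zc T K') := by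
  have := p.left.card_z0
  have := p.right.card_z0
  omega

theorem exists_zc (h2 : Nat.card (zc T K) = 2) : ∃ c ∈ zc T K, c ≠ 1 := by
  have : Nontrivial (zc T K) := Finite.one_lt_card_iff_nontrivial.mp (by omega)
  obtain ⟨⟨c, hc⟩, hc1⟩ := exists_ne (1 : zc T K)
  exact ⟨c, hc, fun e => hc1 (Subtype.ext e)⟩

theorem card_T : Nat.card T = 8 * Nat.card (zc T K) := by
  obtain ⟨-, -, -, h⟩ := p.small
  rw [p.left.card_z0] at h
  omega

theorem zc_le_q : zc T K ≤ Cfsg.pCoreOf 2 (K ⊔ T) := fun _ hz => (p.small.1.ge hz.1).1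

theorem zc_le_q' : zc T K ≤ Cfsg.pCoreOf 2 (K' ⊔ T) := fun _ hz => (p.small.1.ge hz.1).2

theorem card_dOf : Nat.card ↥(dOf K K') = 8 := by
  obtain ⟨a, b, w, ha, hb, hab, hw1, hw, hw', -, -⟩ := p.exists_w_pair
  have h := card_sup_mul_card_inf (H := Cfsg.wOf K) (K := Cfsg.wOf K')
    (p.right.w_le_T.trans p.left.T_le_normalizer_w)
  have hdvd := Subgroup.card_dvd_of_le (inf_le_left : Cfsg.wOf K ⊓ Cfsg.wOf K' ≤ _)
  rw [p.left.comp.2.2.2.2.1, p.right.comp.2.2.2.2.1] at h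
  rw [p.left.comp.2.2.2.2.1] at hdvd
  have h1 : Nat.card ↥(Cfsg.wOf K ⊓ Cfsg.wOf K') ≠ 1 := fun e =>
    hw1 (Subgroup.mem_bot.mp (Subgroup.card_eq_one.mp e ▸ ⟨hw, hw'⟩))
  have h4 : Nat.card ↥(Cfsg.wOf K ⊓ Cfsg.wOf K') ≠ 4 := fun e => by
    have e' := Subgroup.eq_of_le_of_card_ge (inf_le_right : Cfsg.wOf K ⊓ Cfsg.wOf K' ≤ _)
      (by rw [e, p.right.comp.2.2.2.2.1])
    have hbW : b ∈ Cfsg.wOf K := (e'.ge hb).1
    exact hab (p.left.w_comm ha hbW)
  have h2 : Nat.card ↥(Cfsg.wOf K ⊓ Cfsg.wOf K') = 2 := by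
    have hle := Nat.le_of_dvd (by norm_num) hdvd
    interval_cases Nat.card ↥(Cfsg.wOf K ⊓ Cfsg.wOf K') <;> omega
  rw [h2] at h
  show Nat.card ↥(Cfsg.wOf K ⊔ Cfsg.wOf K') = 8
  omega

omit [Finite G] in
theorem dOf_comm : dOf K' K = dOf K K' := sup_comm _ _

theorem dOf_le_T : dOf K K' ≤ T := sup_le p.left.w_le_T p.right.w_le_T

theorem T_le_normalizer_dOf : T ≤ Subgroup.normalizer (dOf K K' : Set G) := fun t ht =>
  Subgroup.mem_normalizer_iff_map_conj_eq.mpr (by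
    show (Cfsg.wOf K ⊔ Cfsg.wOf K').map (MulAut.conj t).toMonoidHom = _
    rw [Subgroup.map_sup, map_conj_eq_self (p.left.T_le_normalizer_w ht),
      map_conj_eq_self (p.right.T_le_normalizer_w ht), dOf])

theorem dOf_not_le_q : ¬ dOf K K' ≤ Cfsg.pCoreOf 2 (K ⊔ T) := fun h => by
  obtain ⟨a, b, w, ha, hb, hab, -⟩ := p.exists_w_pair
  exact hab ((p.left.mem_q.mp (h (Subgroup.mem_sup_right hb))).2 a ha)

theorem inf_dOf : Cfsg.pCoreOf 2 (K ⊔ T) ⊓ dOf K K' = Cfsg.wOf K := by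
  symm
  refine Subgroup.eq_of_le_of_card_ge (le_inf p.left.w_le_q le_sup_left) ?_
  have h := Subgroup.card_dvd_of_le (inf_le_right : Cfsg.pCoreOf 2 (K ⊔ T) ⊓ dOf K K' ≤ _)
  rw [p.card_dOf] at h
  have h8 : Nat.card ↥(Cfsg.pCoreOf 2 (K ⊔ T) ⊓ dOf K K') ≠ 8 := fun e =>
    p.dOf_not_le_q ((Subgroup.eq_of_le_of_card_ge inf_le_right (by rw [e, p.card_dOf])).ge.trans inf_le_left)
  rw [p.left.comp.2.2.2.2.1]
  have hle := Nat.le_of_dvd (by norm_num) h
  interval_cases Nat.card ↥(Cfsg.pCoreOf 2 (K ⊔ T) ⊓ dOf K K') <;> omega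

theorem q_sup : Cfsg.pCoreOf 2 (K ⊔ T) ⊔ Cfsg.pCoreOf 2 (K' ⊔ T) = T := by
  set U := Cfsg.pCoreOf 2 (K ⊔ T) ⊔ Cfsg.pCoreOf 2 (K' ⊔ T)
  have hU : U ≤ T := sup_le p.left.q_le_T p.right.q_le_T
  refine Subgroup.eq_of_le_of_card_ge hU ?_
  obtain ⟨k, hk⟩ := Subgroup.card_dvd_of_le (le_sup_left : _ ≤ U)
  have h1 := Subgroup.card_le_of_le hU
  have h2 := p.left.card_q
  have h3 := p.right.card_q
  have hk1 : k ≠ 1 := fun e => p.q_ne (Subgroup.eq_of_le_of_card_ge
    ((le_sup_right : _ ≤ U).trans (Subgroup.eq_of_le_of_card_ge le_sup_left (by rw [hk, e, mul_one])).ge)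
    (by omega)).symm
  have hk0 : k ≠ 0 := fun e => by
    rw [e, mul_zero] at hk; exact Nat.card_ne_zero.mpr ⟨inferInstance, inferInstance⟩ hk
  have h4 : Nat.card ↥(Cfsg.pCoreOf 2 (K ⊔ T)) * 2 ≤ Nat.card U := by
    rw [hk]; exact Nat.mul_le_mul_left _ (by omega)
  omega

theorem q_local : Cfsg.IsTwoLocal (Subgroup.normalizer (Cfsg.pCoreOf 2 (K ⊔ T) : Set G)) :=
  ⟨_, Cfsg.Agent.LargeSub.isPGroup_pCoreOf _,
    fun h => p.left.wOf_ne_bot (le_bot_iff.mp (h ▸ p.left.w_le_q)), rfl⟩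

theorem normalizer_q : Subgroup.normalizer (Cfsg.pCoreOf 2 (K ⊔ T) : Set G) = K ⊔ T :=
  p.max_eq_P p.q_local (Cfsg.Agent.LargeSub.self_le_normalizer_pCoreOf _)

theorem normalizer_w : Subgroup.normalizer (Cfsg.wOf K : Set G) = K ⊔ T :=
  p.max_eq_P (wOf_twoLocal p.left.comp) p.left.le_normalizer_w

theorem cent_eq {c : G} (hc : c ∈ zc T K) (hc1 : c ≠ 1) : Subgroup.centralizer {c} = K ⊔ T :=
  p.max_eq_P (p.cent_local hc hc1).1 (p.cent_local hc hc1).2

theorem P_ne : K ⊔ T ≠ K' ⊔ T := fun e => by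
  obtain ⟨N, hN, hle⟩ := p.left.exists_local
  exact p.no_common N hN hle (e ▸ hle)

theorem P_inf : (K ⊔ T) ⊓ (K' ⊔ T) = T := by
  refine (Subgroup.eq_of_le_of_card_ge (le_inf le_sup_right le_sup_right) ?_).symm
  obtain ⟨k, hk⟩ := Subgroup.card_dvd_of_le (le_inf le_sup_right le_sup_right : T ≤ (K ⊔ T) ⊓ (K' ⊔ T))
  have h := Subgroup.card_dvd_of_le (inf_le_left : (K ⊔ T) ⊓ (K' ⊔ T) ≤ _)
  rw [hk, p.left.card_P, mul_comm 3] at h
  rcases (Nat.dvd_prime Nat.prime_three).mp (Nat.dvd_of_mul_dvd_mul_left Nat.card_pos h) with rfl | rfl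
  · rw [hk, mul_one]
  exfalso
  have e : (K ⊔ T) ⊓ (K' ⊔ T) = K ⊔ T :=
    Subgroup.eq_of_le_of_card_ge inf_le_left (by rw [hk, p.left.card_P, mul_comm])
  refine p.P_ne (Subgroup.eq_of_le_of_card_ge (e.ge.trans inf_le_right) ?_)
  rw [p.left.card_P, p.right.card_P]

/-- An elementary abelian subgroup of order 8 of `T` is one of the two 2-cores. -/
theorem maxElem_cases {B : Subgroup G} (hB : B ≤ T) (hsq : ∀ x ∈ B, x * x = 1) (h8 : Nat.card B = 8)
    (h2 : Nat.card (zc T K) = 2) : B = Cfsg.pCoreOf 2 (K ⊔ T) ∨ B = Cfsg.pCoreOf 2 (K' ⊔ T) := by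
  obtain ⟨a, ha, b, hb, hab⟩ := p.exists_noncomm
  have := p.card_T
  have := p.left.card_q
  have := p.right.card_q
  rcases le_or_le_of_subset (fun x hx => p.involution_mem ha hb hab (hB hx) (hsq x hx)) with h | h
  · exact Or.inl (Subgroup.eq_of_le_of_card_ge h (by omega))
  · exact Or.inr (Subgroup.eq_of_le_of_card_ge h (by omega))

theorem conj_q {u : G} (hu : u ∈ Subgroup.normalizer (T : Set G)) (huT : u ∉ T)
    (h2 : Nat.card (zc T K) = 2) :
    (Cfsg.pCoreOf 2 (K ⊔ T)).map (MulAut.conj u).toMonoidHom = Cfsg.pCoreOf 2 (K' ⊔ T) := by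
  have hle : (Cfsg.pCoreOf 2 (K ⊔ T)).map (MulAut.conj u).toMonoidHom ≤ T :=
    (Subgroup.map_mono p.left.q_le_T).trans (map_conj_eq_self hu).le
  refine (p.maxElem_cases hle ?_ ?_ h2).resolve_left fun e => huT ?_
  · rintro _ ⟨y, hy, rfl⟩
    show (MulAut.conj u) y * (MulAut.conj u) y = 1
    rw [← map_mul, elem_mul_self p.small.2.1 hy, map_one]
  · rw [Subgroup.card_map_of_injective (MulAut.conj u).injective]
    have := p.card_T
    have := p.left.card_q
    omega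
  · rw [← p.left.inf_normalizer_T]
    exact ⟨p.normalizer_q ▸ Subgroup.mem_normalizer_iff_map_conj_eq.mpr e, hu⟩

theorem sq_mem_T {u v : G} (hu : u ∈ Subgroup.normalizer (T : Set G)) (hv : v ∈ Subgroup.normalizer (T : Set G))
    (huT : u ∉ T) (hvT : v ∉ T) (h2 : Nat.card (zc T K) = 2) : u * v ∈ T := by
  rw [← p.left.inf_normalizer_T]
  refine ⟨p.normalizer_q ▸ Subgroup.mem_normalizer_iff_map_conj_eq.mpr ?_, mul_mem hu hv⟩
  show (Cfsg.pCoreOf 2 (K ⊔ T)).map (MulAut.conj (u * v)).toMonoidHom = _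
  rw [← map_map_conj, p.conj_q hv hvT h2, p.symm.conj_q hu huT (p.zc_card_eq ▸ h2)]

theorem z0_cases (h2 : Nat.card (zc T K) = 2) {c w : G} (hc : c ∈ zc T K) (hc1 : c ≠ 1) (hw : w ∈ Cfsg.wOf K)
    (hw1 : w ≠ 1) (hwz : w ∈ Cfsg.omegaCenterOf (Cfsg.thompsonSubgroupOf 2 T)) {z : G}
    (hz : z ∈ Cfsg.omegaCenterOf (Cfsg.thompsonSubgroupOf 2 T)) :
    z = 1 ∨ z = c ∨ z = w ∨ z = c * w := by
  refine four_cases ?_ (fun x hx => omegaCenterOf_sq hx) hc.1 hwz hc1 hw1 (fun e => ?_) hz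
  · rw [p.left.card_z0, h2]
  · exact hc1 (Subgroup.mem_bot.mp (p.left.zc_inf_w ▸ ⟨hc, e ▸ hw⟩))

/-- An element swapping the two 2-cores fixes `w` and moves the generator of `zc`. -/
theorem conj_central {a b w c u : G} (ha : a ∈ Cfsg.wOf K) (hb : b ∈ Cfsg.wOf K') (hab : a * b ≠ b * a)
    (hw : w ∈ Cfsg.wOf K) (hw' : w ∈ Cfsg.wOf K') (hw1 : w ≠ 1)
    (hwz : w ∈ Cfsg.omegaCenterOf (Cfsg.thompsonSubgroupOf 2 T))
    (hwc : a * b * a⁻¹ * b⁻¹ = w) (hc : c ∈ zc T K) (hc1 : c ≠ 1)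
    (hu : u ∈ Subgroup.normalizer (T : Set G)) (huT : u ∉ T) (h2 : Nat.card (zc T K) = 2) :
    u * w * u⁻¹ = w ∧ u * c * u⁻¹ = c * w ∧ c * w ∈ zc T K' := by
  have h2' : Nat.card (zc T K') = 2 := p.zc_card_eq ▸ h2
  obtain ⟨hD, hQe, hQc, -⟩ := p.small
  obtain ⟨-, hQe', -, -⟩ := p.symm.small
  have haQ' : a ∉ Cfsg.pCoreOf 2 (K' ⊔ T) := fun h => hab ((p.right.mem_q.mp h).2 b hb).symm
  have hbQ : b ∉ Cfsg.pCoreOf 2 (K ⊔ T) := fun h => hab ((p.left.mem_q.mp h).2 a ha)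
  have hza : ∀ x ∈ Cfsg.pCoreOf 2 (K ⊔ T), x ∉ Cfsg.pCoreOf 2 (K' ⊔ T) →
      ∃ z ∈ Cfsg.omegaCenterOf (Cfsg.thompsonSubgroupOf 2 T), x = z * a := fun x hx hx' => by
    refine ⟨x * a, hD ▸ ⟨mul_mem hx (p.left.w_le_q ha), ?_⟩, by rw [mul_assoc, p.left.w_sq ha, mul_one]⟩
    rw [← p.right.q_eq] at hx' haQ' ⊢
    exact p.right.q_mul (p.left.q_le_T hx) (p.left.w_le_T ha) hx' haQ'
  have hzb : ∀ x ∈ Cfsg.pCoreOf 2 (K' ⊔ T), x ∉ Cfsg.pCoreOf 2 (K ⊔ T) →
      ∃ z ∈ Cfsg.omegaCenterOf (Cfsg.thompsonSubgroupOf 2 T), x = z * b := fun x hx hx' => by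
    refine ⟨x * b, hD ▸ ⟨?_, mul_mem hx (p.right.w_le_q hb)⟩, by rw [mul_assoc, p.right.w_sq hb, mul_one]⟩
    rw [← p.left.q_eq] at hx' hbQ ⊢
    exact p.left.q_mul (p.right.q_le_T hx) (p.right.w_le_T hb) hx' hbQ
  have e1 := p.conj_q hu huT h2
  have e2 := p.symm.conj_q hu huT h2'
  have hmap : ∀ {x : G} {A B : Subgroup G}, A.map (MulAut.conj u).toMonoidHom = B → x ∈ A → u * x * u⁻¹ ∈ B :=
    fun {x A B} e hx => e ▸ Subgroup.mem_map_of_mem _ hx
  have ha1 : u * a * u⁻¹ ∈ Cfsg.pCoreOf 2 (K' ⊔ T) := hmap e1 (p.left.w_le_q ha)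
  have hb1 : u * b * u⁻¹ ∈ Cfsg.pCoreOf 2 (K ⊔ T) := hmap e2 (p.right.w_le_q hb)
  have hne : (u * a * u⁻¹) * (u * b * u⁻¹) ≠ (u * b * u⁻¹) * (u * a * u⁻¹) := fun h => hab (by
    rw [conj_mul, conj_mul] at h; exact mul_left_cancel (mul_right_cancel h))
  have ha2 : u * a * u⁻¹ ∉ Cfsg.pCoreOf 2 (K ⊔ T) := fun h => hne (elem_comm hQe h hb1)
  have hb2 : u * b * u⁻¹ ∉ Cfsg.pCoreOf 2 (K' ⊔ T) := fun h => hne (elem_comm hQe' ha1 h)
  obtain ⟨z, hz, hze⟩ := hza _ hb1 hb2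
  obtain ⟨z', hz', hze'⟩ := hzb _ ha1 ha2
  have hwinv : w⁻¹ = w := inv_eq_of_mul_eq_one_right (p.left.w_sq hw)
  have hfix : u * w * u⁻¹ = w := by
    have hzc : ∀ t ∈ T, t * z = z * t := fun t ht => p.z0_central ht hz
    have hzc' : ∀ t ∈ T, t * z' = z' * t := fun t ht => p.z0_central ht hz'
    have haT := p.left.w_le_T ha
    have hbT := p.right.w_le_T hb
    have e : (u * a * u⁻¹) * (u * b * u⁻¹) * (u * a * u⁻¹)⁻¹ * (u * b * u⁻¹)⁻¹ =
        u * (a * b * a⁻¹ * b⁻¹) * u⁻¹ := by group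
    rw [hwc, hze, hze'] at e
    rw [← e]
    have e0 : z' * b * (z * a) = z' * z * (b * a) := by
      rw [mul_assoc z' b, ← mul_assoc b z, hzc b hbT]; group
    have e0' : z * a * (z' * b) = z' * z * (a * b) := by
      rw [mul_assoc z a, ← mul_assoc a z', hzc' a haT, mul_assoc z' a b, ← mul_assoc z z', hzc' z (z0_le T hz)]
    calc z' * b * (z * a) * (z' * b)⁻¹ * (z * a)⁻¹
        = (z' * b * (z * a)) * (z * a * (z' * b))⁻¹ := by group
      _ = (z' * z) * (b * a * b⁻¹ * a⁻¹) * (z' * z)⁻¹ := by rw [e0, e0']; group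
      _ = b * a * b⁻¹ * a⁻¹ := by
          have := p.z0_central
            (mul_mem (mul_mem (mul_mem hbT haT) (inv_mem hbT)) (inv_mem haT)) (mul_mem hz' hz)
          rw [← this, mul_inv_cancel_right]
      _ = (a * b * a⁻¹ * b⁻¹)⁻¹ := by group
      _ = w := by rw [hwc, hwinv]
  have hJn : u * c * u⁻¹ ∈ Cfsg.omegaCenterOf (Cfsg.thompsonSubgroupOf 2 T) := by
    rw [← p.z0_eq, mem_omegaCenterOf]
    obtain ⟨hcT, hcc, hc2⟩ := mem_omegaCenterOf.mp (p.z0_eq.symm ▸ hc.1)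
    refine ⟨(Subgroup.mem_normalizer_iff.mp hu c).mp hcT, fun t ht => ?_, by rw [conj_mul, hc2]; group⟩
    have ht' := (Subgroup.mem_normalizer_iff''.mp hu t).mp ht
    calc t * (u * c * u⁻¹) = u * ((u⁻¹ * t * u) * c) * u⁻¹ := by group
      _ = u * (c * (u⁻¹ * t * u)) * u⁻¹ := by rw [hcc _ ht']
      _ = u * c * u⁻¹ * t := by group
  have hcase : ∀ z ∈ Cfsg.omegaCenterOf (Cfsg.thompsonSubgroupOf 2 T),
      z = 1 ∨ z = c ∨ z = w ∨ z = c * w := fun _ hz => p.z0_cases h2 hc hc1 hw hw1 hwz hz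
  -- the generator of `zc T K'`
  obtain ⟨c', hc', hc'1'⟩ := p.symm.exists_zc h2' 
  have hc'e : c' = c * w := by
    rcases hcase _ hc'.1 with e | e | e | e
    · exact absurd e hc'1'
    · exact absurd (Subgroup.mem_bot.mp (p.zc_disjoint ▸ ⟨hc, e ▸ hc'⟩)) hc1
    · exact absurd (Subgroup.mem_bot.mp (p.right.zc_inf_w ▸ ⟨e ▸ hc', hw'⟩)) hw1
    · exact e
  refine ⟨hfix, ?_, hc'e ▸ hc'⟩
  rcases hcase _ hJn with e | e | e | e
  · exact absurd (conj_eq_one_iff.mp e) hc1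
  · exfalso
    have huP : u ∈ K ⊔ T := by
      rw [← p.cent_eq hc hc1, Subgroup.mem_centralizer_singleton_iff]
      exact mul_inv_eq_iff_eq_mul.mp e
    exact huT (p.left.inf_normalizer_T.le ⟨huP, hu⟩)
  · exact absurd (mul_left_cancel (mul_right_cancel (e.trans hfix.symm)))
      (fun h : c = w => hc1 (Subgroup.mem_bot.mp (p.left.zc_inf_w ▸ ⟨hc, h ▸ hw⟩)))
  · exact e

/-- An elementary abelian group of order at least 8 normalising `T` lies in `T`. -/
theorem elem_le_T (h2 : Nat.card (zc T K) = 2) {B : Subgroup G} (hB : B ≤ Subgroup.normalizer (T : Set G))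
    (hsq : ∀ x ∈ B, x * x = 1) (h8 : 8 ≤ Nat.card B) : B ≤ T := by
  intro u hu
  by_contra huT
  obtain ⟨a, b, w, ha, hb, hab, hw1, hw, hw', hwz, hwc⟩ := p.exists_w_pair
  obtain ⟨c, hc, hc1'⟩ := p.exists_zc h2
  obtain ⟨hfix, huc, hcw⟩ := p.conj_central ha hb hab hw hw' hw1 hwz hwc hc hc1' (hB hu) huT h2
  have hz : ∀ x ∈ B, x ∈ T → x = 1 ∨ x = w := by
    intro x hx hxT
    have hux : u * x * u⁻¹ = x := by
      have hi : ∀ y ∈ B, y⁻¹ = y := fun y hy => inv_eq_of_mul_eq_one_right (hsq y hy)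
      have := hi _ (mul_mem hu hx)
      rw [mul_inv_rev, hi x hx, hi u hu] at this
      rw [← this, mul_inv_cancel_right]
    have hxz : x ∈ Cfsg.omegaCenterOf (Cfsg.thompsonSubgroupOf 2 T) := by
      rcases p.involution_mem ha hb hab hxT (hsq x hx) with h | h
      · refine p.small.1 ▸ ⟨h, ?_⟩
        rw [← p.conj_q (hB hu) huT h2]
        exact ⟨x, h, hux⟩
      · refine p.small.1 ▸ ⟨?_, h⟩
        rw [← p.symm.conj_q (hB hu) huT (p.zc_card_eq ▸ h2)]
        exact ⟨x, h, hux⟩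
    rcases p.z0_cases h2 hc hc1' hw hw1 hwz hxz with e | e | e | e
    · exact Or.inl e
    · exfalso
      have e' : c * w = c := by rw [← huc, ← e]; exact hux
      exact hw1 (mul_eq_left.mp e')
    · exact Or.inr e
    · exfalso
      have hcc : c = c * w := by
        have h := hux
        rw [e] at h
        calc c = c * w * w := by rw [mul_assoc, p.left.w_sq hw, mul_one]
          _ = (u * c * u⁻¹) * (u * w * u⁻¹) := by rw [huc, hfix]
          _ = c * w := by rw [conj_mul]; exact h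
      exact hw1 (mul_eq_left.mp hcc.symm)
  have h4 : Nat.card B ≤ 4 := by
    have hsub : ∀ x : B, ∃ i : Fin 4, (x : G) = ![1, w, u, w * u] i := by
      rintro ⟨x, hx⟩
      by_cases hxT : x ∈ T
      · rcases hz x hx hxT with e | e
        · exact ⟨0, e⟩
        · exact ⟨1, e⟩
      · have hxu := p.sq_mem_T (hB hx) (hB hu) hxT huT h2
        rcases hz _ (mul_mem hx hu) hxu with e | e
        · refine ⟨2, ?_⟩
          show x = u
          rw [mul_eq_one_iff_eq_inv.mp e, inv_eq_of_mul_eq_one_right (hsq u hu)]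
        · refine ⟨3, ?_⟩
          show x = w * u
          rw [← e, mul_assoc, hsq u hu, mul_one]
    choose f hf using hsub
    have := Nat.card_le_card_of_injective f fun x y e => Subtype.ext (by rw [hf x, hf y, e])
    rwa [Nat.card_fin] at this
  omega

/-- An involution of `T` is conjugate to `w` or to a generator of `zc`, according as it lies in `dOf`. -/
theorem involution_class (h2 : Nat.card (zc T K) = 2) {w c : G} (hw : w ∈ Cfsg.wOf K) (hw1 : w ≠ 1)
    (hwz : w ∈ Cfsg.omegaCenterOf (Cfsg.thompsonSubgroupOf 2 T)) (hc : c ∈ zc T K) (hc1 : c ≠ 1)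
    {x : G} (hx : x ∈ Cfsg.pCoreOf 2 (K ⊔ T)) (hx1 : x ≠ 1) :
    (x ∈ Cfsg.wOf K ∧ ∃ g : G, g * w * g⁻¹ = x) ∨
      (x ∉ dOf K K' ∧ (x = c ∨ ∃ g : G, g * (c * w) * g⁻¹ = x)) := by
  obtain ⟨y, hy, hy3, -, hfp⟩ := p.left.exists_y
  by_cases hxW : x ∈ Cfsg.wOf K
  · obtain ⟨i, hi⟩ := p.left.exists_pow_conj hy hy3 hfp hw hw1 hxW hx1
    exact Or.inl ⟨hxW, _, hi⟩
  refine Or.inr ⟨fun h => hxW (p.inf_dOf.le ⟨hx, h⟩), ?_⟩
  have hn : zc T K ≤ Subgroup.normalizer (Cfsg.wOf K : Set G) :=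
    (inf_le_left.trans (z0_le T)).trans p.left.T_le_normalizer_w
  rw [← p.w_sup_zc, ← SetLike.mem_coe, Subgroup.coe_mul_of_right_le_normalizer_left _ _ hn] at hx
  obtain ⟨v, hv, z, hz, hvz⟩ := hx
  have hvz' : v * z = x := hvz
  rcases eq_one_or_eq_of_card_le h2.le hc hc1 hz with rfl | rfl
  · exact absurd (hvz' ▸ (by simpa using hv)) hxW
  by_cases hv1 : v = 1
  · left; rw [← hvz', hv1, one_mul]
  obtain ⟨i, hi⟩ := p.left.exists_pow_conj hy hy3 hfp hw hw1 hv hv1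
  refine Or.inr ⟨y ^ i, ?_⟩
  have hcy : z * y ^ i = y ^ i * z :=
    ((Subgroup.mem_centralizer_iff.mp hz.2 _ (K.pow_mem hy i)).symm)
  calc y ^ i * (z * w) * (y ^ i)⁻¹ = (y ^ i * z * (y ^ i)⁻¹) * (y ^ i * w * (y ^ i)⁻¹) := by group
    _ = z * v := by rw [← hcy, mul_inv_cancel_right, hi]
    _ = x := by rw [← hvz']; exact (p.z0_central (p.left.w_le_T hv) hz.1).symm

/-- Transfer: the generator of `zc` lies outside the subgroup generated by the elements of odd order. -/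
theorem inf_odd_le :
    T ⊓ Subgroup.closure {g : G | Odd (orderOf g)} ≤ dOf K K' := by
  classical
  have : Fact (Nat.Prime 2) := ⟨Nat.prime_two⟩
  obtain h1 | h2 : Nat.card (zc T K) = 1 ∨ Nat.card (zc T K) = 2 := by
    have := p.zc_card
    have : 0 < Nat.card (zc T K) := Nat.card_pos
    omega
  · refine inf_le_left.trans (Subgroup.eq_of_le_of_card_ge p.dOf_le_T ?_).ge
    rw [p.card_dOf, p.card_T, h1]
  have h2' : Nat.card (zc T K') = 2 := p.zc_card_eq ▸ h2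
  obtain ⟨a, b, w, ha, hb, hab, hw1, hw, hw', hwz, hwc⟩ := p.exists_w_pair
  obtain ⟨c, hcm, hc1⟩ := p.exists_zc h2
  obtain ⟨c', hc'm, hc'1⟩ := p.symm.exists_zc h2' 
  have hc'e : c' = c * w := by
    rcases p.z0_cases h2 hcm hc1 hw hw1 hwz hc'm.1 with e | e | e | e
    · exact absurd e hc'1
    · exact absurd (Subgroup.mem_bot.mp (p.zc_disjoint ▸ ⟨hcm, e ▸ hc'm⟩)) hc1
    · exact absurd (Subgroup.mem_bot.mp (p.right.zc_inf_w ▸ ⟨e ▸ hc'm, hw'⟩)) hw1
    · exact e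
  have hcT : c ∈ T := z0_le T hcm.1
  have hwT : w ∈ T := p.left.w_le_T hw
  have hce : c' * w = c := by rw [hc'e, mul_assoc, p.left.w_sq hw, mul_one]
  have hcD : c ∉ dOf K K' := fun h =>
    hc1 (Subgroup.mem_bot.mp (p.left.zc_inf_w ▸ ⟨hcm, p.inf_dOf.le ⟨p.zc_le_q hcm, h⟩⟩))
  obtain ⟨R, hTR⟩ := p.left.twoGroup.exists_le_sylow
  -- `R` normalises `T`
  set R1 := (R : Subgroup G) ⊓ Subgroup.normalizer (T : Set G) with hR1def
  have hTR1 : T ≤ R1 := le_inf hTR Subgroup.le_normalizer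
  have hq8 : ∀ {A K₁ K₂ : Subgroup G}, Pair T K₁ K₂ → Nat.card (zc T K₁) = 2 →
      A = Cfsg.pCoreOf 2 (K₁ ⊔ T) → Nat.card A = 8 ∧ ∀ x ∈ A, x * x = 1 := by
    rintro _ K₁ K₂ q hq rfl
    have := q.card_T
    have := q.left.card_q
    exact ⟨by omega, fun x hx => elem_mul_self q.small.2.1 hx⟩
  have hpush : ∀ {g : G} {B U : Subgroup G}, (Nat.card B = 8 ∧ ∀ x ∈ B, x * x = 1) →
      U ≤ Subgroup.normalizer (T : Set G) → B.map (MulAut.conj g).toMonoidHom ≤ U →
      B.map (MulAut.conj g).toMonoidHom ≤ T := by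
    intro g B U hB hU hle
    refine p.elem_le_T h2 (hle.trans hU) ?_ ?_
    · rintro _ ⟨y, hy, rfl⟩
      show (MulAut.conj g) y * (MulAut.conj g) y = 1
      rw [← map_mul, hB.2 y hy, map_one]
    · rw [Subgroup.card_map_of_injective (MulAut.conj g).injective, hB.1]
  have hmapT : ∀ {g : G} {U : Subgroup G}, U ≤ Subgroup.normalizer (T : Set G) →
      T.map (MulAut.conj g).toMonoidHom ≤ U → g ∈ Subgroup.normalizer (T : Set G) := by
    intro g U hU hle
    refine Subgroup.mem_normalizer_iff_map_conj_eq.mpr (Subgroup.eq_of_le_of_card_ge ?_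
      (Subgroup.card_map_of_injective (MulAut.conj g).injective).ge)
    show T.map (MulAut.conj g).toMonoidHom ≤ T
    conv_lhs => rw [← p.q_sup, Subgroup.map_sup]
    exact sup_le (hpush (hq8 p h2 rfl) hU ((Subgroup.map_mono p.left.q_le_T).trans hle))
      (hpush (hq8 p.symm h2' rfl) hU ((Subgroup.map_mono p.right.q_le_T).trans hle))
  have hRN : (R : Subgroup G) ≤ Subgroup.normalizer (T : Set G) := by
    have he : R1 = R := by
      refine Cfsg.Agent.Isolated.eq_of_normalizer_le R.2 inf_le_left fun g hg hgN => ⟨hg, ?_⟩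
      exact hmapT inf_le_right ((Subgroup.map_mono hTR1).trans (map_conj_eq_self hgN).le)
    exact he ▸ inf_le_right
  have hswap : ∀ r ∈ R, r ∉ T → r * w * r⁻¹ = w ∧ r * c * r⁻¹ = c * w := fun r hr hrT =>
    ⟨(p.conj_central ha hb hab hw hw' hw1 hwz hwc hcm hc1 (hRN hr) hrT h2).1,
      (p.conj_central ha hb hab hw hw' hw1 hwz hwc hcm hc1 (hRN hr) hrT h2).2.1⟩
  have hRw : (R : Subgroup G) ≤ Subgroup.centralizer {w} := fun r hr => by
    rw [Subgroup.mem_centralizer_singleton_iff, ← mul_inv_eq_iff_eq_mul]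
    by_cases hrT : r ∈ T
    · exact mul_inv_eq_iff_eq_mul.mpr (p.z0_central hrT hwz)
    · exact (hswap r hr hrT).1
  -- `w` is conjugate to neither generator
  have hfus : ∀ {K₁ K₂ : Subgroup G} {d : G}, Pair T K₁ K₂ → d ∈ zc T K₁ → d ≠ 1 → d ≠ w →
      ∀ g : G, g * w * g⁻¹ ≠ d := by
    intro K₁ K₂ d q hd hd1 hdw g he
    by_cases hRT : (R : Subgroup G) = T
    · have hcentT : ∀ z ∈ Cfsg.omegaCenterOf (Cfsg.thompsonSubgroupOf 2 T),
          z ∈ Subgroup.centralizer ((R : Subgroup G) : Set G) := fun z hz =>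
        Subgroup.mem_centralizer_iff.mpr fun r hr => p.z0_central (hRT ▸ hr : r ∈ T) hz
      obtain ⟨n, hn, hne⟩ := Sylow.conj_eq_normalizer_conj_of_mem_centralizer R w g⁻¹ (hcentT w hwz)
        (by rw [inv_inv, he]; exact hcentT d hd.1)
      rw [inv_inv, he] at hne
      have hn : n ∈ Subgroup.normalizer (T : Set G) := by rw [← hRT]; exact hn
      have hn' : n⁻¹ * w * n = w := by
        by_cases hnT : n⁻¹ ∈ T
        · have := p.z0_central hnT hwz
          rw [this]; group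
        · have := (p.conj_central ha hb hab hw hw' hw1 hwz hwc hcm hc1 (inv_mem hn) hnT h2).1
          simpa using this
      exact hdw (hne.trans hn')
    · -- the centraliser of `d` is too small
      have hle : (R : Subgroup G).map (MulAut.conj g).toMonoidHom ≤ K₁ ⊔ T := by
        rw [← q.cent_eq hd hd1]
        rintro _ ⟨r, hr, rfl⟩
        rw [Subgroup.mem_centralizer_singleton_iff]
        show g * r * g⁻¹ * d = d * (g * r * g⁻¹)
        rw [← he]
        have h := Subgroup.mem_centralizer_singleton_iff.mp (hRw hr)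
        calc g * r * g⁻¹ * (g * w * g⁻¹) = g * (r * w) * g⁻¹ := by group
          _ = g * (w * r) * g⁻¹ := by rw [h]
          _ = g * w * g⁻¹ * (g * r * g⁻¹) := by group
      obtain ⟨g', -, hg'⟩ := exists_conj_le q.left.sylow_P (R.2.map _) hle
      have := Subgroup.card_le_of_le hg'
      rw [Subgroup.card_map_of_injective (f := (MulAut.conj g').toMonoidHom) (MulAut.conj g').injective,
        Subgroup.card_map_of_injective (f := (MulAut.conj g).toMonoidHom) (MulAut.conj g).injective] at this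
      exact hRT (Subgroup.eq_of_le_of_card_ge hTR this).symm
  have hc'w : c' ≠ w := fun e =>
    hw1 (Subgroup.mem_bot.mp (p.right.zc_inf_w ▸ ⟨e ▸ hc'm, hw'⟩))
  have hcw : c ≠ w := fun e => hw1 (Subgroup.mem_bot.mp (p.left.zc_inf_w ▸ ⟨e ▸ hcm, hw⟩))
  -- `dOf` is the set of elements generated by the conjugates of `w` in `T`
  have hD : ∀ x ∈ T, x * x = 1 → x ≠ 1 → (x ∈ dOf K K' ↔ ∃ g : G, g * w * g⁻¹ = x) := by
    have haux : ∀ {x : G}, ((∃ g : G, g * w * g⁻¹ = x) ∧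
        (x = c ∨ x = c' ∨ (∃ g : G, g * c * g⁻¹ = x) ∨ ∃ g : G, g * c' * g⁻¹ = x)) → False := by
      rintro x ⟨⟨g, hg⟩, rfl | rfl | ⟨k, hk⟩ | ⟨k, hk⟩⟩
      · exact hfus p hcm hc1 hcw g hg
      · exact hfus p.symm hc'm hc'1 hc'w g hg
      · refine hfus p hcm hc1 hcw (k⁻¹ * g) ?_
        rw [show k⁻¹ * g * w * (k⁻¹ * g)⁻¹ = k⁻¹ * (g * w * g⁻¹) * k by group, hg, ← hk]; group
      · refine hfus p.symm hc'm hc'1 hc'w (k⁻¹ * g) ?_
        rw [show k⁻¹ * g * w * (k⁻¹ * g)⁻¹ = k⁻¹ * (g * w * g⁻¹) * k by group, hg, ← hk]; group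
    intro x hxT hx2 hx1
    rcases p.involution_mem ha hb hab hxT hx2 with h | h
    · rcases p.involution_class h2 hw hw1 hwz hcm hc1 h hx1 with ⟨hxW, hg⟩ | ⟨hxD, hg⟩
      · exact iff_of_true (Subgroup.mem_sup_left hxW) hg
      · refine iff_of_false hxD fun hw' => haux ⟨hw', ?_⟩
        rcases hg with e | e
        · exact Or.inl e
        · exact Or.inr (Or.inr (Or.inr (hc'e.symm ▸ e)))
    · rcases p.symm.involution_class h2' hw' hw1 hwz hc'm hc'1 h hx1 with ⟨hxW, hg⟩ | ⟨hxD, hg⟩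
      · exact iff_of_true (Subgroup.mem_sup_right hxW) hg
      · rw [p.dOf_comm] at hxD
        refine iff_of_false hxD fun hw' => haux ⟨hw', ?_⟩
        rcases hg with e | e
        · exact Or.inr (Or.inl e)
        · exact Or.inr (Or.inr (Or.inl (hce ▸ e)))
  -- conjugates of `c` in `R`
  have hconj : ∀ g : G, g * c * g⁻¹ ∈ (R : Subgroup G) → g * c * g⁻¹ ∈ T ∧ g * c * g⁻¹ ∉ dOf K K' := by
    intro g hg
    have hc2 : c * c = 1 := omegaCenterOf_sq hcm.1
    have hxT : g * c * g⁻¹ ∈ T := by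
      by_contra hxT
      set x := g * c * g⁻¹ with hx
      have hZ : Cfsg.omegaCenterOf (R : Subgroup G) ≤ Subgroup.zpowers w := by
        intro z hz
        obtain ⟨hzR, hzc, hz2⟩ := mem_omegaCenterOf.mp hz
        have hzT : z ∈ T := by
          by_contra hzT
          have := (hswap z hzR hzT).2
          rw [← hzc c (hTR hcT), mul_inv_cancel_right] at this
          exact hw1 (mul_eq_left.mp this.symm)
        have hz0 : z ∈ Cfsg.omegaCenterOf (Cfsg.thompsonSubgroupOf 2 T) :=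
          p.z0_eq ▸ mem_omegaCenterOf.mpr ⟨hzT, fun t ht => hzc t (hTR ht), hz2⟩
        obtain ⟨hxw, hxc⟩ := hswap x hg hxT
        have hxz : x * z * x⁻¹ = z := mul_inv_eq_iff_eq_mul.mpr (hzc x hg)
        rcases p.z0_cases h2 hcm hc1 hw hw1 hwz hz0 with e | e | e | e
        · rw [e]; exact one_mem _
        · exfalso; rw [e, hxc] at hxz; exact hw1 (mul_eq_left.mp hxz)
        · rw [e]; exact Subgroup.mem_zpowers w
        · exfalso
          rw [e] at hxz
          have : c = c * w := by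
            calc c = c * w * w := by rw [mul_assoc, p.left.w_sq hw, mul_one]
              _ = (x * c * x⁻¹) * (x * w * x⁻¹) := by rw [hxc, hxw]
              _ = c * w := by rw [conj_mul]; exact hxz
          exact hw1 (mul_eq_left.mp this.symm)
      have hCw : Subgroup.centralizer {w} ≤ Subgroup.normalizer (T : Set G) := by
        intro k hk
        have hkR : k ∈ Subgroup.normalizer ((R : Subgroup G) : Set G) := by
          refine p.left.hyp.cent R (Subgroup.centralizer_le (SetLike.coe_subset_coe.mpr hZ) ?_)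
          rw [Subgroup.zpowers_eq_closure, Subgroup.centralizer_closure]
          exact hk
        exact hmapT hRN ((Subgroup.map_mono hTR).trans (map_conj_eq_self hkR).le)
      set d := g⁻¹ * w * g with hd
      have hdP : d ∈ K ⊔ T := by
        rw [← p.cent_eq hcm hc1, Subgroup.mem_centralizer_singleton_iff, hd]
        have h := Subgroup.mem_centralizer_singleton_iff.mp (hRw hg)
        calc g⁻¹ * w * g * c = g⁻¹ * (w * x) * g := by rw [hx]; group
          _ = g⁻¹ * (x * w) * g := by rw [h]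
          _ = c * (g⁻¹ * w * g) := by rw [hx]; group
      have hd2 : d * d = 1 := by
        rw [hd, show g⁻¹ * w * g * (g⁻¹ * w * g) = g⁻¹ * (w * w) * g by group, p.left.w_sq hw]; group
      have hdp : IsPGroup 2 (Subgroup.zpowers d) :=
        elemAb_isPGroup (elemAb_zpowers (by rw [pow_two]; exact hd2))
      obtain ⟨k, hk, hle⟩ := exists_conj_le p.left.sylow_P hdp (Subgroup.zpowers_le.mpr hdP)
      obtain ⟨e, he, hed⟩ := hle (Subgroup.mem_zpowers d)
      have hed' : k * e * k⁻¹ = d := hed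
      have hkc : k * c * k⁻¹ = c := by
        rw [mul_inv_eq_iff_eq_mul, ← Subgroup.mem_centralizer_singleton_iff, p.cent_eq hcm hc1]
        exact hk
      have he2 : e * e = 1 := by
        rw [show e * e = k⁻¹ * ((k * e * k⁻¹) * (k * e * k⁻¹)) * k by group, hed', hd2]; group
      obtain ⟨A, hA8, heA, hcA⟩ : ∃ A : Subgroup G, (Nat.card A = 8 ∧ ∀ y ∈ A, y * y = 1) ∧ e ∈ A ∧ c ∈ A := by
        rcases p.involution_mem ha hb hab he he2 with h | h
        · exact ⟨_, hq8 p h2 rfl, h, p.zc_le_q hcm⟩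
        · exact ⟨_, hq8 p.symm h2' rfl, h, p.zc_le_q' hcm⟩
      have hAw : A.map (MulAut.conj (g * k)).toMonoidHom ≤ Subgroup.centralizer {w} := by
        rintro _ ⟨y, hy, rfl⟩
        rw [Subgroup.mem_centralizer_singleton_iff]
        show g * k * y * (g * k)⁻¹ * w = w * (g * k * y * (g * k)⁻¹)
        have hye : y * e = e * y := by
          have hi : ∀ v ∈ A, v⁻¹ = v := fun v hv => inv_eq_of_mul_eq_one_right (hA8.2 v hv)
          have := hi _ (mul_mem hy heA)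
          rw [mul_inv_rev, hi e heA, hi y hy] at this
          exact this.symm
        have hw_e : g * k * e * (g * k)⁻¹ = w := by
          rw [show g * k * e * (g * k)⁻¹ = g * (k * e * k⁻¹) * g⁻¹ by group, hed', hd]; group
        rw [← hw_e]
        calc g * k * y * (g * k)⁻¹ * (g * k * e * (g * k)⁻¹) = g * k * (y * e) * (g * k)⁻¹ := by group
          _ = g * k * (e * y) * (g * k)⁻¹ := by rw [hye]
          _ = _ := by group
      refine hxT (hpush hA8 hCw hAw ⟨c, hcA, ?_⟩)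
      show g * k * c * (g * k)⁻¹ = x
      rw [show g * k * c * (g * k)⁻¹ = g * (k * c * k⁻¹) * g⁻¹ by group, hkc]
    refine ⟨hxT, fun hxD => ?_⟩
    obtain ⟨k, hk⟩ := (hD _ hxT (by rw [conj_mul, hc2]; group)
      (fun e => hc1 (conj_eq_one_iff.mp e))).mp hxD
    refine hfus p hcm hc1 hcw (g⁻¹ * k) ?_
    rw [show g⁻¹ * k * w * (g⁻¹ * k)⁻¹ = g⁻¹ * (k * w * k⁻¹) * g by group, hk]; group
  -- the quotient `R / dOf`
  have hTdec : ∀ x ∈ T, x ∈ dOf K K' ∨ x * c ∈ dOf K K' := by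
    intro x hx
    have hnc : Subgroup.zpowers c ≤ Subgroup.normalizer (dOf K K' : Set G) :=
      Subgroup.zpowers_le.mpr (p.T_le_normalizer_dOf hcT)
    have hdj : Disjoint (dOf K K') (Subgroup.zpowers c) := by
      rw [disjoint_iff, Subgroup.eq_bot_iff_forall]
      intro z hz
      rcases eq_one_or_eq_of_card_le (H := Subgroup.zpowers c) (by
        rw [Nat.card_zpowers]; exact orderOf_le_of_pow_eq_one two_pos (by rw [pow_two]; exact omegaCenterOf_sq hcm.1))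
        (Subgroup.mem_zpowers c) hc1 hz.2 with e | e
      · exact e
      · exact absurd (e ▸ hz.1) hcD
    have he : dOf K K' ⊔ Subgroup.zpowers c = T := by
      refine Subgroup.eq_of_le_of_card_ge (sup_le p.dOf_le_T (Subgroup.zpowers_le.mpr hcT)) ?_
      rw [card_sup_of_disjoint_normalizer hnc hdj, p.card_dOf, p.card_T, h2, Nat.card_zpowers,
        orderOf_eq_prime (by rw [pow_two]; exact omegaCenterOf_sq hcm.1) hc1]
    rw [← he, ← SetLike.mem_coe, Subgroup.coe_mul_of_right_le_normalizer_left _ _ hnc] at hx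
    obtain ⟨d, hd, z, hz, rfl⟩ := hx
    rcases eq_one_or_eq_of_card_le (H := Subgroup.zpowers c) (by
        rw [Nat.card_zpowers]; exact orderOf_le_of_pow_eq_one two_pos (by rw [pow_two]; exact omegaCenterOf_sq hcm.1))
        (Subgroup.mem_zpowers c) hc1 hz with e | e
    · left; show d * z ∈ _; rw [e, mul_one]; exact hd
    · right; show d * z * c ∈ _; rw [e, mul_assoc, omegaCenterOf_sq hcm.1, mul_one]; exact hd
  have hRD : (R : Subgroup G) ≤ Subgroup.normalizer (dOf K K' : Set G) := by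
    intro r hr
    refine Subgroup.mem_normalizer_iff_map_conj_eq.mpr (Subgroup.eq_of_le_of_card_ge ?_
      (Subgroup.card_map_of_injective (MulAut.conj r).injective).ge)
    have hgen : ∀ x : G, x ∈ T → x * x = 1 → x ∈ dOf K K' → r * x * r⁻¹ ∈ dOf K K' := by
      intro x hxT hx2 hxD
      by_cases hx1 : x = 1
      · simp [hx1]
      obtain ⟨g, hg⟩ := (hD x hxT hx2 hx1).mp hxD
      refine (hD _ ((Subgroup.mem_normalizer_iff.mp (hRN hr) x).mp hxT) (by rw [conj_mul, hx2]; group)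
        (fun e => hx1 (conj_eq_one_iff.mp e))).mpr ⟨r * g, ?_⟩
      rw [← hg]; group
    show (Cfsg.wOf K ⊔ Cfsg.wOf K').map (MulAut.conj r).toMonoidHom ≤ _
    rw [Subgroup.map_sup]
    refine sup_le ?_ ?_
    · rintro _ ⟨x, hx, rfl⟩
      exact hgen x (p.left.w_le_T hx) (p.left.w_sq hx) (Subgroup.mem_sup_left hx)
    · rintro _ ⟨x, hx, rfl⟩
      exact hgen x (p.right.w_le_T hx) (p.right.w_sq hx) (Subgroup.mem_sup_right hx)
  set D' := (dOf K K').subgroupOf (R : Subgroup G) with hD'def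
  have hD'n : D'.Normal := (Subgroup.normal_subgroupOf_iff_le_normalizer (p.dOf_le_T.trans hTR)).2 hRD
  have hcR : c ∈ (R : Subgroup G) := hTR hcT
  -- commutativity
  have hcomm : ∀ r ∈ (R : Subgroup G), ∀ s ∈ (R : Subgroup G), r * s * r⁻¹ * s⁻¹ ∈ dOf K K' := by
    have hTc : ∀ r ∈ (R : Subgroup G), ∀ t ∈ T, r * t * r⁻¹ * t⁻¹ ∈ dOf K K' := by
      intro r hr t ht
      have hcr : r * c * r⁻¹ * c⁻¹ ∈ dOf K K' := by
        by_cases hrT : r ∈ T
        · rw [p.z0_central hrT hcm.1]; simp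
        · rw [(hswap r hr hrT).2, ← p.z0_central hwT hcm.1, mul_inv_cancel_right]
          exact Subgroup.mem_sup_left hw
      have hN : ∀ d ∈ dOf K K', r * d * r⁻¹ ∈ dOf K K' := fun d hd =>
        (Subgroup.mem_normalizer_iff.mp (hRD hr) d).mp hd
      rcases hTdec t ht with h | h
      · exact mul_mem (hN t h) (inv_mem h)
      · have hci : c⁻¹ = c := inv_eq_of_mul_eq_one_right (omegaCenterOf_sq hcm.1)
        rw [show r * t * r⁻¹ * t⁻¹ =
          (r * (t * c⁻¹) * r⁻¹) * (r * c * r⁻¹ * c⁻¹) * (t * c⁻¹)⁻¹ by group, hci]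
        rw [hci] at hcr
        exact mul_mem (mul_mem (hN _ h) hcr) (inv_mem h)
    intro r hr s hs
    by_cases hsT : s ∈ T
    · exact hTc r hr s hsT
    by_cases hrT : r ∈ T
    · rw [show r * s * r⁻¹ * s⁻¹ = (s * r * s⁻¹ * r⁻¹)⁻¹ by group]
      exact inv_mem (hTc s hs r hrT)
    have ht := p.sq_mem_T (hRN hr) (hRN (inv_mem hs)) hrT (fun h => hsT (by simpa using inv_mem h)) h2
    rw [show r * s * r⁻¹ * s⁻¹ = (s * (r * s⁻¹) * s⁻¹ * (r * s⁻¹)⁻¹)⁻¹ by group]
    exact inv_mem (hTc s hs _ ht)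
  let inst : CommGroup (↥(R : Subgroup G) ⧸ D') :=
    { QuotientGroup.Quotient.group D' with
      mul_comm := fun x y => by
        induction x using QuotientGroup.induction_on with | H r => ?_
        induction y using QuotientGroup.induction_on with | H s => ?_
        refine QuotientGroup.eq.mpr ?_
        show ((r * s)⁻¹ * (s * r) : ↥(R : Subgroup G)) ∈ D'
        rw [hD'def, Subgroup.mem_subgroupOf]
        simp only [Subgroup.coe_mul, Subgroup.coe_inv]
        rw [show ((r : G) * s)⁻¹ * (s * r) = (s : G)⁻¹ * (r : G)⁻¹ * ((s : G)⁻¹)⁻¹ * ((r : G)⁻¹)⁻¹ by group]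
        exact hcomm _ (inv_mem s.2) _ (inv_mem r.2) }
  let φ : ↥(R : Subgroup G) →* ↥(R : Subgroup G) ⧸ D' := QuotientGroup.mk' D'
  have hφc : φ ⟨c, hcR⟩ ≠ 1 := fun e => by
    have h : (⟨c, hcR⟩ : ↥(R : Subgroup G)) ∈ D' := (QuotientGroup.eq_one_iff (N := D') _).mp e
    exact hcD h
  have hφsq : φ ⟨c, hcR⟩ ^ 2 = 1 := by
    rw [← map_pow]
    have : (⟨c, hcR⟩ : ↥(R : Subgroup G)) ^ 2 = 1 := Subtype.ext (by
      simp only [pow_two]; exact omegaCenterOf_sq hcm.1)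
    rw [this, map_one]
  set f := MonoidHom.transfer φ with hf
  have hfc : f c ≠ 1 := by
    have key := Cfsg.Agent.TwoFusion.transfer_eq_pow_of_controlled φ ⟨c, hcR⟩ fun k g hm => by
      have hc2 : c ^ 2 = 1 := by rw [pow_two]; exact omegaCenterOf_sq hcm.1
      rcases Nat.even_or_odd' k with ⟨j, rfl | rfl⟩
      · have e : (⟨_, hm⟩ : ↥(R : Subgroup G)) = 1 := Subtype.ext (by
          show g * c ^ (2 * j) * g⁻¹ = 1
          rw [pow_mul, hc2, one_pow]; group)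
        rw [e, map_one, pow_mul, hφsq, one_pow]
      · have e : g * c ^ (2 * j + 1) * g⁻¹ = g * c * g⁻¹ := by rw [pow_succ, pow_mul, hc2, one_pow, one_mul]
        have hm' : g * c * g⁻¹ ∈ (R : Subgroup G) := e ▸ hm
        rw [show (⟨_, hm⟩ : ↥(R : Subgroup G)) = ⟨g * c * g⁻¹, hm'⟩ from Subtype.ext e,
          pow_succ, pow_mul, hφsq, one_pow, one_mul]
        refine QuotientGroup.eq.mpr ?_
        rw [hD'def, Subgroup.mem_subgroupOf]
        simp only [Subgroup.coe_mul, Subgroup.coe_inv]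
        obtain ⟨hxT, hxD⟩ := hconj g hm'
        have h := (hTdec _ hxT).resolve_left hxD
        rw [show (g * c * g⁻¹)⁻¹ * c = g * c * g⁻¹ * c by
          rw [inv_eq_of_mul_eq_one_right (show (g * c * g⁻¹) * (g * c * g⁻¹) = 1 by
            rw [conj_mul, omegaCenterOf_sq hcm.1]; group)]]
        exact h
    intro e
    have hc : MonoidHom.transfer φ c = φ ⟨c, hcR⟩ ^ (R : Subgroup G).index := key
    obtain ⟨j, hj⟩ : Odd (R : Subgroup G).index := by
      rw [← Nat.not_even_iff_odd, even_iff_two_dvd]; exact R.not_dvd_index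
    rw [hj, pow_succ, pow_mul, hφsq, one_pow, one_mul] at hc
    exact hφc (hc.symm.trans e)
  have hker : Subgroup.closure {g : G | Odd (orderOf g)} ≤ f.ker := by
    refine (Subgroup.closure_le _).mpr fun g hg => ?_
    show f g = 1
    obtain ⟨n, hn⟩ := (R.2.to_quotient D') (f g)
    exact Cfsg.Agent.TwoFusion.eq_one_of_pow_eq_one_of_coprime hn
      (show f g ^ orderOf g = 1 by rw [← map_pow, pow_orderOf_eq_one, map_one])
      (Nat.Coprime.pow_left n (Nat.coprime_two_left.mpr hg))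
  intro t ht
  refine (hTdec t ht.1).resolve_right fun h => hfc ?_
  have htc : t * c ∈ Subgroup.closure {g : G | Odd (orderOf g)} := by
    have hW : ∀ {K₁ K₂ : Subgroup G}, Pair T K₁ K₂ →
        Cfsg.wOf K₁ ≤ Subgroup.closure {g : G | Odd (orderOf g)} := fun q =>
      q.left.w_le_K.trans (q.left.comp.1.symm.trans_le (Subgroup.closure_mono fun _ h => h.2))
    exact (sup_le (hW p) (hW p.symm) : dOf K K' ≤ Subgroup.closure {g : G | Odd (orderOf g)}) h
  have ht2 : t ∈ Subgroup.closure {g : G | Odd (orderOf g)} := ht.2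
  have := mul_mem (inv_mem ht2) htc
  rw [inv_mul_cancel_left] at this
  exact hker this

end Pair

end Cfsg.Agent.JComp
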