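import Cfsg.Agent.Lib.JComp.SylowStraddle

/-!
Components outside `M` are normalised by `T`, and there are two of them.

* `straddle_self`, `Straddle.le_normalizer`, `MaxData`, `Straddle.exists_pair`
-/

set_option autoImplicit false

namespace Cfsg.Agent.JComp

open Cfsg.Agent.PLocal

variable {G : Type*} [Group G]

/-- `⟨K, T⟩` lies in a unique maximal 2-local, with Sylow subgroup `T`. -/
def MaxData (T K : Subgroup G) : Prop :=
  ∃ L : Subgroup G, Cfsg.IsMaximalTwoLocal L ∧ K ⊔ T ≤ L ∧ Cfsg.IsSylowTwoIn T L ∧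
    ∀ L' : Subgroup G, Cfsg.IsMaximalTwoLocal L' → K ⊔ T ≤ L' → L' = L

variable [Finite G]

theorem omega_le_z0 (T : Subgroup G) :
    Cfsg.omegaCenterOf T ≤ Cfsg.omegaCenterOf (Cfsg.thompsonSubgroupOf 2 T) := fun z hz => by
  obtain ⟨hzT, hzc, hz2⟩ := mem_omegaCenterOf.mp hz
  obtain ⟨A, hA⟩ := exists_maxElem T
  exact mem_omegaCenterOf.mpr ⟨le_jOf hA (mem_of_central hA hzT (fun a ha => hzc a (hA.1 ha)) hz2),
    fun j hj => hzc j (jOf_le T hj), hz2⟩

/-- A Sylow subgroup straddling `L` is maximal straddling. -/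
theorem straddle_self (hyp : Hyp G) (hO : Cfsg.pCore 2 G = ⊥) (R : Sylow 2 G) (hR1 : (R : Subgroup G) ≠ ⊥)
    {L : Subgroup G} (hL : Cfsg.IsMaximalTwoLocal L)
    (hNJ : Subgroup.normalizer (Cfsg.thompsonSubgroupOf 2 (R : Subgroup G) : Set G) ≤ L)
    (hJ : ¬ Cfsg.thompsonSubgroupOf 2 (R : Subgroup G) ≤ Cfsg.pCoreOf 2 L) :
    Straddle R L (R : Subgroup G) := by
  have hRL : (R : Subgroup G) ≤ L := (jOf_normalized _).trans hNJ
  refine ⟨hyp, hNJ, ⟨R.2, hR1, hRL, exists_local_not_le hyp hO R hL hNJ hJ⟩, fun T hT => ?_⟩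
  obtain ⟨g, -, hle⟩ := exists_conj_le (sylow_isSylowTwoIn_of_le R hRL) hT.1 hT.2.2.1
  obtain ⟨A, hA⟩ := exists_maxElem T
  obtain ⟨B, hB⟩ := exists_maxElem ((R : Subgroup G).map (MulAut.conj g).toMonoidHom)
  have hc : ∀ X : Subgroup G, Nat.card ↥(X.map (MulAut.conj g).toMonoidHom) = Nat.card X :=
    fun X => Subgroup.card_map_of_injective (MulAut.conj g).injective
  rw [← maxElemAbelianOrder_conj g (R : Subgroup G), maxElemAbelianOrder_eq hA, maxElemAbelianOrder_eq hB,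
    ← hc (Cfsg.thompsonSubgroupOf 2 (R : Subgroup G)), ← hc (R : Subgroup G)]
  refine ⟨hB.2.2 A (hA.1.trans hle) hA.2.1, fun e => ⟨?_, fun _ => Subgroup.card_le_of_le hle⟩⟩
  show Nat.card ↥(Cfsg.thompsonSubgroupOf 2 T) ≤
    Nat.card ↥((Cfsg.thompsonSubgroupOf 2 (R : Subgroup G)).map (MulAut.conj g).toMonoidHom)
  rw [← jOf_conj]
  refine Subgroup.card_le_of_le (jOf_le_iff.mpr fun C hC => le_jOf (mem_maxElem.mpr ⟨hC.1.trans hle, hC.2.1, fun D hD hDe => ?_⟩))
  exact (hB.2.2 D hD hDe).trans (e.ge.trans (hC.2.2 A hA.1 hA.2.1))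

namespace Straddle

variable {S : Sylow 2 G} {M T : Subgroup G} (h : Straddle S M T)
include h

omit h in
theorem mem_normJ {g : G} (hg : g ∈ Subgroup.normalizer (T : Set G)) :
    g ∈ Subgroup.normalizer (Cfsg.thompsonSubgroupOf 2 T : Set G) :=
  Subgroup.mem_normalizer_iff_map_conj_eq.mpr (by
    show (Cfsg.thompsonSubgroupOf 2 T).map (MulAut.conj g).toMonoidHom = _
    rw [← jOf_conj, map_conj_eq_self hg])

/-- The straddle relative to the maximal 2-local over a component, for a Sylow `T`. -/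
theorem straddle_uMax (hO : Cfsg.pCore 2 G = ⊥) {K : Subgroup G} (hK : K ∈ Cfsg.jComponentsOutside M T)
    {R : Sylow 2 G} (hTR : T = R)
    (hNJ : Subgroup.normalizer (Cfsg.thompsonSubgroupOf 2 T : Set G) ≤ uMax T K) :
    Straddle R (uMax T K) T := by
  subst hTR
  exact straddle_self h.hyp hO R h.ne_bot (h.uMax_max hK.1.1 hK.2.1).1 hNJ
    (not_jOf_le_pCoreOf hK.1.1 (le_sup_left.trans (h.outside_data hK).1))

theorem le_normalizer (hO : Cfsg.pCore 2 G = ⊥) {K : Subgroup G} (hK : K ∈ Cfsg.jComponentsOutside M T) :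
    T ≤ Subgroup.normalizer (K : Set G) := by
  have : Fact (Nat.Prime 2) := ⟨Nat.prime_two⟩
  obtain ⟨R, hTR⟩ := h.isPGroup.exists_le_sylow
  by_cases hne : T = R
  swap
  · exact h.le_normalizer_of_not_sylow hK hTR hne
  obtain ⟨hle, hsyl, hs, -⟩ := h.outside_data hK
  have hKc := hK.1.1
  have hKM := hK.2.1
  intro x hx
  by_contra hxK
  set L := uMax T K with hLdef
  have hxJ := jOf_normalized T hx
  set K₁ := K.map (MulAut.conj x).toMonoidHom with hK₁def
  obtain ⟨hK₁, hK₁L⟩ := hs.conj_comp hKc (le_sup_left.trans hle) (hle (Subgroup.mem_sup_right hx))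
  have hK₁M : ¬ K₁ ≤ M := not_le_map (h.le_M hx) hKM
  have hK₁ne : K₁ ≠ K := fun e => hxK (Subgroup.mem_normalizer_iff_map_conj_eq.mpr e)
  by_cases hNJ : Subgroup.normalizer (Cfsg.thompsonSubgroupOf 2 T : Set G) ≤ L
  swap
  · obtain ⟨g, hg, hgL⟩ := SetLike.not_le_iff_exists.mp hNJ
    exact h.four_comp hKc hKM hK₁ hK₁M hK₁L hK₁ne hg hgL
  have h' := h.straddle_uMax hO hK hne hNJ
  obtain ⟨K₂, hK₂⟩ := h'.exists_outside
  obtain ⟨hmax, hJle⟩ := h.uMax_max hKc hKM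
  have hLK₁ : L = uMax T K₁ := h.max_eq hK₁ hK₁M hmax (sup_le hK₁L (le_sup_right.trans hJle))
  have hdis : ∀ A B : Subgroup G, Cfsg.IsJComponent T A → ¬ A ≤ M → uMax T A = L → ¬ B ≤ L →
      zc T A ⊓ zc T B = ⊥ := fun A B hA hAM hAU hBL =>
    zc_inf_eq_bot h.isPGroup fun N hN h1 h2 =>
      hBL ((le_sup_left.trans h2).trans (hAU ▸ h.le_uMax hA hAM hN h1))
  obtain ⟨hWW, hKW₁⟩ := hs.wOf_disjoint hKc (le_sup_left.trans hle) hK₁ hK₁L hK₁ne
  obtain ⟨-, hK₁W⟩ := hs.wOf_disjoint hK₁ hK₁L hKc (le_sup_left.trans hle) (Ne.symm hK₁ne)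
  obtain ⟨w, hwz, hw, hw1⟩ := exists_ne_one_z0_w h.isPGroup hKc
  obtain ⟨w₁, hw₁z, hw₁, hw₁1⟩ := exists_ne_one_z0_w h.isPGroup hK₁
  have hc : w₁ ∈ zc T K := ⟨hw₁z, Subgroup.le_centralizer_iff.mp hKW₁ hw₁⟩
  have hc₁ : w ∈ zc T K₁ := ⟨hwz, Subgroup.le_centralizer_iff.mp hK₁W hw⟩
  have hww : w₁ ≠ w := fun e => hw1 (Subgroup.mem_bot.mp (hWW ▸ ⟨hw, e ▸ hw₁⟩))
  have e0 := h.z0_card_eq hKc hKM
  have e1 := zc_card_mul_le (hdis K K₂ hKc hKM rfl hK₂.2.1)
  have e2 := h'.z0_card_eq hK₂.1.1 hK₂.2.1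
  have h2 : Nat.card (zc T K) ≤ 2 := by
    have : 0 < Nat.card (zc T K) := Nat.card_pos
    nlinarith
  have h2' : 2 ≤ Nat.card (zc T K) := by
    have : Nontrivial (zc T K) := ⟨⟨w₁, hc⟩, 1, fun e => hw₁1 (congrArg Subtype.val e)⟩
    exact Finite.one_lt_card
  have : Nontrivial (zc T K₂) := Finite.one_lt_card_iff_nontrivial.mp (by omega)
  obtain ⟨⟨d, hd⟩, hd1⟩ := exists_ne (1 : zc T K₂)
  have hd1' : d ≠ 1 := fun e => hd1 (Subtype.ext e)
  have hthird : ∀ B : Subgroup G, ¬ B ≤ L → ∀ v ∈ zc T B, v ≠ 1 → v = w₁ * w := by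
    intro B hBL v hv hv1
    rcases h.z0_cases hKc h2 hc hw₁1 hwz hw hw1 hv.1 with e | e | e | e
    · exact absurd e hv1
    · exact absurd (Subgroup.mem_bot.mp (hdis K B hKc hKM rfl hBL ▸ ⟨e ▸ hc, hv⟩)) hv1
    · exact absurd (Subgroup.mem_bot.mp (hdis K₁ B hK₁ hK₁M hLK₁.symm hBL ▸ ⟨e ▸ hc₁, hv⟩)) hv1
    · exact e
  have hde := hthird K₂ hK₂.2.1 d hd hd1'
  have hdT : ∀ t ∈ T, t * d = d * t := fun t ht => by
    have htL := hle (Subgroup.mem_sup_right ht)
    have := hthird _ (not_le_map htL hK₂.2.1) (t * d * t⁻¹)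
      (by rw [zc_conj (jOf_normalized T ht)]; exact conj_mem_map hd) (fun e => hd1' (conj_eq_one_iff.mp e))
    exact mul_inv_eq_iff_eq_mul.mp (this.trans hde.symm)
  have hxw : x * w₁ * x⁻¹ = w := by
    have hm : x * w₁ * x⁻¹ ∈ zc T K₁ := by rw [zc_conj hxJ]; exact conj_mem_map hc
    refine (eq_one_or_eq_of_card_le ?_ hc₁ hw1 hm).resolve_left fun e => hw₁1 (conj_eq_one_iff.mp e)
    rw [zc_conj hxJ, Subgroup.card_map_of_injective (MulAut.conj x).injective]
    exact h2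
  refine hK₂.2.1 (le_trans ?_ hNJ)
  refine le_trans ?_ (fun g hg => Straddle.mem_normJ hg)
  subst hne
  refine le_trans ?_ (h.hyp.cent R)
  rw [Subgroup.le_centralizer_iff]
  intro z hz
  obtain ⟨-, hzc, -⟩ := mem_omegaCenterOf.mp hz
  rcases h.z0_cases hKc h2 hc hw₁1 hwz hw hw1 (omega_le_z0 _ hz) with e | e | e | e
  · rw [e]; exact one_mem _
  · exfalso
    rw [e] at hzc
    exact hww (hxw ▸ mul_inv_eq_iff_eq_mul.mpr (hzc x hx)).symm
  · exfalso
    rw [e, ← hxw] at hzc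
    have hh := mul_inv_eq_iff_eq_mul.mpr (hzc x hx)
    exact hww ((mul_left_cancel (mul_right_cancel hh)).symm.trans hxw)
  · rw [e, ← hde]; exact hd.2

theorem side' (hO : Cfsg.pCore 2 G = ⊥) {K : Subgroup G} (hK : K ∈ Cfsg.jComponentsOutside M T) : Side T K :=
  h.side hK (h.le_normalizer hO hK)

theorem maxData {K : Subgroup G} (hK : Cfsg.IsJComponent T K) (hKM : ¬ K ≤ M) (hle : K ⊔ T ≤ uMax T K) :
    MaxData T K :=
  ⟨uMax T K, (h.uMax_max hK hKM).1, hle, (h.sylow_of_le (h.uMax_max hK hKM).1.1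
    (fun hl => hKM ((le_sup_left.trans hle).trans hl)) (le_sup_right.trans hle)).1,
    fun L' hL' hKL' => h.max_eq hK hKM hL' ((sup_le_sup_left (jOf_le T) K).trans hKL')⟩

/-- A second component forming a pair with a given one. -/
theorem exists_pair_with (hO : Cfsg.pCore 2 G = ⊥) {K : Subgroup G} (hK : K ∈ Cfsg.jComponentsOutside M T) :
    ∃ K₂ : Subgroup G, Pair T K K₂ ∧ MaxData T K ∧ MaxData T K₂ := by
  have : Fact (Nat.Prime 2) := ⟨Nat.prime_two⟩
  have hKc := hK.1.1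
  have hKM := hK.2.1
  obtain ⟨hle, hsyl, -, -⟩ := h.outside_data hK
  by_cases hg : ∃ g ∈ Subgroup.normalizer (T : Set G), g ∉ uMax T K
  · obtain ⟨g, hgN, hgL⟩ := hg
    refine ⟨_, h.pair_conj hK (h.le_normalizer hO hK) hgN hgL, h.maxData hKc hKM hle,
      h.maxData (isJComponent_normJ hKc (Straddle.mem_normJ hgN)) (not_le_map (h.normalizer_jOf_le (Straddle.mem_normJ hgN)) hKM) ?_⟩
    rw [h.uMax_map hKc hKM (Straddle.mem_normJ hgN)]
    have := Subgroup.map_mono (f := (MulAut.conj g).toMonoidHom) hle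
    rwa [Subgroup.map_sup, map_conj_eq_self hgN] at this
  push Not at hg
  obtain ⟨R, hTR⟩ := h.isPGroup.exists_le_sylow
  have hne : T = R := by
    by_contra hne
    obtain ⟨g, -, hgN, hgL⟩ := exists_mem_normalizer_not_mem hsyl hTR hne
    exact hgL (hg g hgN)
  have s := h.side' hO hK
  have hNJ : Subgroup.normalizer (Cfsg.thompsonSubgroupOf 2 T : Set G) ≤ uMax T K := by
    intro g hgJ
    by_contra hgL
    refine hgL (hg g ?_)
    have hdis := zc_inf_eq_bot (K := K) (K₂ := K.map (MulAut.conj g).toMonoidHom) h.isPGroup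
      (h.no_common_conj hKc hKM hgJ hgL)
    have h2 : Nat.card (zc T K) ≤ 2 := by
      have e1 := zc_card_mul_le hdis
      rw [h.z0_card_eq hKc hKM, zc_conj hgJ, Subgroup.card_map_of_injective (MulAut.conj g).injective] at e1
      exact Nat.le_of_mul_le_mul_right e1 Nat.card_pos
    -- `T` centralises `Ω₁(Z(J(T)))`
    have hTZ : ∀ t ∈ T, ∀ z ∈ Cfsg.omegaCenterOf (Cfsg.thompsonSubgroupOf 2 T), t * z = z * t := by
      intro t ht
      have hle' : Cfsg.omegaCenterOf (Cfsg.thompsonSubgroupOf 2 T) ≤ Subgroup.centralizer {t} := by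
        conv_lhs => rw [← s.z0_split]
        obtain ⟨w, -, -, -, huniq, hwf⟩ := s.exists_w
        refine sup_le (fun a ha => Subgroup.mem_centralizer_singleton_iff.mpr ?_)
          (fun a ha => Subgroup.mem_centralizer_singleton_iff.mpr ?_)
        · by_cases ha1 : a = 1
          · simp [ha1]
          · exact (mul_inv_eq_iff_eq_mul.mp ((eq_one_or_eq_of_card_le h2 ha ha1
              ((Subgroup.mem_normalizer_iff.mp (s.T_le_normalizer_zc ht) a).mp ha)).resolve_left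
              fun e => ha1 (conj_eq_one_iff.mp e))).symm
        · rcases huniq a ha.2 ha.1 with rfl | rfl
          · simp
          · exact (mul_inv_eq_iff_eq_mul.mp (hwf t ht)).symm
      exact fun z hz => (Subgroup.mem_centralizer_singleton_iff.mp (hle' hz)).symm
    subst hne
    have hTg : (R : Subgroup G).map (MulAut.conj g).toMonoidHom ≤ Subgroup.normalizer ((R : Subgroup G) : Set G) := by
      rintro _ ⟨t, ht, rfl⟩
      refine h.hyp.cent R (Subgroup.mem_centralizer_iff.mpr fun z hz => ?_)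
      have hz' : g⁻¹ * z * g ∈ Cfsg.omegaCenterOf (Cfsg.thompsonSubgroupOf 2 (R : Subgroup G)) := by
        have := omega_le_z0 _ hz
        rw [← map_conj_eq_self hgJ, omegaCenterOf_conj] at this
        exact mem_map_conj.mp this
      have := hTZ t ht _ hz'
      show z * (g * t * g⁻¹) = g * t * g⁻¹ * z
      calc z * (g * t * g⁻¹) = g * ((g⁻¹ * z * g) * t) * g⁻¹ := by group
        _ = g * (t * (g⁻¹ * z * g)) * g⁻¹ := by rw [this]
        _ = g * t * g⁻¹ * z := by group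
    have hsup := R.is_maximal' ((R.2.map _).to_sup_of_normal_right' R.2 hTg) le_sup_right
    refine Subgroup.mem_normalizer_iff_map_conj_eq.mpr (Subgroup.eq_of_le_of_card_ge
      (le_sup_left.trans hsup.le) ?_)
    exact (Subgroup.card_map_of_injective (MulAut.conj g).injective).ge
  have h' := h.straddle_uMax hO hK hne hNJ
  obtain ⟨K₂, hK₂⟩ := h'.exists_outside
  exact ⟨K₂, ⟨s, h'.side' hO hK₂, fun N hN h1 h2 => hK₂.2.1 ((le_sup_left.trans h2).trans
    (h.le_uMax hKc hKM hN ((sup_le_sup_left (jOf_le T) K).trans h1)))⟩,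
    h.maxData hKc hKM hle, h'.maxData hK₂.1.1 hK₂.2.1 (h'.outside_data hK₂).1⟩

/-- Two components forming a pair, each in a unique maximal 2-local. -/
theorem exists_pair (hO : Cfsg.pCore 2 G = ⊥) :
    ∃ K K₂ : Subgroup G, Pair T K K₂ ∧ MaxData T K ∧ MaxData T K₂ := by
  obtain ⟨K, hK⟩ := h.exists_outside
  exact ⟨K, h.exists_pair_with hO hK⟩

end Straddle

end Cfsg.Agent.JComp
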