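import Cfsg.Agent.Lib.JComp.Outside

/-!
Properties of the groups `⟨K, T⟩` of a pair.

* `Side.inf_T`, `Side.card_P`, `Side.relIndex_q`, `Side.cent_q`, `Pair.core_eq_bot`, `Pair.ne`, `Pair.props`
-/

set_option autoImplicit false

namespace Cfsg.Agent.JComp

open Cfsg.Agent.PLocal
open scoped commutatorElement

variable {G : Type*} [Group G] [Finite G]

namespace Side

variable {T K : Subgroup G} (s : Side T K)
include s

theorem inf_T : K ⊓ T = Cfsg.pCoreOf 2 K := by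
  refine le_antisymm (fun g hg => ?_) (le_inf (Cfsg.Agent.LargeSub.pCoreOf_le K) s.core_le)
  obtain ⟨y, hy, hy3, hdec, -⟩ := s.exists_y
  obtain ⟨i, hi⟩ := hdec g hg.1
  have hyT : y ^ i ∈ T := by
    have := T.mul_mem hg.2 (T.inv_mem (s.core_le hi))
    simpa using this
  obtain ⟨n, hn⟩ := pow_two_of_mem s.twoGroup hyT
  have h3 : (y ^ i) ^ 3 = 1 := by rw [← pow_mul, mul_comm, pow_mul, hy3, one_pow]
  have h1 : y ^ i = 1 := orderOf_eq_one_iff.mp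
    (Nat.eq_one_of_dvd_coprimes ((Nat.Coprime.pow_left n (by decide : Nat.Coprime 2 3)))
      (orderOf_dvd_of_pow_eq_one hn) (orderOf_dvd_of_pow_eq_one h3))
  rwa [h1, inv_one, one_mul] at hi

theorem card_P : Nat.card ↥(K ⊔ T) = 3 * Nat.card T := by
  have h := card_sup_mul_card_inf (H := K) (K := T) s.norm
  rw [s.inf_T] at h
  have h3 := s.comp.2.2.1
  have hK : 3 * Nat.card ↥(Cfsg.pCoreOf 2 K) = Nat.card K := by
    have := Subgroup.relIndex_mul_relIndex ⊥ (Cfsg.pCoreOf 2 K) K bot_le (Cfsg.Agent.LargeSub.pCoreOf_le K)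
    rw [Subgroup.relIndex_bot_left, Subgroup.relIndex_bot_left, h3] at this
    omega
  have hpos : 0 < Nat.card ↥(Cfsg.pCoreOf 2 K) := Nat.card_pos
  refine Nat.eq_of_mul_eq_mul_right hpos (h.trans ?_)
  rw [← hK]; ring

theorem relIndex_q : (Cfsg.pCoreOf 2 (K ⊔ T)).relIndex (K ⊔ T) = 6 := by
  have h := Subgroup.relIndex_mul_relIndex ⊥ (Cfsg.pCoreOf 2 (K ⊔ T)) (K ⊔ T) bot_le
    (Cfsg.Agent.LargeSub.pCoreOf_le _)
  rw [Subgroup.relIndex_bot_left, Subgroup.relIndex_bot_left, s.card_P, s.card_q] at h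
  have hpos : 0 < Nat.card ↥(Cfsg.pCoreOf 2 (K ⊔ T)) := Nat.card_pos
  exact Nat.eq_of_mul_eq_mul_left hpos (h.trans (by ring))

theorem cent_q : Subgroup.centralizer (Cfsg.pCoreOf 2 (K ⊔ T) : Set G) ≤ Cfsg.pCoreOf 2 (K ⊔ T) := by
  obtain ⟨N, hN, hP⟩ := s.exists_local
  have hs := s.setup hN hP
  have hle : Cfsg.pCoreOf 2 N ≤ Cfsg.pCoreOf 2 (K ⊔ T) := Cfsg.Agent.LargeSub.le_pCoreOf
    (hs.q_le.trans le_sup_right) (hP.trans (Cfsg.Agent.LargeSub.self_le_normalizer_pCoreOf N))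
    (Cfsg.Agent.LargeSub.isPGroup_pCoreOf N)
  exact ((Subgroup.centralizer_le (SetLike.coe_subset_coe.mpr hle)).trans (s.hyp.cent_le hN)).trans hle

end Side

namespace Pair

variable {T K K' : Subgroup G} (p : Pair T K K')
include p

omit [Finite G] in
theorem ne : K ≠ K' := fun e => by
  obtain ⟨N, hN, hle⟩ := p.left.exists_local
  exact p.no_common N hN hle (e ▸ hle)

omit [Finite G] in
theorem core_eq_bot : Cfsg.pCoreOf 2 ((K ⊔ T) ⊔ (K' ⊔ T)) = ⊥ := by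
  by_contra h
  exact p.no_common _ ⟨_, Cfsg.Agent.LargeSub.isPGroup_pCoreOf _, h, rfl⟩
    (le_sup_left.trans (Cfsg.Agent.LargeSub.self_le_normalizer_pCoreOf _))
    (le_sup_right.trans (Cfsg.Agent.LargeSub.self_le_normalizer_pCoreOf _))

theorem props :
    Subgroup.centralizer (Cfsg.pCoreOf 2 (K ⊔ T) : Set G) ≤ Cfsg.pCoreOf 2 (K ⊔ T) ∧
      Cfsg.IsSylowTwoIn T (K ⊔ T) ∧ (Cfsg.pCoreOf 2 (K ⊔ T)).relIndex (K ⊔ T) = 6 ∧
      ¬ ⁅K ⊔ T, K ⊔ T⁆ ≤ Cfsg.pCoreOf 2 (K ⊔ T) ∧ ⁅Cfsg.omegaCenterOf T, K ⊔ T⁆ ≠ ⊥ := by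
  refine ⟨p.left.cent_q, p.left.sylow_P, p.left.relIndex_q, fun hle => ?_, fun hbot => ?_⟩
  · refine not_le_twoGroup p.left.comp (Cfsg.Agent.LargeSub.isPGroup_pCoreOf (p := 2) (K ⊔ T)) (le_trans ?_ hle)
    refine le_of_eq_of_le p.left.comp.2.1.symm ?_
    exact Subgroup.commutator_mono le_sup_left ((jOf_le T).trans le_sup_right)
  · obtain ⟨w, hw, hw1, hwz, -⟩ := p.left.exists_w
    obtain ⟨y, hy, -, -, hfp⟩ := p.left.exists_y
    refine hw1 (hfp w hw (mul_inv_eq_iff_eq_mul.mpr ?_))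
    have h := Subgroup.commutator_mem_commutator (p.z0_eq ▸ hwz : w ∈ Cfsg.omegaCenterOf T)
      (Subgroup.mem_sup_left hy : y ∈ K ⊔ T)
    rw [hbot, Subgroup.mem_bot, commutatorElement_eq_one_iff_mul_comm] at h
    exact h.symm

end Pair

end Cfsg.Agent.JComp
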