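import Cfsg.Agent.Lib.JComp.Crit

/-!
The four-groups of two components that share no 2-local do not commute.

* `Adj`, `Walk`, `vW`; `AllComm.walk_le`, `Pair.exists_noncomm`, `Pair.small`
-/

set_option autoImplicit false

namespace Cfsg.Agent.JComp

open Cfsg.Agent.PLocal

variable {G : Type*} [Group G]

/-- Adjacent groups `⟨K, T⟩`, `⟨K', T⟩` with `|T| = n`. -/
def Adj (n : ℕ) (P P' : Subgroup G) : Prop :=
  ∃ T K K' : Subgroup G, Pair T K K' ∧ Nat.card T = n ∧ P = K ⊔ T ∧ P' = K' ⊔ T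

/-- Walks along `Adj`. -/
inductive Walk (n : ℕ) : ℕ → Subgroup G → Subgroup G → Prop
  | nil (P : Subgroup G) : Walk n 0 P P
  | cons {m : ℕ} {P P' P'' : Subgroup G} : Adj n P P' → Walk n m P' P'' → Walk n (m + 1) P P''

/-- The four-group attached to `⟨K, T⟩`. -/
def vW (P : Subgroup G) : Subgroup G := Cfsg.wOf (oddOf P)

variable [Finite G] {n : ℕ}

omit [Finite G] in
theorem Adj.symm {P P' : Subgroup G} (h : Adj n P P') : Adj n P' P := by
  obtain ⟨T, K, K', p, hn, h1, h2⟩ := h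
  exact ⟨T, K', K, p.symm, hn, h2, h1⟩

theorem Adj.map {P P' : Subgroup G} (h : Adj n P P') (g : G) :
    Adj n (P.map (MulAut.conj g).toMonoidHom) (P'.map (MulAut.conj g).toMonoidHom) := by
  obtain ⟨T, K, K', p, hn, rfl, rfl⟩ := h
  exact ⟨_, _, _, p.conj g, (Subgroup.card_map_of_injective (MulAut.conj g).injective).trans hn,
    Subgroup.map_sup _ _ _, Subgroup.map_sup _ _ _⟩

omit [Finite G] in
theorem Walk.snoc {m : ℕ} {P P' P'' : Subgroup G} (h : Walk n m P P') (h' : Adj n P' P'') :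
    Walk n (m + 1) P P'' := by
  induction h with
  | nil P => exact .cons h' (.nil _)
  | cons ha _ ih => exact .cons ha (ih h')

omit [Finite G] in
theorem Walk.reverse {m : ℕ} {P P' : Subgroup G} (h : Walk n m P P') : Walk n m P' P := by
  induction h with
  | nil P => exact .nil P
  | cons ha _ ih => exact ih.snoc ha.symm

omit [Finite G] in
theorem Walk.exists_last {m : ℕ} {P P'' : Subgroup G} (h : Walk n (m + 1) P P'') :
    ∃ P', Walk n m P P' ∧ Adj n P' P'' := by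
  cases h.reverse with
  | cons ha hw => exact ⟨_, hw.reverse, ha.symm⟩

theorem Walk.map {m : ℕ} {P P' : Subgroup G} (h : Walk n m P P') (g : G) :
    Walk n m (P.map (MulAut.conj g).toMonoidHom) (P'.map (MulAut.conj g).toMonoidHom) := by
  induction h with
  | nil P => exact .nil _
  | cons ha _ ih => exact .cons (ha.map g) ih

omit [Finite G] in
theorem oddOf_map (g : G) (P : Subgroup G) :
    oddOf (P.map (MulAut.conj g).toMonoidHom) = (oddOf P).map (MulAut.conj g).toMonoidHom := by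
  rw [oddOf, oddOf, MonoidHom.map_closure]
  congr 1
  ext x
  constructor
  · rintro ⟨⟨v, hv, rfl⟩, ho⟩
    refine ⟨v, ⟨hv, ?_⟩, rfl⟩
    rwa [orderOf_injective _ (MulAut.conj g).injective] at ho
  · rintro ⟨v, ⟨hv, ho⟩, rfl⟩
    refine ⟨⟨v, hv, rfl⟩, ?_⟩
    rwa [orderOf_injective _ (MulAut.conj g).injective]

theorem vW_map (g : G) (P : Subgroup G) :
    vW (P.map (MulAut.conj g).toMonoidHom) = (vW P).map (MulAut.conj g).toMonoidHom := by
  rw [vW, oddOf_map, wOf_conj, vW]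

omit [Finite G] in
theorem Walk.eq_of_zero {P P' : Subgroup G} (h : Walk n 0 P P') : P = P' := by
  cases h
  rfl

/-- Along a walk the four-group of one end lies in the 2-core of the other. -/
theorem AllComm.walk_le (hc : AllComm G n) :
    ∀ {m : ℕ} {a b : Subgroup G}, Walk n m a b → m ≠ 0 → vW a ≤ Cfsg.pCoreOf 2 b := by
  intro m
  induction m using Nat.strong_induction_on with
  | _ m ih =>
    intro a b hw hm
    obtain _ | ⟨hab, hw'⟩ := hw
    · exact absurd rfl hm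
    rename_i k a₁
    obtain ⟨T, K₀, K, p₀, hn, rfl, rfl⟩ := hab
    rw [vW, p₀.left.oddOf_eq]
    rcases k with - | k
    · rw [← hw'.eq_of_zero]
      exact hc.w_le p₀ hn
    obtain ⟨b', hw'', T', L', L, q, hn', rfl, rfl⟩ := hw'.exists_last
    intro x hx
    have hk : k + 1 < k + 1 + 1 := Nat.lt_succ_self _
    have h1 : Cfsg.wOf K₀ ≤ Cfsg.pCoreOf 2 (L' ⊔ T') := by
      have := ih (k + 1) hk (Walk.cons (P := K₀ ⊔ T) ⟨T, K₀, K, p₀, hn, rfl, rfl⟩ hw'') k.succ_ne_zero
      rwa [vW, p₀.left.oddOf_eq] at this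
    have h2 : Cfsg.wOf L ≤ Cfsg.pCoreOf 2 (K ⊔ T) := by
      have := ih (k + 1) hk hw'.reverse k.succ_ne_zero
      rwa [vW, q.right.oddOf_eq] at this
    refine q.right.mem_q.mpr ⟨q.left.q_le_T (h1 hx), fun u hu => ?_⟩
    by_contra hne
    have hxu : x * u ≠ u * x := fun h => hne h.symm
    have hW : Cfsg.wOf K₀ ≤ Cfsg.pCoreOf 2 (K ⊔ T) := hc.w_le p₀ hn
    have hW' : Cfsg.wOf L ≤ Cfsg.pCoreOf 2 (L' ⊔ T') := hc.w_le q.symm hn'
    rcases k with - | k
    · -- two edges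
      have e0 := hw''.eq_of_zero
      have e : L' = K := by rw [← q.left.oddOf_eq, ← p₀.right.oddOf_eq, e0]
      subst e
      exact hc.false_of_crit p₀.symm q hn hn' e0.symm hx hu hxu
    -- the commutator is central at both ends
    have hS : ∀ g ∈ K, (Cfsg.wOf K₀).map (MulAut.conj g).toMonoidHom ≤ T' := by
      intro g hg
      have hA : Adj n ((K₀ ⊔ T).map (MulAut.conj g).toMonoidHom) (K ⊔ T) := by
        have h := (show Adj n (K₀ ⊔ T) (K ⊔ T) from ⟨T, K₀, K, p₀, hn, rfl, rfl⟩).map g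
        rwa [map_conj_eq_self (Subgroup.le_normalizer (Subgroup.mem_sup_left hg : g ∈ K ⊔ T))] at h
      have := ih (k + 1 + 1) hk (Walk.cons hA hw'') (Nat.succ_ne_zero _)
      rw [vW_map, vW, p₀.left.oddOf_eq] at this
      exact this.trans q.left.q_le_T
    have hS' : ∀ g ∈ L', (Cfsg.wOf L).map (MulAut.conj g).toMonoidHom ≤ T := by
      intro g hg
      have hA : Adj n ((L ⊔ T').map (MulAut.conj g).toMonoidHom) (L' ⊔ T') := by
        have h := (show Adj n (L ⊔ T') (L' ⊔ T') from ⟨T', L, L', q.symm, hn', rfl, rfl⟩).map g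
        rwa [map_conj_eq_self (Subgroup.le_normalizer (Subgroup.mem_sup_left hg : g ∈ L' ⊔ T'))] at h
      have := ih (k + 1 + 1) hk (Walk.cons hA hw''.reverse) (Nat.succ_ne_zero _)
      rw [vW_map, vW, q.right.oddOf_eq] at this
      exact this.trans p₀.right.q_le_T
    have c1 := p₀.symm.central_of_move hW q.right hS hx hu (h2 hu) hxu
    have c2 := q.central_of_move hW' p₀.left hS' hu hx (h1 hx) (fun h => hxu h.symm)
    have c2' : x * u * x⁻¹ * u⁻¹ ∈ zc T' L' := by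
      have := inv_mem c2
      rwa [show (u * x * u⁻¹ * x⁻¹)⁻¹ = x * u * x⁻¹ * u⁻¹ by group] at this
    have hne1 : x * u * x⁻¹ * u⁻¹ ≠ 1 := fun h => hxu (commutatorElement_eq_one_iff_mul_comm.mp h)
    have heq : L' ⊔ T' = K ⊔ T := p₀.symm.same_of_center q c1 c2' hne1
    have hA₂ : Adj n (K ⊔ T) (L ⊔ T') := heq ▸ ⟨T', L', L, q, hn', rfl, rfl⟩
    have := ih 2 (by omega) (Walk.cons (P := K₀ ⊔ T) ⟨T, K₀, K, p₀, hn, rfl, rfl⟩ (Walk.cons hA₂ (.nil _))) two_ne_zero
    rw [vW, p₀.left.oddOf_eq] at this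
    exact hne ((q.right.mem_q.mp (this hx)).2 u hu)

/-- The four-groups of a pair do not commute. -/
theorem Pair.exists_noncomm {T K K' : Subgroup G} (p : Pair T K K') :
    ∃ a ∈ Cfsg.wOf K, ∃ b ∈ Cfsg.wOf K', a * b ≠ b * a := by
  by_contra hno
  have h16 : 16 < Nat.card T := not_le.mp fun h => hno (p.not_commute_of_small h)
  have hc : AllComm G (Nat.card T) := fun S L L' q hn a ha b hb => by
    by_contra hab
    obtain ⟨-, -, -, h4⟩ := q.small_data ha hb hab
    have := q.z0_card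
    omega
  set n := Nat.card T
  set U : Subgroup G := ⨆ v : {v : Subgroup G // ∃ m, Walk n m (K ⊔ T) v}, vW v.1 with hU
  have hUT : U ≤ T := iSup_le fun ⟨v, m, hw⟩ => by
    rcases m with - | m
    · cases hw
      rw [vW, p.left.oddOf_eq]
      exact p.left.w_le_T
    · exact (hc.walk_le hw.reverse m.succ_ne_zero).trans p.left.q_le_T
  have hWU : Cfsg.wOf K ≤ U := by
    have h := le_iSup (fun v : {v : Subgroup G // ∃ m, Walk n m (K ⊔ T) v} => vW v.1) ⟨K ⊔ T, 0, .nil _⟩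
    simp only [vW, p.left.oddOf_eq] at h
    exact h
  have hnorm : ∀ g : G, (∀ m v, Walk n m (K ⊔ T) v →
      ∃ m', Walk n m' (K ⊔ T) (v.map (MulAut.conj g).toMonoidHom)) → g ∈ Subgroup.normalizer (U : Set G) := by
    intro g hg
    refine Subgroup.mem_normalizer_iff_map_conj_eq.mpr (Subgroup.eq_of_le_of_card_ge ?_
      (Subgroup.card_map_of_injective (MulAut.conj g).injective).ge)
    rw [hU, Subgroup.map_iSup]
    refine iSup_le fun ⟨v, m, hw⟩ => ?_
    show (vW v).map (MulAut.conj g).toMonoidHom ≤ _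
    rw [← vW_map]
    exact le_iSup (fun v : {v : Subgroup G // ∃ m, Walk n m (K ⊔ T) v} => vW v.1) ⟨_, hg m v hw⟩
  have hA : Adj n (K ⊔ T) (K' ⊔ T) := ⟨T, K, K', p, rfl, rfl, rfl⟩
  obtain ⟨w, hw, hw1, -⟩ := p.left.exists_w
  refine p.false_of_normalized hUT (fun h => hw1 (Subgroup.mem_bot.mp (h ▸ hWU hw))) (fun g hg => ?_) fun g hg => ?_
  · refine hnorm g fun m v hw => ⟨m, ?_⟩
    have := hw.map g
    rwa [map_conj_eq_self (Subgroup.le_normalizer hg)] at this
  · refine hnorm g fun m v hw => ⟨m + 1 + 1, .cons hA (.cons ?_ (hw.map g))⟩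
    have := hA.symm.map g
    rwa [map_conj_eq_self (Subgroup.le_normalizer hg)] at this

/-- The structure of a pair. -/
theorem Pair.small {T K K' : Subgroup G} (p : Pair T K K') :
    Cfsg.pCoreOf 2 (K ⊔ T) ⊓ Cfsg.pCoreOf 2 (K' ⊔ T) = Cfsg.omegaCenterOf (Cfsg.thompsonSubgroupOf 2 T) ∧
      Cfsg.IsElementaryAbelian 2 (Cfsg.pCoreOf 2 (K ⊔ T)) ∧
      Nat.card ↥(Cfsg.pCoreOf 2 (K ⊔ T)) = 2 * Nat.card ↥(Cfsg.omegaCenterOf (Cfsg.thompsonSubgroupOf 2 T)) ∧
      Nat.card T = 4 * Nat.card ↥(Cfsg.omegaCenterOf (Cfsg.thompsonSubgroupOf 2 T)) := by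
  obtain ⟨a, ha, b, hb, hab⟩ := p.exists_noncomm
  exact p.small_data ha hb hab

end Cfsg.Agent.JComp
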