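import Cfsg.Agent.Lib.JComp.Factor

/-!
Lifts of transvections to a group `H` acting on `V` with kernel centralising a normal subgroup `N`
generated by involutions inducing transvections, the kernel being free of involutions.

* `IsLift`, `Cover`, `Root`: a root is an element of order 3 of `N` above a factor inverted by a lift
* `root_of_comm`, `exists_root`, `Root.zpowers_eq`, `Root.commute`, `lift_commute`, `lift_mul_mem`
* `fix_of_two`, `Cover.le_of_roots`
-/

set_option autoImplicit false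

namespace Cfsg.Agent.JComp

variable {X V H : Type*} [Group X] [Group V] [MulDistribMulAction X V] [Group H]
  (hV : Exp2 V) (F : Subgroup X) (f : H →* X) (N : Subgroup H)

/-- An involution of `N` inducing a transvection. -/
def IsLift (t : H) : Prop := t ∈ N ∧ t * t = 1 ∧ IsTransv hV (f t)

/-- The standing hypotheses. -/
structure Cover : Prop where
  normal : ∀ h : H, ∀ n ∈ N, h * n * h⁻¹ ∈ N
  comm : ∀ c : H, f c = 1 → ∀ n ∈ N, c * n = n * c
  sq : ∀ c : H, f c = 1 → c * c = 1 → c = 1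
  gen : N ≤ Subgroup.closure {t | IsLift hV f N t}

/-- An element of order 3 above a factor, inverted by a lift. -/
structure Root (y : H) : Prop where
  mem : y ∈ N
  factor : Factor hV F (f y)
  pow : y ^ 3 = 1
  conj : ∀ n ∈ N, n * y * n⁻¹ = y ∨ n * y * n⁻¹ = y⁻¹
  lift : ∃ a, IsLift hV f N a ∧ a * y * a⁻¹ = y⁻¹

variable {F f N}

theorem IsLift.inv_eq {t : H} (ht : IsLift hV f N t) : t⁻¹ = t := inv_eq_of_mul_eq_one_right ht.2.1

theorem mem_zpowers_three {X : Type*} [Group X] {x p : X} (hx : x ^ 3 = 1) (hp : p ∈ Subgroup.zpowers x) :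
    p = 1 ∨ p = x ∨ p = x⁻¹ := by
  obtain ⟨k, rfl⟩ := Subgroup.mem_zpowers_iff.mp hp
  have h3 : x ^ (3 : ℤ) = 1 := by
    rw [show (3 : ℤ) = ((3 : ℕ) : ℤ) by norm_num, zpow_natCast, hx]
  have : x ^ k = x ^ (k % 3) := by
    conv_lhs => rw [← Int.emod_add_ediv_mul k 3]
    rw [zpow_add, mul_comm (k / 3), zpow_mul, h3, one_zpow, mul_one]
  rw [this]
  have h0 := Int.emod_nonneg k (show (3 : ℤ) ≠ 0 by norm_num)
  have h1 := Int.emod_lt_of_pos k (show (0 : ℤ) < 3 by norm_num)
  obtain h | h | h : k % 3 = 0 ∨ k % 3 = 1 ∨ k % 3 = 2 := by omega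
  · left; rw [h, zpow_zero]
  · right; left; rw [h, zpow_one]
  · right; right
    rw [h, eq_inv_iff_mul_eq_one, ← zpow_add_one]
    exact h3

theorem ne_inv_of_three {X : Type*} [Group X] {x : X} (hx : x ^ 3 = 1) (h1 : x ≠ 1) : x ≠ x⁻¹ := fun h => by
  have h2 : x * x = 1 := mul_eq_one_iff_eq_inv.mpr h
  rw [pow_succ, pow_two, h2, one_mul] at hx
  exact h1 hx

variable [Finite X] [Finite V] [FaithfulSMul X V]

omit [Finite X] [FaithfulSMul X V] in
theorem IsLift.conj (hc : Cover hV f N) {t : H} (ht : IsLift hV f N t) (g : H) :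
    IsLift hV f N (g * t * g⁻¹) := by
  refine ⟨hc.normal g t ht.1, ?_, ?_⟩
  · rw [show g * t * g⁻¹ * (g * t * g⁻¹) = g * (t * t) * g⁻¹ by group, ht.2.1]; group
  · rw [map_mul, map_mul, map_inv]; exact ht.2.2.conj hV (f g)

omit [Finite V] [FaithfulSMul X V] in
theorem Factor.inv {x : X} (hx : Factor hV F x) : Factor hV F x⁻¹ :=
  ⟨inv_mem hx.1, by rw [inv_pow, hx.2.1, inv_one], inv_ne_one.mpr hx.2.2.1,
    by rw [moved_inv]; exact hx.2.2.2.1,
    fun g hg => ((show Commute g x from hx.2.2.2.2 g hg).inv_right).eq⟩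

omit [Finite V] [FaithfulSMul X V] in
theorem Owns.inv_factor {t x : X} (h : Owns hV F t x) : Owns hV F t x⁻¹ :=
  ⟨h.1, Factor.inv hV h.2.1, by rw [← conj_inv, h.2.2.1], by rw [moved_inv]; exact h.2.2.2.1,
    fun g hg => by rw [Subgroup.zpowers_inv]; exact h.2.2.2.2 g hg⟩

variable (hF : Good F)
include hF

/-- Lifts of transvections of different factors commute. -/
theorem lift_commute (hc : Cover hV f N) {t a : H} {x x' : X} (ht : IsLift hV f N t)
    (ha : IsLift hV f N a) (hx' : Owns hV F (f t) x') (hx : Owns hV F (f a) x)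
    (hne : moved hV x' ≠ moved hV x) : t * a = a * t := by
  have hcomm : f a * f t = f t * f a := Owns.commute hV hF hx hx' hne
  have hfc : f (t * a * t * a) = 1 := by
    rw [map_mul, map_mul, map_mul, mul_assoc (f t) (f a), hcomm, ← mul_assoc, ht.2.2.1, one_mul, ha.2.2.1]
  have hinv : a * (t * a * t * a) * a⁻¹ = (t * a * t * a)⁻¹ := by
    simp only [mul_inv_rev, IsLift.inv_eq hV ht, IsLift.inv_eq hV ha, mul_assoc, ha.2.1, mul_one]
  rw [← hc.comm _ hfc a ha.1, mul_inv_cancel_right] at hinv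
  have h1 := hc.sq _ hfc (mul_eq_one_iff_eq_inv.mpr hinv)
  have h2 := eq_inv_of_mul_eq_one_left (show t * a * (t * a) = 1 by rw [← mul_assoc]; exact h1)
  rw [mul_inv_rev, IsLift.inv_eq hV ht, IsLift.inv_eq hV ha] at h2
  exact h2

/-- Two lifts of transvections of one factor differ by a power of the root. -/
theorem lift_mul_mem (hc : Cover hV f N) {t a y : H} {x' : X} (ht : IsLift hV f N t)
    (ha : IsLift hV f N a) (hy : y ∈ N) (hinv : a * y * a⁻¹ = y⁻¹) (hx : Owns hV F (f a) (f y))
    (hx' : Owns hV F (f t) x') (heq : moved hV x' = moved hV (f y)) : t * a ∈ Subgroup.zpowers y := by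
  have h1 : f t * f a ∈ Subgroup.zpowers (f y) := by
    have := inv_mem (Owns.mul_mem_zpowers hV hF hx hx' heq)
    rwa [mul_inv_rev, inv_eq_of_mul_eq_one_right ht.2.2.1, inv_eq_of_mul_eq_one_right ha.2.2.1] at this
  obtain ⟨k, hk⟩ := Subgroup.mem_zpowers_iff.mp h1
  have hfc : f ((y ^ k)⁻¹ * (t * a)) = 1 := by
    rw [map_mul, map_inv, map_zpow, map_mul, hk, inv_mul_cancel]
  set c := (y ^ k)⁻¹ * (t * a) with hcdef
  have hta : t * a = y ^ k * c := by rw [hcdef, mul_inv_cancel_left]
  have hca := hc.comm c hfc a ha.1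
  have hcy := hc.comm c hfc _ (Subgroup.zpow_mem _ hy k)
  have h2 : a * (t * a) * a⁻¹ = (t * a)⁻¹ := by
    rw [← mul_assoc, mul_inv_cancel_right, mul_inv_rev, IsLift.inv_eq hV ht, IsLift.inv_eq hV ha]
  rw [hta] at h2 ⊢
  have h3 : a * (y ^ k * c) * a⁻¹ = (y ^ k)⁻¹ * c := by
    calc a * (y ^ k * c) * a⁻¹ = (a * y ^ k * a⁻¹) * (a * c * a⁻¹) := by group
      _ = _ := by rw [← hca, mul_inv_cancel_right, ← conj_zpow, hinv, inv_zpow]
  rw [h3, mul_inv_rev, show c⁻¹ * (y ^ k)⁻¹ = (y ^ k)⁻¹ * c⁻¹ from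
    ((show Commute c (y ^ k) from hcy).inv_left.inv_right).eq] at h2
  have h4 := hc.sq c hfc (mul_eq_one_iff_eq_inv.mpr (mul_left_cancel h2))
  rw [h4, mul_one]
  exact Subgroup.zpow_mem _ (Subgroup.mem_zpowers y) k

/-- An element inverted by a lift above its factor is a root. -/
theorem root_of_inverted (hc : Cover hV f N) {a y : H} (ha : IsLift hV f N a) (hy : y ∈ N)
    (hx : Owns hV F (f a) (f y)) (hinv : a * y * a⁻¹ = y⁻¹) : Root hV F f N y := by
  refine ⟨hy, hx.2.1, ?_, ?_, a, ha, hinv⟩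
  · have hfc : f (y ^ 3) = 1 := by rw [map_pow, hx.2.1.2.1]
    have h1 : a * y ^ 3 * a⁻¹ = (y ^ 3)⁻¹ := by rw [← conj_pow, hinv, inv_pow]
    rw [← hc.comm _ hfc a ha.1, mul_inv_cancel_right] at h1
    exact hc.sq _ hfc (mul_eq_one_iff_eq_inv.mpr h1)
  intro n hn
  induction hc.gen hn using Subgroup.closure_induction with
  | one => left; group
  | mul u v hu hv hu' hv' =>
    have e : u * v * y * (u * v)⁻¹ = u * (v * y * v⁻¹) * u⁻¹ := by group
    rw [e]
    have hu'' := hu' (show u ∈ N from Subgroup.closure_le _ |>.mpr (fun t ht => ht.1) hu)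
    rcases hv' (show v ∈ N from Subgroup.closure_le _ |>.mpr (fun t ht => ht.1) hv) with h | h <;> rw [h]
    · exact hu''
    · rw [← conj_inv]
      rcases hu'' with h' | h' <;> rw [h']
      · exact Or.inr rfl
      · exact Or.inl (inv_inv y)
  | inv u hu hu' =>
    rcases hu' (show u ∈ N from Subgroup.closure_le _ |>.mpr (fun t ht => ht.1) hu) with h | h
    · left; conv_lhs => rw [← h]
      group
    · right
      have h' : u * y⁻¹ * u⁻¹ = y := by rw [← conj_inv, h, inv_inv]
      conv_lhs => rw [← h']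
      group
  | mem t ht =>
    obtain ⟨x', hx'⟩ := exists_factor hV hF ht.2.2
    by_cases heq : moved hV x' = moved hV (f y)
    · right
      obtain ⟨k, hk⟩ := Subgroup.mem_zpowers_iff.mp (lift_mul_mem hV hF hc ht ha hy hinv hx hx' heq)
      have ht' : t = y ^ k * a := by rw [hk, mul_assoc, ha.2.1, mul_one]
      rw [ht']
      calc y ^ k * a * y * (y ^ k * a)⁻¹ = y ^ k * (a * y * a⁻¹) * (y ^ k)⁻¹ := by group
        _ = y⁻¹ := by rw [hinv]; group
    · left
      have hcomm := Owns.commute_factor hV hF hx' hx.2.1 (fun h => heq h.symm)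
      have hfc : f (y⁻¹ * (t * y * t⁻¹)) = 1 := by
        rw [map_mul, map_inv, map_mul, map_mul, map_inv, hcomm, mul_inv_cancel_right, inv_mul_cancel]
      set c := y⁻¹ * (t * y * t⁻¹) with hcdef
      have h1 : t * y * t⁻¹ = y * c := by rw [hcdef, mul_inv_cancel_left]
      have htc := hc.comm c hfc t ht.1
      have h2 : y = y * c * c := by
        calc y = t * (t * y * t⁻¹) * t⁻¹ := by
              simp [IsLift.inv_eq hV ht, mul_assoc, ht.2.1]
              rw [← mul_assoc t t, ht.2.1, one_mul]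
          _ = t * (y * c) * t⁻¹ := by rw [h1]
          _ = (t * y * t⁻¹) * (t * c * t⁻¹) := by group
          _ = y * c * c := by rw [h1, ← htc, mul_inv_cancel_right]
      rw [mul_assoc] at h2
      rw [h1, hc.sq c hfc (mul_eq_left.mp h2.symm), mul_one]

/-- A nontrivial commutator of a lift with an element above `F` is a root. -/
theorem root_of_comm (hc : Cover hV f N) {a g : H} (ha : IsLift hV f N a) (hg : f g ∈ F)
    (hne : f (g * a * g⁻¹ * a) ≠ 1) :
    Root hV F f N (g * a * g⁻¹ * a) ∧ Owns hV F (f a) (f (g * a * g⁻¹ * a)) ∧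
      a * (g * a * g⁻¹ * a) * a⁻¹ = (g * a * g⁻¹ * a)⁻¹ := by
  set z := g * a * g⁻¹ * a with hz
  have hzN : z ∈ N := mul_mem (hc.normal g a ha.1) ha.1
  have hinv : a * z * a⁻¹ = z⁻¹ := by
    rw [hz, ← mul_assoc, mul_inv_cancel_right]
    simp only [mul_inv_rev, inv_inv, IsLift.inv_eq hV ha, mul_assoc]
  obtain ⟨x, hx⟩ := exists_factor hV hF ha.2.2
  have hmem : f z ∈ Subgroup.zpowers x := by
    have := hx.2.2.2.2 (f g) hg
    rw [hz, map_mul, map_mul, map_mul, map_inv]
    exact this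
  have how : Owns hV F (f a) (f z) := by
    rcases mem_zpowers_three hx.2.1.2.1 hmem with h | h | h
    · exact absurd h hne
    · rw [h]; exact hx
    · rw [h]; exact Owns.inv_factor hV hx
  exact ⟨root_of_inverted hV hF hc ha hzN how hinv, how, hinv⟩

/-- Each lift inverts a root. -/
theorem exists_root (hc : Cover hV f N) (hsurj : Function.Surjective f) {a : H}
    (ha : IsLift hV f N a) : ∃ y, Root hV F f N y ∧ Owns hV F (f a) (f y) ∧ a * y * a⁻¹ = y⁻¹ := by
  by_contra hno
  push Not at hno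
  have h1 : f a ∈ F := by
    refine hF.cent fun g hg => ?_
    obtain ⟨g, rfl⟩ := hsurj g
    by_contra hne
    have hz : f (g * a * g⁻¹ * a) ≠ 1 := by
      intro h
      rw [map_mul, map_mul, map_mul, map_inv, mul_eq_one_iff_eq_inv,
        inv_eq_of_mul_eq_one_right ha.2.2.1, mul_inv_eq_iff_eq_mul] at h
      exact hne h
    obtain ⟨r1, r2, r3⟩ := root_of_comm hV hF hc ha hg hz
    exact hno _ r1 r2 r3
  have h2 := hF.eq_one_of_sq h1 ha.2.2.1
  have h3 := ha.2.2.2
  rw [h2, moved_one, Subgroup.card_bot] at h3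
  omega

omit [Finite X] [Finite V] [FaithfulSMul X V] hF in
theorem Root.ne_one {y : H} (hy : Root hV F f N y) : y ≠ 1 := fun h =>
  hy.factor.2.2.1 (by rw [h, map_one])

omit [Finite V] [FaithfulSMul X V] hF in
theorem Root.inv {y : H} (hy : Root hV F f N y) : Root hV F f N y⁻¹ := by
  refine ⟨inv_mem hy.mem, by rw [map_inv]; exact Factor.inv hV hy.factor, by rw [inv_pow, hy.pow, inv_one],
    fun n hn => ?_, ?_⟩
  · rw [← conj_inv]
    rcases hy.conj n hn with h | h <;> rw [h]
    · exact Or.inl rfl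
    · exact Or.inr rfl
  · obtain ⟨a, ha, hinv⟩ := hy.lift
    exact ⟨a, ha, by rw [← conj_inv, hinv]⟩

theorem Root.map_conj (hc : Cover hV f N) {y : H} (hy : Root hV F f N y) (g : H) :
    Root hV F f N (g * y * g⁻¹) := by
  refine ⟨hc.normal g y hy.mem, by rw [map_mul, map_mul, map_inv]; exact Factor.conj hV hF hy.factor (f g),
    by rw [conj_pow, hy.pow]; group, fun n hn => ?_, ?_⟩
  · have hn' : g⁻¹ * n * g ∈ N := by simpa using hc.normal g⁻¹ n hn
    have e : n * (g * y * g⁻¹) * n⁻¹ = g * ((g⁻¹ * n * g) * y * (g⁻¹ * n * g)⁻¹) * g⁻¹ := by group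
    rw [e]
    rcases hy.conj _ hn' with h | h <;> rw [h]
    · exact Or.inl rfl
    · exact Or.inr (by group)
  · obtain ⟨a, ha, hinv⟩ := hy.lift
    refine ⟨g * a * g⁻¹, IsLift.conj hV hc ha g, ?_⟩
    calc g * a * g⁻¹ * (g * y * g⁻¹) * (g * a * g⁻¹)⁻¹ = g * (a * y * a⁻¹) * g⁻¹ := by group
      _ = (g * y * g⁻¹)⁻¹ := by rw [hinv]; group

/-- A root is determined by its four-group. -/
theorem Root.zpowers_eq (hc : Cover hV f N) {y y' : H} (hy : Root hV F f N y) (hy' : Root hV F f N y')
    (heq : moved hV (f y') = moved hV (f y)) : y' ∈ Subgroup.zpowers y := by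
  obtain ⟨k, hk⟩ := Subgroup.mem_zpowers_iff.mp (Factor.mem_zpowers hV hF hy.factor hy'.factor heq)
  have hfc : f ((y ^ k)⁻¹ * y') = 1 := by rw [map_mul, map_inv, map_zpow, hk, inv_mul_cancel]
  set c := (y ^ k)⁻¹ * y' with hcdef
  have hy'c : y' = y ^ k * c := by rw [hcdef, mul_inv_cancel_left]
  obtain ⟨a, ha, hinv⟩ := hy.lift
  have hca := hc.comm c hfc a ha.1
  have hcy := hc.comm c hfc _ (Subgroup.zpow_mem _ hy.mem k)
  have e : a * y' * a⁻¹ = (y ^ k)⁻¹ * c := by
    have h1 : a * y ^ k * a⁻¹ = (y ^ k)⁻¹ := by rw [← conj_zpow, hinv, inv_zpow]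
    calc a * y' * a⁻¹ = a * y ^ k * a⁻¹ * (a * c) * a⁻¹ := by rw [hy'c]; group
      _ = (y ^ k)⁻¹ * c := by rw [h1, ← hca]; group
  suffices hc1 : c = 1 by rw [hy'c, hc1, mul_one]; exact Subgroup.zpow_mem _ (Subgroup.mem_zpowers y) k
  rcases hy'.conj a ha.1 with h | h
  · exfalso
    rw [e, hy'c] at h
    have h1 : (y ^ k)⁻¹ = y ^ k := mul_right_cancel h
    have h2 : f y' ≠ 1 := hy'.factor.2.2.1
    refine ne_inv_of_three hy'.factor.2.1 h2 ?_
    have h3 := congrArg f h1
    rw [map_inv, map_zpow, hk] at h3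
    exact h3.symm
  · rw [e, hy'c, mul_inv_rev, show c⁻¹ * (y ^ k)⁻¹ = (y ^ k)⁻¹ * c⁻¹ from
      ((show Commute c (y ^ k) from hcy).inv_left.inv_right).eq] at h
    exact hc.sq c hfc (mul_eq_one_iff_eq_inv.mpr (mul_left_cancel h))

omit [Finite X] [Finite V] [FaithfulSMul X V] hF in
theorem Root.commute {y y' : H} (hy : Root hV F f N y) (hy' : Root hV F f N y') : y * y' = y' * y := by
  rcases hy'.conj y hy.mem with h | h
  · exact mul_inv_eq_iff_eq_mul.mp h
  · exfalso
    have h1 := congrArg f h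
    rw [map_mul, map_mul, map_inv, map_inv, hy'.factor.2.2.2.2 _ hy.factor.1, mul_inv_cancel_right] at h1
    exact ne_inv_of_three hy'.factor.2.1 hy'.factor.2.2.1 h1

omit [Finite X] [FaithfulSMul X V] hF in
/-- A 2-element commuting with a fixed-point-free element of order 3 on a four-group fixes it. -/
theorem fix_of_two {x p : X} (hx : Odd (orderOf x)) (h4 : Nat.card (moved hV x) = 4)
    (hcomm : p * x = x * p) {n : ℕ} (hp : p ^ 2 ^ n = 1) {w : V} (hw : w ∈ moved hV x) : p • w = w := by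
  by_cases hw1 : w = 1
  · rw [hw1, smul_one]
  have hcs : ∀ u : V, p • x • u = x • p • u := fun u => by rw [← mul_smul, ← mul_smul, hcomm]
  have hpm : p • w ∈ moved hV x := smul_mem_moved hV (by rw [hcomm, mul_inv_cancel_right]) hw
  have key : ∀ q : X, (∀ u : V, p • q • u = q • p • u) → p • w = q • w → ∀ m : ℕ, p ^ m • w = q ^ m • w := by
    intro q hq h m
    induction m with
    | zero => simp
    | succ m ih =>
      rw [pow_succ, mul_smul, h]
      have : ∀ j : ℕ, p ^ j • q • w = q • p ^ j • w := fun j => by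
        induction j with
        | zero => simp
        | succ j ihj => rw [pow_succ', mul_smul, ihj, hq, ← mul_smul p]
      rw [this, ih, ← mul_smul, ← pow_succ']
  have h3 := pow_three_smul hV hx h4 hw
  have hfin : ∀ q : X, (∀ u : V, p • q • u = q • p • u) → q ^ 3 • w = w → p • w = q • w → p • w = w := by
    intro q hq hq3 h
    have hall : ∀ m : ℕ, q ^ 2 ^ m • w = w → q • w = w := by
      intro m
      induction m with
      | zero => intro h; simpa using h
      | succ m ih =>
        intro h2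
        refine ih ?_
        have h3' : ∀ j : ℕ, (q ^ 3) ^ j • w = w := fun j => by
          induction j with
          | zero => simp
          | succ j ihj => rw [pow_succ, mul_smul, hq3, ihj]
        have e : q ^ 2 ^ m • (q ^ 2 ^ (m + 1) • w) = (q ^ 3) ^ 2 ^ m • w := by
          rw [← mul_smul, ← pow_add, ← pow_mul]
          congr 2
          rw [pow_succ]; omega
        rwa [h2, h3'] at e
    have hk := key q hq h (2 ^ n)
    rw [hp, one_smul] at hk
    exact h.trans (hall n hk.symm)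
  rcases mem_four hV hx h4 hw hw1 hpm with h | h | h | h
  · exact absurd (eq_one_of_smul_eq_one h) hw1
  · exact h
  · exact hfin x hcs (by rw [pow_three, mul_smul, mul_smul, h3]) h
  · refine hfin (x * x) (fun u => by rw [mul_smul, mul_smul, hcs, hcs]) ?_ (h.trans (mul_smul x x w).symm)
    rw [pow_three, mul_smul, mul_smul, mul_smul, mul_smul, mul_smul, h3, h3]

/-- `N` permutes the lifts lying in a subgroup containing all roots. -/
theorem Cover.conj_lift_mem (hc : Cover hV f N) (hsurj : Function.Surjective f) {M : Subgroup H}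
    (hM : ∀ y, Root hV F f N y → y ∈ M) {a : H} (ha : IsLift hV f N a) (haM : a ∈ M) {n : H}
    (hn : n ∈ N) : n * a * n⁻¹ ∈ M := by
  let M' : Subgroup H := Subgroup.closure ({t | IsLift hV f N t ∧ t ∈ M} ∪ {y | Root hV F f N y})
  have hM' : M' ≤ M := (Subgroup.closure_le _).mpr (by
    rintro t (⟨-, ht⟩ | ht)
    exacts [ht, hM t ht])
  have key : ∀ t, IsLift hV f N t → ∀ z ∈ M', t * z * t⁻¹ ∈ M' := by
    intro t ht
    have hle : M' ≤ M'.comap (MulAut.conj t).toMonoidHom := by
      refine (Subgroup.closure_le _).mpr ?_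
      rintro z (⟨hz, hzM⟩ | hz)
      · show t * z * t⁻¹ ∈ M'
        obtain ⟨y, hy, how, hinv⟩ := exists_root hV hF hc hsurj hz
        obtain ⟨x', hx'⟩ := exists_factor hV hF ht.2.2
        have hzM' : z ∈ M' := Subgroup.subset_closure (Or.inl ⟨hz, hzM⟩)
        by_cases heq : moved hV x' = moved hV (f y)
        · have hle : Subgroup.zpowers y ≤ M' := Subgroup.zpowers_le.mpr (Subgroup.subset_closure (Or.inr hy))
          have htz := hle (lift_mul_mem hV hF hc ht hz hy.mem hinv how hx' heq)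
          have htM : t ∈ M' := by simpa using mul_mem htz (inv_mem hzM')
          exact mul_mem (mul_mem htM hzM') (inv_mem htM)
        · rw [lift_commute hV hF hc ht hz hx' how heq, mul_inv_cancel_right]
          exact hzM'
      · exact Subgroup.subset_closure (Or.inr (Root.map_conj hV hF hc hz t))
    exact fun z hz => hle hz
  have hN : N ≤ Subgroup.normalizer (M' : Set H) := by
    refine hc.gen.trans ((Subgroup.closure_le _).mpr fun t ht => ?_)
    rw [SetLike.mem_coe, Subgroup.mem_normalizer_iff]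
    refine fun z => ⟨key t ht z, fun h => ?_⟩
    have := key t ht _ h
    simpa [mul_assoc, IsLift.inv_eq hV ht, ← mul_assoc t t, ht.2.1] using this
  exact hM' ((Subgroup.mem_normalizer_iff.mp (hN hn) a).mp (Subgroup.subset_closure (Or.inl ⟨ha, haM⟩)))

end Cfsg.Agent.JComp
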