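import Cfsg.Agent.Lib.JComp.Conj
import Cfsg.Agent.Lib.JComp.Component

/-!
`Ω₁(Z(J(T)))` for a component `K`.

* `comp_split`: it meets `W_K` in order 2 and is the product of that with its part central in `⟨K, J(T)⟩`
-/

set_option autoImplicit false

namespace Cfsg.Agent.JComp

open Cfsg.Agent.PLocal
open scoped commutatorElement

variable {G : Type*} [Group G] [Finite G]

theorem exists_mul_mod_three (n : ℕ) : ∃ j : ℕ, (2 ^ n * j) % 3 = 1 := by
  induction n with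
  | zero => exact ⟨1, rfl⟩
  | succ n ih =>
    obtain ⟨j, hj⟩ := ih
    exact ⟨2 * j, by rw [pow_succ, show 2 ^ n * 2 * (2 * j) = 4 * (2 ^ n * j) by ring, Nat.mul_mod, hj]⟩

theorem comp_split {T K : Subgroup G} (hT : IsPGroup 2 T) (hK : Cfsg.IsJComponent T K) :
    Nat.card ↥(Cfsg.omegaCenterOf (Cfsg.thompsonSubgroupOf 2 T) ⊓ Cfsg.wOf K) = 2 ∧
      (Cfsg.omegaCenterOf (Cfsg.thompsonSubgroupOf 2 T) ⊓ ((K ⊔ Cfsg.thompsonSubgroupOf 2 T) ⊓
        Subgroup.centralizer ((K ⊔ Cfsg.thompsonSubgroupOf 2 T : Subgroup G) : Set G))) ⊔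
        (Cfsg.omegaCenterOf (Cfsg.thompsonSubgroupOf 2 T) ⊓ Cfsg.wOf K) =
      Cfsg.omegaCenterOf (Cfsg.thompsonSubgroupOf 2 T) := by
  have hJK := jOf_le_normalizer hK
  obtain ⟨hgen, hcomm, hidx, hcond, hW4, hW2⟩ := hK
  set J := Cfsg.thompsonSubgroupOf 2 T with hJdef
  set P := Cfsg.pCoreOf 2 K with hP
  set W := Cfsg.wOf K with hWdef
  set U := Cfsg.omegaCenterOf P with hU
  set Z₀ := Cfsg.omegaCenterOf J with hZ₀
  have hPK : P ≤ K := Cfsg.Agent.LargeSub.pCoreOf_le K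
  have hKP : K ≤ Subgroup.normalizer (P : Set G) := Cfsg.Agent.LargeSub.self_le_normalizer_pCoreOf K
  have hJP : J ≤ Subgroup.normalizer (P : Set G) := hJK.trans (Cfsg.Agent.LargeSub.le_normalizer_pCoreOf K)
  have hPp : IsPGroup 2 P := Cfsg.Agent.LargeSub.isPGroup_pCoreOf K
  have hJp : IsPGroup 2 J := hT.to_le (jOf_le T)
  -- a Sylow subgroup containing `P` and `J`
  obtain ⟨S, hS, hJPS⟩ := exists_sylowTwo_ge (hPp.to_sup_of_normal_left' hJp hJP)
    (sup_le (hPK.trans le_sup_left) le_sup_right : P ⊔ J ≤ K ⊔ J)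
  have hJS : J ≤ S := le_sup_right.trans hJPS
  have hPS : P ≤ S := le_sup_left.trans hJPS
  have hJSeq : Cfsg.thompsonSubgroupOf 2 S = J := hcond S hS hJS
  have hmax : maxElem S = maxElem T := by
    rw [← maxElem_eq_of_between (T := S) (S := J) hJSeq.le hJS,
      ← maxElem_eq_of_between (T := T) (S := J) le_rfl (jOf_le T)]
  have hPJ : ∀ p ∈ P, ∀ j ∈ J, p * j * p⁻¹ ∈ J := fun p hp j hj => by
    have := (Subgroup.mem_normalizer_iff.mp (jOf_normalized S (hPS hp)) j).mp (hJSeq ▸ hj)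
    rwa [hJSeq] at this
  -- conjugation on `U`
  have hPU : ∀ p ∈ P, ∀ u ∈ U, p * u * p⁻¹ = u := fun p hp u hu => by
    rw [(mem_omegaCenterOf.mp hu).2.1 p hp, mul_inv_cancel_right]
  have hU2 : ∀ u ∈ U, u * u = 1 := fun u hu => (mem_omegaCenterOf.mp hu).2.2
  have hUc : ∀ u ∈ U, ∀ v ∈ U, u * v = v * u := fun u hu v hv =>
    (mem_omegaCenterOf.mp hv).2.1 u (omegaCenterOf_le _ hu)
  have hmod : ∀ g h : G, g⁻¹ * h ∈ P → ∀ u ∈ U, h * u * h⁻¹ = g * u * g⁻¹ := by
    intro g h hgh u hu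
    calc h * u * h⁻¹ = g * ((g⁻¹ * h) * u * (g⁻¹ * h)⁻¹) * g⁻¹ := by group
      _ = g * u * g⁻¹ := by rw [hPU _ hgh u hu]
  have hUn : ∀ g, g ∈ Subgroup.normalizer (P : Set G) → ∀ u ∈ U, g * u * g⁻¹ ∈ U := by
    intro g hg u hu
    have hgP : P.map (MulAut.conj g).toMonoidHom = P := Subgroup.mem_normalizer_iff_map_conj_eq.mp hg
    rw [hU, ← hgP, omegaCenterOf_conj]
    exact Subgroup.mem_map_of_mem _ hu
  have hWU : W ≤ U := by
    rw [hWdef, Cfsg.wOf, ← hP, ← hU, Subgroup.commutator_le]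
    intro u hu g hg
    rw [commutatorElement_def, mul_assoc, mul_assoc, ← mul_assoc g]
    exact mul_mem hu (hUn g (hKP hg) _ (inv_mem hu))
  have hWP : W ≤ P := hWU.trans (omegaCenterOf_le _)
  -- the quotient `K / P`
  let q : ↥K →* ↥K ⧸ Cfsg.pCore 2 ↥K := QuotientGroup.mk' _
  have hq1 : ∀ g : ↥K, q g = 1 ↔ (g : G) ∈ P := fun g => by
    rw [hP, mem_pCoreOf_iff]; exact QuotientGroup.eq_one_iff g
  have hq3 : Nat.card (↥K ⧸ Cfsg.pCore 2 ↥K) = 3 := by
    rw [← hidx, Subgroup.relIndex, ← Subgroup.index_eq_card]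
    congr 1
    exact Subgroup.ext fun g => (Subgroup.mem_map_iff_mem K.subtype_injective).symm
  have hcube : ∀ g ∈ K, g ^ 3 ∈ P := fun g hg => by
    have := (hq1 (⟨g, hg⟩ ^ 3)).mp (by rw [map_pow, ← hq3, pow_card_eq_one'])
    simpa using this
  obtain ⟨A, hA, a, haA, k, hk, hz⟩ :
      ∃ A ∈ maxElem T, ∃ a ∈ A, ∃ k ∈ K, k * a * k⁻¹ * a ∉ P := by
    by_contra hno
    push Not at hno
    have hKPle : K ≤ P := by
      conv_lhs => rw [← hcomm]
      rw [Subgroup.commutator_le]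
      intro g hg
      let C : Subgroup G :=
        { carrier := {j | j ∈ J ∧ g * j * g⁻¹ * j⁻¹ ∈ P}
          one_mem' := ⟨one_mem _, by simp⟩
          mul_mem' := by
            rintro j l ⟨hj, hj'⟩ ⟨hl, hl'⟩
            refine ⟨mul_mem hj hl, ?_⟩
            have e : g * (j * l) * g⁻¹ * (j * l)⁻¹ = (g * j * g⁻¹ * j⁻¹) * (j * (g * l * g⁻¹ * l⁻¹) * j⁻¹) := by
              group
            rw [e]
            exact mul_mem hj' ((Subgroup.mem_normalizer_iff.mp (hJP hj) _).mp hl')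
          inv_mem' := by
            rintro j ⟨hj, hj'⟩
            refine ⟨inv_mem hj, ?_⟩
            have e : g * j⁻¹ * g⁻¹ * j⁻¹⁻¹ = j⁻¹ * (g * j * g⁻¹ * j⁻¹)⁻¹ * j⁻¹⁻¹ := by group
            rw [e]
            exact (Subgroup.mem_normalizer_iff.mp (hJP (inv_mem hj)) _).mp (inv_mem hj') }
      have hJC : J ≤ C := jOf_le_iff.mpr fun A hA a ha => ⟨le_jOf hA ha, by
        rw [inv_eq_of_mul_eq_one_right (elem_mul_self hA.2.1 ha)]; exact hno A hA a ha g hg⟩
      exact fun j hj => (hJC hj).2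
    have : P = K := le_antisymm hPK hKPle
    rw [this, Subgroup.relIndex_self] at hidx
    omega
  have haJ : a ∈ J := le_jOf hA haA
  have haa : a * a = 1 := elem_mul_self hA.2.1 haA
  set z := k * a * k⁻¹ * a with hzdef
  have hzK : z ∈ K := by
    rw [hzdef, mul_assoc, mul_assoc]
    refine mul_mem hk ?_
    have := (Subgroup.mem_normalizer_iff.mp (hJK haJ) _).mp (inv_mem hk)
    rwa [inv_eq_of_mul_eq_one_right haa, mul_assoc] at this
  have hainvz : a * z * a⁻¹ = z⁻¹ := by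
    rw [hzdef, ← mul_assoc, mul_inv_cancel_right]
    simp only [mul_inv_rev, inv_inv, inv_eq_of_mul_eq_one_right haa, mul_assoc]
  obtain ⟨n, hn⟩ := pow_two_of_mem hPp (hcube z hzK)
  set y := z ^ 2 ^ n with hydef
  have hyK : y ∈ K := pow_mem hzK _
  have hy3 : y ^ 3 = 1 := by rw [hydef, ← pow_mul, mul_comm, pow_mul, hn]
  have hay : a * y * a⁻¹ = y⁻¹ := by rw [hydef, ← conj_pow, hainvz, inv_pow]
  have hyP : y ∉ P := by
    intro hy
    obtain ⟨j, hj⟩ := exists_mul_mod_three n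
    refine hz ?_
    obtain ⟨r, hr⟩ : ∃ r, 2 ^ n * j = 1 + 3 * r := ⟨(2 ^ n * j) / 3, by omega⟩
    have e : z = z ^ (2 ^ n * j) * ((z ^ 3) ^ r)⁻¹ := by
      rw [hr, pow_add, pow_one, pow_mul, mul_inv_cancel_right]
    rw [e, pow_mul]
    exact mul_mem (pow_mem hy j) (inv_mem (pow_mem (hcube z hzK) _))
  have hydec : ∀ g ∈ K, ∃ i : ℕ, (y ^ i)⁻¹ * g ∈ P := by
    intro g hg
    have : Fact (Nat.Prime 3) := ⟨Nat.prime_three⟩
    have hy1 : q ⟨y, hyK⟩ ≠ 1 := fun h => hyP ((hq1 _).mp h)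
    obtain ⟨i, hi⟩ := mem_powers_iff_mem_zpowers.mpr (mem_zpowers_of_prime_card (g' := q ⟨g, hg⟩) hq3 hy1)
    refine ⟨i, ?_⟩
    have := (hq1 ((⟨y, hyK⟩ ^ i)⁻¹ * ⟨g, hg⟩)).mp (by
      rw [map_mul, map_inv, map_pow, show q ⟨y, hyK⟩ ^ i = q ⟨g, hg⟩ from hi, inv_mul_cancel])
    simpa using this
  have hyn : y ∈ Subgroup.normalizer (P : Set G) := hKP hyK
  have hdich : ∀ j ∈ J, y⁻¹ * (j * y * j⁻¹) ∈ P ∨ y * (j * y * j⁻¹) ∈ P := by
    intro j hj
    obtain ⟨i, hi⟩ := hydec _ ((Subgroup.mem_normalizer_iff.mp (hJK hj) y).mp hyK)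
    rw [← Nat.mod_add_div i 3, pow_add, pow_mul, hy3, one_pow, mul_one] at hi
    obtain h | h | h : i % 3 = 0 ∨ i % 3 = 1 ∨ i % 3 = 2 := by omega
    · rw [h, pow_zero, inv_one, one_mul] at hi
      exact absurd ((Subgroup.mem_normalizer_iff.mp (hJP hj) y).mpr hi) hyP
    · rw [h, pow_one] at hi; exact Or.inl hi
    · rw [h, inv_eq_of_mul_eq_one_right (show y ^ 2 * y = 1 by rw [← pow_succ, hy3])] at hi
      exact Or.inr hi
  -- the action of `y` on `W`
  let e : G → G := fun u => y * u * y⁻¹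
  have heU : ∀ u ∈ U, e u ∈ U := hUn y hyn
  have hemul : ∀ u v, e (u * v) = e u * e v := fun u v => by simp [e, mul_assoc]
  have he3 : ∀ u, e (e (e u)) = u := fun u => by
    simp only [e]
    calc y * (y * (y * u * y⁻¹) * y⁻¹) * y⁻¹ = (y * (y * y)) * u * (y * (y * y))⁻¹ := by group
      _ = u := by rw [← pow_three, hy3]; group
  have hyi : ∀ j : ℕ, y ^ j = 1 ∨ y ^ j = y ∨ y ^ j = y * y := fun j => by
    rw [← Nat.mod_add_div j 3, pow_add, pow_mul, hy3, one_pow, mul_one]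
    obtain h | h | h : j % 3 = 0 ∨ j % 3 = 1 ∨ j % 3 = 2 := by omega
    · left; rw [h, pow_zero]
    · right; left; rw [h, pow_one]
    · right; right; rw [h, pow_two]
  let φ : ↥U →* G :=
    { toFun := fun u => (u : G) * e u
      map_one' := by simp [e]
      map_mul' := fun u v => by
        show (u : G) * v * e (u * v) = u * e u * (v * e v)
        rw [hemul, mul_assoc (u : G) v, ← mul_assoc (v : G), hUc v v.2 _ (heU u u.2)]
        group }
  have hWφ : W ≤ φ.range := by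
    rw [hWdef, Cfsg.wOf, ← hP, ← hU, Subgroup.commutator_le]
    intro u hu g hg
    obtain ⟨i, hi⟩ := hydec g hg
    have hg' : g * u⁻¹ * g⁻¹ = y ^ i * u * (y ^ i)⁻¹ := by
      rw [inv_eq_of_mul_eq_one_right (hU2 u hu)]; exact hmod _ _ hi _ hu
    have e1 : ⁅u, g⁆ = u * (y ^ i * u * (y ^ i)⁻¹) := by
      rw [commutatorElement_def, ← hg']; group
    rw [e1]
    rcases hyi i with h | h | h <;> rw [h]
    · rw [one_mul, inv_one, mul_one, hU2 u hu]; exact one_mem _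
    · exact ⟨⟨u, hu⟩, rfl⟩
    · refine ⟨⟨u * e u, mul_mem hu (heU u hu)⟩, ?_⟩
      show u * e u * e (u * e u) = _
      rw [hemul, mul_assoc u, ← mul_assoc (e u), hU2 _ (heU u hu), one_mul]
      simp [e, mul_assoc]
  have hfpf : ∀ w ∈ W, e w = w → w = 1 := by
    intro w hw h
    obtain ⟨u, rfl⟩ := hWφ hw
    change e ((u : G) * e u) = u * e u at h
    rw [hemul, hUc u u.2 _ (heU u u.2)] at h
    have h1 : e (e u) = u := mul_left_cancel h
    have h2 : e u = u := by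
      have h3 := congrArg e h1
      rw [he3] at h3
      exact h3.symm
    show (u : G) * e u = 1
    rw [h2, hU2 u u.2]
  have heW : ∀ w ∈ W, e w ∈ W := fun w hw =>
    (Subgroup.mem_normalizer_iff.mp (le_normalizer_wOf K hyK) w).mp hw
  have hJW : ∀ j ∈ J, ∀ w ∈ W, j * w * j⁻¹ ∈ W := fun j hj w hw =>
    (Subgroup.mem_normalizer_iff.mp (normalizer_le_normalizer_wOf K (hJK hj)) w).mp hw
  have hae : ∀ u ∈ U, a * e u * a⁻¹ = e (e (a * u * a⁻¹)) := by
    intro u hu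
    have hyy : y⁻¹ = y * y := inv_eq_of_mul_eq_one_right (by rw [← pow_three, hy3])
    calc a * e u * a⁻¹ = (a * y * a⁻¹) * (a * u * a⁻¹) * (a * y * a⁻¹)⁻¹ := by simp [e, mul_assoc]
      _ = _ := by rw [hay, hyy]; simp only [e]; group
  have hee : ∀ w ∈ W, e (e w) = w → w = 1 := fun w hw h => hfpf w hw (by
    have := congrArg e h
    rw [he3] at this
    exact this.symm)
  -- `a` fixes exactly one involution of `W`
  have hW_gen : ∀ w₁ ∈ W, ∀ w₂ ∈ W, w₁ ≠ 1 → w₂ ≠ 1 → w₁ ≠ w₂ → ∀ w ∈ W,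
      w = 1 ∨ w = w₁ ∨ w = w₂ ∨ w = w₁ * w₂ := by
    intro w₁ h₁ w₂ h₂ n1 n2 n12 w hw
    by_contra h
    simp only [not_or] at h
    obtain ⟨m1, m2, m3, m4⟩ := h
    have n3 : w₁ * w₂ ≠ 1 := fun h => n12 (by rw [mul_eq_one_iff_eq_inv.mp h, inv_eq_of_mul_eq_one_right (hW2 w₂ h₂)])
    have n4 : w₁ * w₂ ≠ w₁ := fun h => n2 (mul_eq_left.mp h)
    have n5 : w₁ * w₂ ≠ w₂ := fun h => n1 (mul_eq_right.mp h)
    have hinj : Function.Injective
        ![(⟨1, one_mem _⟩ : W), ⟨w₁, h₁⟩, ⟨w₂, h₂⟩, ⟨w₁ * w₂, mul_mem h₁ h₂⟩, ⟨w, hw⟩] := by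
      intro i j hij
      have hij' := congrArg Subtype.val hij
      clear hij
      fin_cases i <;> fin_cases j <;> simp at hij' ⊢ <;>
        first | exact absurd hij' (by assumption) | exact absurd hij'.symm (by assumption)
    have := Nat.card_le_card_of_injective _ hinj
    rw [hW4, Nat.card_fin] at this
    omega
  have hnotall : ¬ ∀ w ∈ W, a * w * a⁻¹ = w := by
    intro h
    have hbot : W = ⊥ := (Subgroup.eq_bot_iff_forall _).mpr fun w hw => by
      have h1 := hae w (hWU hw)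
      rw [h w hw, h _ (heW w hw)] at h1
      refine hfpf w hw ?_
      have h2 := congrArg e h1
      rw [he3] at h2
      have h3 := congrArg e h2
      rw [he3] at h3
      exact h3.symm.trans (hee w hw (by rw [h2]) ▸ by simp)
    rw [hbot, Subgroup.card_bot] at hW4
    omega
  have hfixle : ∀ w₁ ∈ W, ∀ w₂ ∈ W, a * w₁ * a⁻¹ = w₁ → a * w₂ * a⁻¹ = w₂ → w₁ ≠ 1 → w₂ ≠ 1 →
      w₁ = w₂ := by
    intro w₁ h₁ w₂ h₂ f₁ f₂ n1 n2
    by_contra n12
    refine hnotall fun w hw => ?_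
    rcases hW_gen w₁ h₁ w₂ h₂ n1 n2 n12 w hw with rfl | rfl | rfl | rfl
    · simp
    · exact f₁
    · exact f₂
    · calc a * (w₁ * w₂) * a⁻¹ = (a * w₁ * a⁻¹) * (a * w₂ * a⁻¹) := by group
        _ = w₁ * w₂ := by rw [f₁, f₂]
  -- elements centralising `y` modulo `P` fix `W`
  have hcen : ∀ j ∈ J, y⁻¹ * (j * y * j⁻¹) ∈ P → ∀ w ∈ W, j * w * j⁻¹ = w := by
    intro j hj hjy w hw
    by_cases hw1 : w = 1
    · simp [hw1]
    obtain ⟨i, hi⟩ : ∃ i : ℕ, j * w * j⁻¹ = y ^ i * w * (y ^ i)⁻¹ := by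
      have hne : w ≠ e w := fun h => hw1 (hfpf w hw h.symm)
      have he1 : e w ≠ 1 := fun h => hw1 (conj_eq_one_iff.mp h)
      rcases hW_gen w hw (e w) (heW w hw) hw1 he1 hne _ (hJW j hj w hw) with h | h | h | h
      · exact absurd (conj_eq_one_iff.mp h) hw1
      · exact ⟨0, by simp [h]⟩
      · exact ⟨1, by simp [h, e]⟩
      · refine ⟨2, ?_⟩
        have hne2 : e (e w) ≠ w := fun h => hw1 (hee w hw h)
        rcases hW_gen w hw (e w) (heW w hw) hw1 he1 hne _ (heW _ (heW w hw)) with h' | h' | h' | h'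
        · exact absurd (conj_eq_one_iff.mp h') he1
        · exact absurd h' hne2
        · exact absurd (hfpf _ (heW w hw) h') he1
        · rw [h, ← h']; simp [e, pow_two, mul_assoc]
    obtain ⟨m, hm⟩ := pow_two_of_mem hJp hj
    have hcm : ∀ u ∈ U, ∀ l : ℕ, j * (y ^ l * u * (y ^ l)⁻¹) * j⁻¹ = y ^ l * (j * u * j⁻¹) * (y ^ l)⁻¹ := by
      intro u hu l
      induction l with
      | zero => simp
      | succ l ih =>
        have hu' : y ^ l * (j * u * j⁻¹) * (y ^ l)⁻¹ ∈ U :=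
          hUn _ (pow_mem hyn l) _ (hUn j (hJP hj) u hu)
        calc j * (y ^ (l + 1) * u * (y ^ (l + 1))⁻¹) * j⁻¹
            = (j * y * j⁻¹) * (j * (y ^ l * u * (y ^ l)⁻¹) * j⁻¹) * (j * y * j⁻¹)⁻¹ := by
              rw [pow_succ']; group
          _ = y * (y ^ l * (j * u * j⁻¹) * (y ^ l)⁻¹) * y⁻¹ := by rw [ih, hmod _ _ hjy _ hu']
          _ = _ := by rw [pow_succ']; group
    have hpow : ∀ l : ℕ, j ^ l * w * (j ^ l)⁻¹ = y ^ (i * l) * w * (y ^ (i * l))⁻¹ := by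
      intro l
      induction l with
      | zero => simp
      | succ l ih =>
        calc j ^ (l + 1) * w * (j ^ (l + 1))⁻¹ = j * (j ^ l * w * (j ^ l)⁻¹) * j⁻¹ := by rw [pow_succ']; group
          _ = y ^ (i * l) * (j * w * j⁻¹) * (y ^ (i * l))⁻¹ := by rw [ih, hcm w (hWU hw)]
          _ = _ := by rw [hi, show i * (l + 1) = i * l + i by ring, pow_add]; group
    have h1 := hpow (2 ^ m)
    rw [hm, one_mul, inv_one, mul_one] at h1
    have h2 : ∀ l : ℕ, y ^ (i * 2 ^ m * l) * w * (y ^ (i * 2 ^ m * l))⁻¹ = w := fun l => by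
      induction l with
      | zero => simp
      | succ l ihl =>
        rw [show i * 2 ^ m * (l + 1) = i * 2 ^ m + i * 2 ^ m * l by ring, pow_add]
        calc _ = y ^ (i * 2 ^ m) * (y ^ (i * 2 ^ m * l) * w * (y ^ (i * 2 ^ m * l))⁻¹) *
              (y ^ (i * 2 ^ m))⁻¹ := by group
          _ = w := by rw [ihl, ← h1]
    obtain ⟨l, hl⟩ := exists_mul_mod_three m
    have h3 := h2 l
    rw [show i * 2 ^ m * l = i * (2 ^ m * l) by ring, ← Nat.mod_add_div (2 ^ m * l) 3, hl,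
      show i * (1 + 3 * (2 ^ m * l / 3)) = i + 3 * (i * (2 ^ m * l / 3)) by ring, pow_add, pow_mul, hy3,
      one_pow, mul_one] at h3
    rw [hi, h3]
  -- `B W` is of largest order
  have hBclosed : ∀ b c, b ∈ A → c ∈ A → y⁻¹ * (b * y * b⁻¹) ∈ P → y⁻¹ * (c * y * c⁻¹) ∈ P →
      y⁻¹ * (b * c * y * (b * c)⁻¹) ∈ P := by
    intro b c hb _ h1 h2
    have e : y⁻¹ * (b * c * y * (b * c)⁻¹) = y⁻¹ * (b * y * b⁻¹) * (b * (y⁻¹ * (c * y * c⁻¹)) * b⁻¹) := by group
    rw [e]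
    exact mul_mem h1 ((Subgroup.mem_normalizer_iff.mp (hJP (le_jOf hA hb)) _).mp h2)
  let B : Subgroup G :=
    { carrier := {b | b ∈ A ∧ y⁻¹ * (b * y * b⁻¹) ∈ P}
      one_mem' := ⟨one_mem _, by simp⟩
      mul_mem' := fun {b c} hb hc => ⟨mul_mem hb.1 hc.1, hBclosed b c hb.1 hc.1 hb.2 hc.2⟩
      inv_mem' := fun {b} hb => by
        rw [inv_eq_of_mul_eq_one_right (elem_mul_self hA.2.1 hb.1)]; exact hb }
  have hBA : B ≤ A := fun b hb => hb.1
  have hBW : ∀ b ∈ B, ∀ w ∈ W, b * w * b⁻¹ = w := fun b hb => hcen b (le_jOf hA hb.1) hb.2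
  have hab : ∀ b ∈ A, y * (b * y * b⁻¹) ∈ P → a * b ∈ B := by
    intro b hb h
    refine ⟨mul_mem haA hb, ?_⟩
    have e1 : y⁻¹ * (a * b * y * (a * b)⁻¹) = a * (y * (b * y * b⁻¹)) * a⁻¹ := by
      have hay' : a * y * a⁻¹ = y⁻¹ := hay
      calc y⁻¹ * (a * b * y * (a * b)⁻¹) = (a * y * a⁻¹) * (a * b * y * (a * b)⁻¹) := by rw [hay']
        _ = _ := by group
    rw [e1]
    exact (Subgroup.mem_normalizer_iff.mp (hJP haJ) _).mp h
  have hAB : Nat.card A ≤ 2 * Nat.card B := by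
    have h1 : Nat.card A ≤ Nat.card (↥B ⊕ ↥B) := by
      refine Nat.card_le_card_of_surjective (fun p : ↥B ⊕ ↥B => p.elim (fun b : ↥B => (⟨(b : G), b.2.1⟩ : ↥A))
        (fun b : ↥B => ⟨a * (b : G), mul_mem haA b.2.1⟩)) fun ⟨b, hb⟩ => ?_
      rcases hdich b (le_jOf hA hb) with h | h
      · exact ⟨Sum.inl ⟨b, hb, h⟩, rfl⟩
      · refine ⟨Sum.inr ⟨a * b, hab b hb h⟩, Subtype.ext ?_⟩
        show a * (a * b) = b
        rw [← mul_assoc, haa, one_mul]
    rwa [Nat.card_sum, ← two_mul] at h1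
  have hWe : Cfsg.IsElementaryAbelian 2 W :=
    ⟨Cfsg.Agent.PReduced.isMulCommutative_of_forall fun u hu v hv => hUc u (hWU hu) v (hWU hv),
      fun u hu => by rw [pow_two]; exact hW2 u hu⟩
  set E := B ⊔ W with hE
  have hBcW : B ≤ Subgroup.centralizer (W : Set G) := fun b hb =>
    Subgroup.mem_centralizer_iff.mpr fun w hw => (mul_inv_eq_iff_eq_mul.mp (hBW b hb w hw)).symm
  have hEe : Cfsg.IsElementaryAbelian 2 E :=
    elemAb_sup (Cfsg.Agent.PReduced.isElementaryAbelian_mono hA.2.1 hBA) hWe hBcW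
  have hAS : A ∈ maxElem S := hmax ▸ hA
  have hEcard : Nat.card A ≤ Nat.card E := by
    have hh := card_sup_mul_card_inf (H := B) (K := W)
      ((Subgroup.le_centralizer_iff.mp hBcW).trans (Subgroup.centralizer_le_normalizer _))
    have hi : Nat.card ↥(B ⊓ W) ≤ 2 := by
      by_contra hgt
      obtain ⟨⟨w₁, hw₁⟩, hne₁⟩ : ∃ w : ↥(B ⊓ W), w ≠ 1 := by
        have : Nontrivial ↥(B ⊓ W) := Finite.one_lt_card_iff_nontrivial.mp (by omega)
        exact exists_ne 1
      have hall : ∀ w : ↥(B ⊓ W), w = 1 ∨ w = ⟨w₁, hw₁⟩ := by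
        rintro ⟨w, hw⟩
        by_cases h : w = 1
        · exact Or.inl (Subtype.ext h)
        refine Or.inr (Subtype.ext ?_)
        have hfix : ∀ v ∈ B ⊓ W, a * v * a⁻¹ = v := fun v hv => by
          rw [elem_comm hA.2.1 haA (hBA hv.1), mul_inv_cancel_right]
        exact hfixle w hw.2 w₁ hw₁.2 (hfix w hw) (hfix w₁ hw₁) h fun e => hne₁ (Subtype.ext e)
      refine hgt (le_of_le_of_eq (Nat.card_le_card_of_surjective
        (fun b : Fin 2 => if b = 0 then (1 : ↥(B ⊓ W)) else ⟨w₁, hw₁⟩) fun w => ?_) (Nat.card_fin 2))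
      rcases hall w with rfl | rfl
      · exact ⟨0, rfl⟩
      · exact ⟨1, rfl⟩
    rw [← hE, hW4] at hh
    have h1 : 2 * Nat.card A ≤ Nat.card E * 2 := by
      calc 2 * Nat.card A ≤ 2 * (2 * Nat.card B) := Nat.mul_le_mul_left _ hAB
        _ = Nat.card E * Nat.card ↥(B ⊓ W) := by rw [hh]; ring
        _ ≤ Nat.card E * 2 := Nat.mul_le_mul_left _ hi
    omega
  have hEmem : E ∈ maxElem S :=
    ⟨sup_le (hBA.trans (hAS.1)) (hWP.trans hPS), hEe,
      fun D hD hDe => (hAS.2.2 D hD hDe).trans hEcard⟩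
  have hWJ : W ≤ J := le_sup_right.trans ((le_jOf hEmem).trans hJSeq.le)
  -- conjugates of `E` by powers of `y`
  let D₀ : Subgroup G := Subgroup.closure {d | d ∈ J ∧ y⁻¹ * (d * y * d⁻¹) ∈ P}
  have hOn : ∀ g ∈ ({y, y⁻¹} : Set G), ∀ x ∈ P ⊔ D₀, g * x * g⁻¹ ∈ P ⊔ D₀ := by
    intro g hg
    have hle : P ⊔ D₀ ≤ (P ⊔ D₀).comap (MulAut.conj g).toMonoidHom := by
      refine sup_le (fun p hp => Subgroup.mem_sup_left ?_) ((Subgroup.closure_le _).mpr ?_)
      · show g * p * g⁻¹ ∈ P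
        rcases hg with rfl | rfl
        · exact (Subgroup.mem_normalizer_iff.mp hyn p).mp hp
        · exact (Subgroup.mem_normalizer_iff.mp (inv_mem hyn) p).mp hp
      · rintro d ⟨hd, hdy⟩
        show g * d * g⁻¹ ∈ P ⊔ D₀
        have hdD : d ∈ D₀ := Subgroup.subset_closure ⟨hd, hdy⟩
        rcases hg with rfl | rfl
        · have e1 : y * d * y⁻¹ = (y * (y⁻¹ * (d * y * d⁻¹))⁻¹ * y⁻¹) * d := by group
          rw [e1]
          exact mul_mem (Subgroup.mem_sup_left ((Subgroup.mem_normalizer_iff.mp hyn _).mp (inv_mem hdy)))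
            (Subgroup.mem_sup_right hdD)
        · have e1 : y⁻¹ * d * y⁻¹⁻¹ = (y⁻¹ * (d * y * d⁻¹)) * d := by group
          rw [e1]
          exact mul_mem (Subgroup.mem_sup_left hdy) (Subgroup.mem_sup_right hdD)
    exact fun x hx => hle hx
  have hOS : P ⊔ D₀ ≤ S := sup_le hPS ((Subgroup.closure_le _).mpr fun d hd => hJS hd.1)
  have hEO : E ≤ P ⊔ D₀ := sup_le (fun b hb => Subgroup.mem_sup_right (Subgroup.subset_closure
    ⟨le_jOf hA hb.1, hb.2⟩)) (hWP.trans le_sup_left)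
  have hEg : ∀ g ∈ ({y, y⁻¹} : Set G), E.map (MulAut.conj g).toMonoidHom ∈ maxElem T := by
    intro g hg
    rw [← hmax]
    refine ⟨?_, elemAb_map (MulAut.conj g).toMonoidHom hEe, fun D hD hDe => ?_⟩
    · rintro _ ⟨x, hx, rfl⟩
      exact hOS (hOn g hg x (hEO hx))
    · rw [Subgroup.card_map_of_injective (MulAut.conj g).injective]
      exact hEmem.2.2 D hD hDe
  have hZA : ∀ z ∈ Z₀, ∀ A' ∈ maxElem T, z ∈ A' := by
    intro z hz A' hA'
    obtain ⟨hzJ, hzc, hz2⟩ := mem_omegaCenterOf.mp hz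
    exact mem_of_centralizes hA' (jOf_le T hzJ) (by rw [pow_two]; exact hz2)
      (Subgroup.mem_centralizer_iff.mpr fun x hx => hzc x (le_jOf hA' hx))
  have hainvW : ∀ v ∈ E, a * v * a⁻¹ * v ∈ W := by
    intro v hv
    have hnorm : W ≤ Subgroup.normalizer (B : Set G) :=
      (Subgroup.le_centralizer_iff.mp hBcW).trans (Subgroup.centralizer_le_normalizer _)
    rw [hE, ← SetLike.mem_coe, Subgroup.coe_mul_of_right_le_normalizer_left B W hnorm] at hv
    obtain ⟨b, hb, w, hw, rfl⟩ := hv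
    have h1 : a * b * a⁻¹ = b := by rw [elem_comm hA.2.1 haA (hBA hb), mul_inv_cancel_right]
    have h2 : (a * w * a⁻¹) * b = b * (a * w * a⁻¹) :=
      Subgroup.mem_centralizer_iff.mp (hBcW hb) _ (hJW a haJ w hw)
    have h3 : a * (b * w) * a⁻¹ * (b * w) = a * w * a⁻¹ * w := by
      calc a * (b * w) * a⁻¹ * (b * w) = (a * b * a⁻¹) * ((a * w * a⁻¹) * b) * w := by group
        _ = b * (b * (a * w * a⁻¹)) * w := by rw [h1, h2]
        _ = (b * b) * (a * w * a⁻¹) * w := by group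
        _ = _ := by rw [elem_mul_self hA.2.1 (hBA hb), one_mul]
    rw [h3]
    exact mul_mem (hJW a haJ w hw) hw
  -- decomposition
  have hdec : ∀ z ∈ Z₀, ∃ w ∈ W, w ∈ Z₀ ∧ z * w ∈ Subgroup.centralizer ((K ⊔ J : Subgroup G) : Set G) := by
    intro z hz
    obtain ⟨hzJ, hzc, hz2⟩ := mem_omegaCenterOf.mp hz
    have haz : a * z * a⁻¹ = z := by rw [hzc a haJ, mul_inv_cancel_right]
    have hv : e z ∈ E := by
      obtain ⟨x, hx, hxz⟩ := hZA z hz _ (hEg y⁻¹ (Or.inr rfl))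
      have : e z = x := by rw [← hxz]; simp [e, mul_assoc]
      rw [this]; exact hx
    have h1 : a * e z * a⁻¹ = e (e z) := by
      have hyy : y⁻¹ = y * y := inv_eq_of_mul_eq_one_right (by rw [← pow_three, hy3])
      calc a * e z * a⁻¹ = (a * y * a⁻¹) * (a * z * a⁻¹) * (a * y * a⁻¹)⁻¹ := by simp [e, mul_assoc]
        _ = _ := by rw [hay, haz, hyy]; simp only [e]; group
    have h2 := hainvW _ hv
    rw [h1] at h2
    have h3 : z * e (e z) ∈ W := by
      have := heW _ h2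
      rwa [hemul, he3] at this
    have h4 : e z * z ∈ W := by
      have := heW _ h3
      rwa [hemul, he3] at this
    -- solve `e w * w = e z * z`
    let ψ : ↥W → ↥W := fun w => ⟨e w * w, mul_mem (heW _ w.2) w.2⟩
    have hψ : Function.Injective ψ := by
      intro u v huv
      have h' : e (u : G) * u = e (v : G) * v := congrArg Subtype.val huv
      have huv' : e ((u : G) * v) = u * v := by
        have hcc := fun p (hp : p ∈ W) q (hq : q ∈ W) => hUc p (hWU hp) q (hWU hq)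
        rw [hemul]
        calc e (u : G) * e v = (e u * u) * u * e v := by rw [mul_assoc (e (u : G)), hW2 u u.2, mul_one]
          _ = (e v * v) * u * e v := by rw [h']
          _ = (e v * e v) * (v * u) := by
            rw [mul_assoc (e (v : G) * v), hcc u u.2 _ (heW v v.2), ← mul_assoc (e (v : G) * v),
              mul_assoc (e (v : G)) (v : G), hcc v v.2 _ (heW v v.2)]
            group
          _ = _ := by rw [hW2 _ (heW v v.2), one_mul, hcc v v.2 u u.2]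
      have := hfpf _ (mul_mem u.2 v.2) huv'
      exact Subtype.ext (by rw [mul_eq_one_iff_eq_inv.mp this, inv_eq_of_mul_eq_one_right (hW2 v v.2)])
    obtain ⟨⟨w, hw⟩, hwz⟩ := (Finite.injective_iff_surjective.mp hψ) ⟨_, h4⟩
    have hwz' : e w * w = e z * z := congrArg Subtype.val hwz
    have hzw : z * w = w * z := (hzc w (hWJ hw)).symm
    have hfixc : e (z * w) = z * w := by
      rw [hemul]
      have hcwz : e z * e w = e w * e z := by rw [← hemul, ← hemul, hzw]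
      calc e z * e w = e w * e z := hcwz
        _ = e w * (w * w) * e z := by rw [hW2 w hw, mul_one]
        _ = (e w * w) * (w * e z) := by group
        _ = (e z * z) * (w * e z) := by rw [hwz']
        _ = e z * (z * w) * e z := by group
        _ = (e z * e z) * (z * w) := by
          have hc1 : (z * w) * e z = e z * (z * w) := by
            have hm : z * w ∈ E := mul_mem (hZA z hz _ (hmax ▸ hEmem)) (Subgroup.mem_sup_right hw)
            exact elem_comm hEe hm hv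
          rw [mul_assoc, hc1, ← mul_assoc]
        _ = z * w := by rw [← hemul, hz2]; simp [e]
    have hfix2 : e (e (z * w)) = z * w := by rw [hfixc, hfixc]
    have haw : a * w * a⁻¹ = w := by
      have hw' : a * w * a⁻¹ ∈ W := hJW a haJ w hw
      have h5 : e (e (z * (a * w * a⁻¹))) = z * (a * w * a⁻¹) := by
        have h6 := congrArg (fun g => a * g * a⁻¹) hfixc
        have e1 : a * e (z * w) * a⁻¹ = e (e (a * (z * w) * a⁻¹)) := by
          have hyy : y⁻¹ = y * y := inv_eq_of_mul_eq_one_right (by rw [← pow_three, hy3])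
          calc a * e (z * w) * a⁻¹ = (a * y * a⁻¹) * (a * (z * w) * a⁻¹) * (a * y * a⁻¹)⁻¹ := by
                simp [e, mul_assoc]
            _ = _ := by rw [hay, hyy]; simp only [e]; group
        have e2 : a * (z * w) * a⁻¹ = z * (a * w * a⁻¹) := by
          calc a * (z * w) * a⁻¹ = (a * z * a⁻¹) * (a * w * a⁻¹) := by group
            _ = _ := by rw [haz]
        rw [e1, e2] at h6
        exact h6
      have h7 : e (e (w * (a * w * a⁻¹))) = w * (a * w * a⁻¹) := by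
        have ez : ∀ g, z * w * (z * g) = (w * g) := fun g => by
          rw [mul_assoc, ← mul_assoc w z, ← hzw, ← mul_assoc, ← mul_assoc, hz2, one_mul]
        rw [← ez (a * w * a⁻¹), hemul (z * w), hemul (e (z * w)), hfix2, h5]
      have h8 := hee _ (mul_mem hw hw') h7
      rw [mul_eq_one_iff_inv_eq, inv_eq_of_mul_eq_one_right (hW2 w hw)] at h8
      exact h8.symm
    have hwJ : ∀ j ∈ J, j * w = w * j := by
      intro j hj
      refine mul_inv_eq_iff_eq_mul.mp ?_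
      rcases hdich j hj with h | h
      · exact hcen j hj h w hw
      · have h' : y⁻¹ * (a * j * y * (a * j)⁻¹) ∈ P := by
          have e1 : y⁻¹ * (a * j * y * (a * j)⁻¹) = a * (y * (j * y * j⁻¹)) * a⁻¹ := by
            calc y⁻¹ * (a * j * y * (a * j)⁻¹) = (a * y * a⁻¹) * (a * j * y * (a * j)⁻¹) := by rw [hay]
              _ = _ := by group
          rw [e1]
          exact (Subgroup.mem_normalizer_iff.mp (hJP haJ) _).mp h
        calc j * w * j⁻¹ = a⁻¹ * ((a * j) * w * (a * j)⁻¹) * a := by group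
          _ = a⁻¹ * (a * w * a⁻¹) * a := by rw [hcen _ (mul_mem haJ hj) h' w hw, haw]
          _ = w := by group
    refine ⟨w, hw, mem_omegaCenterOf.mpr ⟨hWJ hw, hwJ, hW2 w hw⟩, ?_⟩
    -- `z w` centralises `y` and `J`, hence `⟨K, J⟩`
    set c := z * w
    have hcJ : ∀ j ∈ J, j * c = c * j := fun j hj => by
      rw [← mul_assoc, hzc j hj, mul_assoc, hwJ j hj, mul_assoc]
    have hCy : y ∈ Subgroup.centralizer ({c} : Set G) :=
      Subgroup.mem_centralizer_singleton_iff.mpr (mul_inv_eq_iff_eq_mul.mp hfixc)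
    have hCJ : J ≤ Subgroup.centralizer ({c} : Set G) := fun j hj =>
      Subgroup.mem_centralizer_singleton_iff.mpr (hcJ j hj)
    have hle : K ⊔ J ≤ Subgroup.centralizer ({c} : Set G) := by
      refine sup_le ?_ hCJ
      rw [← hcomm, Subgroup.commutator_le]
      intro g hg j hj
      obtain ⟨i, hi⟩ := hydec g hg
      have e1 : ⁅g, j⁆ = y ^ i * ((y ^ i)⁻¹ * g * j * ((y ^ i)⁻¹ * g)⁻¹) * (y ^ i)⁻¹ * j⁻¹ := by
        rw [commutatorElement_def]; group
      rw [e1]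
      exact mul_mem (mul_mem (mul_mem (pow_mem hCy i) (hCJ (hPJ _ hi j hj)))
        (inv_mem (pow_mem hCy i))) (inv_mem (hCJ hj))
    exact Subgroup.mem_centralizer_iff.mpr fun g hg =>
      Subgroup.mem_centralizer_singleton_iff.mp (hle hg)
  -- `Z₀ ∩ W` has order 2
  have hcard : Nat.card ↥(Z₀ ⊓ W) = 2 := by
    have hfixZ : ∀ w ∈ Z₀ ⊓ W, a * w * a⁻¹ = w := fun w hw => by
      rw [(mem_omegaCenterOf.mp hw.1).2.1 a haJ, mul_inv_cancel_right]
    obtain ⟨w₀, hw₀, hw₀1, hw₀a⟩ : ∃ w ∈ W, w ≠ 1 ∧ a * w * a⁻¹ = w := by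
      obtain ⟨⟨w, hw⟩, hw1⟩ : ∃ w : ↥W, w ≠ 1 := by
        have : Nontrivial ↥W := Finite.one_lt_card_iff_nontrivial.mp (by omega)
        exact exists_ne 1
      by_cases h : a * w * a⁻¹ = w
      · exact ⟨w, hw, fun h' => hw1 (Subtype.ext h'), h⟩
      · refine ⟨w * (a * w * a⁻¹), mul_mem hw (hJW a haJ w hw), fun h' => h ?_, ?_⟩
        · rw [mul_eq_one_iff_inv_eq, inv_eq_of_mul_eq_one_right (hW2 w hw)] at h'
          exact h'.symm
        · have hc := hUc w (hWU hw) _ (hWU (hJW a haJ w hw))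
          calc a * (w * (a * w * a⁻¹)) * a⁻¹ = (a * w * a⁻¹) * ((a * a) * w * (a * a)⁻¹) := by group
            _ = (a * w * a⁻¹) * w := by rw [haa]; group
            _ = _ := hc.symm
    have hw₀Z : w₀ ∈ Z₀ := by
      refine mem_omegaCenterOf.mpr ⟨hWJ hw₀, fun j hj => mul_inv_eq_iff_eq_mul.mp ?_, hW2 w₀ hw₀⟩
      rcases hdich j hj with h | h
      · exact hcen j hj h w₀ hw₀
      · have h' : y⁻¹ * (a * j * y * (a * j)⁻¹) ∈ P := by
          have e1 : y⁻¹ * (a * j * y * (a * j)⁻¹) = a * (y * (j * y * j⁻¹)) * a⁻¹ := by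
            calc y⁻¹ * (a * j * y * (a * j)⁻¹) = (a * y * a⁻¹) * (a * j * y * (a * j)⁻¹) := by rw [hay]
              _ = _ := by group
          rw [e1]
          exact (Subgroup.mem_normalizer_iff.mp (hJP haJ) _).mp h
        calc j * w₀ * j⁻¹ = a⁻¹ * ((a * j) * w₀ * (a * j)⁻¹) * a := by group
          _ = a⁻¹ * (a * w₀ * a⁻¹) * a := by rw [hcen _ (mul_mem haJ hj) h' w₀ hw₀, hw₀a]
          _ = w₀ := by group
    refine le_antisymm ?_ ?_
    · refine le_of_le_of_eq (Nat.card_le_card_of_surjective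
        (fun b : Fin 2 => if b = 0 then (1 : ↥(Z₀ ⊓ W)) else ⟨w₀, hw₀Z, hw₀⟩) fun ⟨w, hw⟩ => ?_) (Nat.card_fin 2)
      by_cases h : w = 1
      · exact ⟨0, Subtype.ext h.symm⟩
      · exact ⟨1, Subtype.ext (hfixle w₀ hw₀ w hw.2 hw₀a (hfixZ w hw) hw₀1 h)⟩
    · have : Nontrivial ↥(Z₀ ⊓ W) :=
        ⟨⟨w₀, hw₀Z, hw₀⟩, 1, fun h => hw₀1 (congrArg Subtype.val h)⟩
      exact Finite.one_lt_card
  refine ⟨hcard, le_antisymm (sup_le inf_le_left inf_le_left) fun z hz => ?_⟩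
  obtain ⟨w, hw, hwZ, hc⟩ := hdec z hz
  have hzwe : z = z * w * w := by rw [mul_assoc, hW2 w hw, mul_one]
  rw [hzwe]
  refine Subgroup.mul_mem_sup ⟨mul_mem hz hwZ, ?_, hc⟩ ⟨hwZ, hw⟩
  exact Subgroup.mem_sup_right (omegaCenterOf_le _ (mul_mem hz hwZ))

end Cfsg.Agent.JComp
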