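import Cfsg.Agent.Lib.JComp.Local
import Cfsg.Agent.Lib.Isolated.Basic

/-!
Maximal straddling 2-subgroups.

* `Straddle`: the standing hypotheses; `Straddle.grow`, `Straddle.normalizer_jOf_le`
* `Straddle.sylow_data`, `Straddle.sylow_of_le`, `Straddle.zero_of_comp`, `Straddle.exists_outside`
-/

set_option autoImplicit false

namespace Cfsg.Agent.JComp

variable {G : Type*} [Group G]

/-- A Sylow 2-subgroup `S` with `N(J(S)) ≤ M` and a maximal straddling 2-subgroup `T` of `M`. -/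
structure Straddle (S : Sylow 2 G) (M T : Subgroup G) : Prop where
  hyp : Hyp G
  normJ : Subgroup.normalizer (Cfsg.thompsonSubgroupOf 2 (S : Subgroup G) : Set G) ≤ M
  max : T ∈ Cfsg.maxStraddlingTwoSubgroups M

variable [Finite G] {S : Sylow 2 G} {M T : Subgroup G}

theorem jOf_ne_bot {T : Subgroup G} (hT : IsPGroup 2 T) (h1 : T ≠ ⊥) :
    Cfsg.thompsonSubgroupOf 2 T ≠ ⊥ := by
  intro h
  have : Nontrivial T := (Subgroup.nontrivial_iff_ne_bot T).mpr h1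
  obtain ⟨A, hA⟩ := exists_maxElem T
  have hA1 : A = ⊥ := le_bot_iff.mp (h ▸ le_jOf hA)
  obtain ⟨n, hn, hcard⟩ := hT.nontrivial_iff_card.mp inferInstance
  have : Fact (Nat.Prime 2) := ⟨Nat.prime_two⟩
  obtain ⟨x, hx⟩ := exists_prime_orderOf_dvd_card' (G := ↥T) 2 (hcard ▸ dvd_pow_self 2 hn.ne')
  have hx2 : (x : G) ^ 2 = 1 := by
    have := congrArg Subtype.val (orderOf_dvd_iff_pow_eq_one.mp hx.dvd)
    simpa using this
  have hle := hA.2.2 (Subgroup.zpowers (x : G)) (Subgroup.zpowers_le.mpr x.2) (Cfsg.Agent.PLocal.elemAb_zpowers hx2)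
  rw [hA1, Subgroup.card_bot, Nat.card_zpowers, Subgroup.orderOf_coe, hx] at hle
  omega

namespace Straddle

variable (h : Straddle S M T)
include h

omit [Finite G] in
theorem isPGroup : IsPGroup 2 T := h.max.1.1

omit [Finite G] in
theorem ne_bot : T ≠ ⊥ := h.max.1.2.1

omit [Finite G] in
theorem le_M : T ≤ M := h.max.1.2.2.1

omit [Finite G] in
theorem sylow_le_M : (S : Subgroup G) ≤ M := (jOf_normalized _).trans h.normJ

/-- A straddling group above `J(T)` has the same Thompson subgroup and is no larger. -/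
theorem grow {R : Subgroup G} (hR : IsPGroup 2 R) (hRM : R ≤ M) (hJR : Cfsg.thompsonSubgroupOf 2 T ≤ R)
    {L : Subgroup G} (hL : Cfsg.IsTwoLocal L) (hRL : R ≤ L) (hLM : ¬ L ≤ M) :
    R ∈ Cfsg.straddlingTwoSubgroups M ∧ Cfsg.thompsonSubgroupOf 2 R = Cfsg.thompsonSubgroupOf 2 T ∧
      Nat.card R ≤ Nat.card T := by
  have hR1 : R ≠ ⊥ := fun e => jOf_ne_bot h.isPGroup h.ne_bot (le_bot_iff.mp (e ▸ hJR))
  have hmem : R ∈ Cfsg.straddlingTwoSubgroups M := ⟨hR, hR1, hRM, L, hL, hRL, hLM⟩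
  obtain ⟨h1, h2⟩ := h.max.2 R hmem
  obtain ⟨h3, h4⟩ := jOf_mono hJR
  obtain ⟨h5, h6⟩ := h2 (le_antisymm h1 h3)
  have hJ : Cfsg.thompsonSubgroupOf 2 R = Cfsg.thompsonSubgroupOf 2 T :=
    (Subgroup.eq_of_le_of_card_ge (h4 h1) h5).symm
  exact ⟨hmem, hJ, h6 (by rw [hJ])⟩

theorem normalizer_jOf_le :
    Subgroup.normalizer (Cfsg.thompsonSubgroupOf 2 T : Set G) ≤ M := by
  by_contra hno
  have hN : Cfsg.IsTwoLocal (Subgroup.normalizer (Cfsg.thompsonSubgroupOf 2 T : Set G)) :=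
    ⟨_, h.isPGroup.to_le (jOf_le T), jOf_ne_bot h.isPGroup h.ne_bot, rfl⟩
  obtain ⟨S', hS', hTS'⟩ := exists_sylowTwo_ge h.isPGroup h.le_M
  have hTS : T = S' := by
    refine Cfsg.Agent.Isolated.eq_of_normalizer_le hS'.2.1 hTS' fun g hg hgT => ?_
    set N := Subgroup.normalizer (Cfsg.thompsonSubgroupOf 2 T : Set G)
    have hgJ : g ∈ N := Subgroup.mem_normalizer_iff_map_conj_eq.mpr (by
      show (Cfsg.thompsonSubgroupOf 2 T).map (MulAut.conj g).toMonoidHom = _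
      rw [← jOf_conj]
      exact congrArg (Cfsg.thompsonSubgroupOf 2) (Subgroup.mem_normalizer_iff_map_conj_eq.mp hgT))
    have hle : T ⊔ Subgroup.zpowers g ≤ S' := sup_le hTS' (Subgroup.zpowers_le.mpr hg)
    obtain ⟨-, -, hcard⟩ := h.grow (hS'.2.1.to_le hle) (hle.trans hS'.1)
      ((jOf_le T).trans le_sup_left) hN (sup_le (jOf_normalized T) (Subgroup.zpowers_le.mpr hgJ)) hno
    exact (Subgroup.eq_of_le_of_card_ge le_sup_left hcard).ge (Subgroup.mem_sup_right (Subgroup.mem_zpowers g))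
  subst hTS
  obtain ⟨m, hm, hle⟩ := exists_conj_le hS' S.isPGroup' h.sylow_le_M
  have heq : (S : Subgroup G) = T.map (MulAut.conj m).toMonoidHom :=
    ((S.is_maximal' (hS'.2.1.map _) hle)).symm
  refine hno fun g hg => ?_
  have hmem : m * g * m⁻¹ ∈ M := by
    refine h.normJ (Subgroup.mem_normalizer_iff_map_conj_eq.mpr ?_)
    show (Cfsg.thompsonSubgroupOf 2 (S : Subgroup G)).map (MulAut.conj (m * g * m⁻¹)).toMonoidHom = _
    rw [heq, jOf_conj, map_map_conj, inv_mul_cancel_right, ← map_map_conj,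
      show (Cfsg.thompsonSubgroupOf 2 T).map (MulAut.conj g).toMonoidHom = Cfsg.thompsonSubgroupOf 2 T from
        Subgroup.mem_normalizer_iff_map_conj_eq.mp hg]
  simpa [mul_assoc] using mul_mem (mul_mem (inv_mem hm) hmem) hm

/-- Sylow subgroups above `J(T)` of 2-locals outside `M`. -/
theorem sylow_data {L T₀ : Subgroup G} (hL : Cfsg.IsTwoLocal L) (hLM : ¬ L ≤ M)
    (hT₀ : Cfsg.IsSylowTwoIn T₀ L) (hJ : Cfsg.thompsonSubgroupOf 2 T ≤ T₀) :
    Cfsg.thompsonSubgroupOf 2 T₀ = Cfsg.thompsonSubgroupOf 2 T ∧ T₀ ∈ Cfsg.straddlingTwoSubgroups M ∧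
      Nat.card T₀ ≤ Nat.card T ∧ Setup T₀ L := by
  obtain ⟨-, hJR, -⟩ := h.grow (hT₀.2.1.to_le (inf_le_left : T₀ ⊓ M ≤ T₀)) inf_le_right
    (le_inf hJ ((jOf_le T).trans h.le_M)) hL (inf_le_left.trans hT₀.1) hLM
  have heq : T₀ ⊓ M = T₀ := by
    refine Cfsg.Agent.Isolated.eq_of_normalizer_le hT₀.2.1 inf_le_left fun g hg hgN => ⟨hg, h.normalizer_jOf_le ?_⟩
    rw [← hJR]
    refine Subgroup.mem_normalizer_iff_map_conj_eq.mpr ?_
    show (Cfsg.thompsonSubgroupOf 2 (T₀ ⊓ M)).map (MulAut.conj g).toMonoidHom = _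
    rw [← jOf_conj]
    exact congrArg (Cfsg.thompsonSubgroupOf 2) (Subgroup.mem_normalizer_iff_map_conj_eq.mp hgN)
  obtain ⟨hmem, hJ0, hcard⟩ := h.grow hT₀.2.1 (inf_eq_left.mp heq) hJ hL hT₀.1 hLM
  refine ⟨hJ0, hmem, hcard, h.hyp.setup hL hT₀ fun hle => hLM ?_⟩
  have hQT : Cfsg.pCoreOf 2 L ≤ T₀ := by
    obtain ⟨g, hg, hle'⟩ := exists_conj_le hT₀ (Cfsg.Agent.LargeSub.isPGroup_pCoreOf L)
      (Cfsg.Agent.LargeSub.pCoreOf_le L)
    intro x hx
    obtain ⟨t, ht, he⟩ := hle' ((Subgroup.mem_normalizer_iff.mp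
      (Cfsg.Agent.LargeSub.self_le_normalizer_pCoreOf L hg) x).mp hx)
    have : t = x := mul_left_cancel (mul_right_cancel (show g * t * g⁻¹ = g * x * g⁻¹ from he))
    exact this ▸ ht
  have hJQ := jOf_eq_of_between hle hQT
  refine le_trans (fun g hg => ?_) h.normalizer_jOf_le
  rw [← hJ0, ← hJQ]
  refine Subgroup.mem_normalizer_iff_map_conj_eq.mpr ?_
  show (Cfsg.thompsonSubgroupOf 2 (Cfsg.pCoreOf 2 L)).map (MulAut.conj g).toMonoidHom = _
  rw [← jOf_conj]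
  exact congrArg (Cfsg.thompsonSubgroupOf 2) (Subgroup.mem_normalizer_iff_map_conj_eq.mp
    (Cfsg.Agent.LargeSub.self_le_normalizer_pCoreOf L hg))

/-- `T` is a Sylow subgroup of every 2-local outside `M` containing it. -/
theorem sylow_of_le {L : Subgroup G} (hL : Cfsg.IsTwoLocal L) (hLM : ¬ L ≤ M) (hTL : T ≤ L) :
    Cfsg.IsSylowTwoIn T L ∧ Setup T L := by
  obtain ⟨T₀, hT₀, hle⟩ := exists_sylowTwo_ge h.isPGroup hTL
  obtain ⟨-, -, hcard, hs⟩ := h.sylow_data hL hLM hT₀ ((jOf_le T).trans hle)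
  obtain rfl := Subgroup.eq_of_le_of_card_ge hle hcard
  exact ⟨hT₀, hs⟩

/-- A component outside `M` is in `jComponentsZero`. -/
theorem zero_of_comp {K : Subgroup G} (hK : Cfsg.IsJComponent T K) (hKM : ¬ K ≤ M) :
    K ∈ Cfsg.jComponentsZero T :=
  ⟨hK, fun _ hJR hR => (h.sylow_data (wOf_twoLocal hK) (fun hle => hKM ((le_normalizer_wOf K).trans hle))
    hR hJR).1⟩

/-- Some component lies outside `M`. -/
theorem exists_outside : (Cfsg.jComponentsOutside M T).Nonempty := by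
  obtain ⟨L, hL, hTL, hLM⟩ := h.max.1.2.2.2
  obtain ⟨-, hs⟩ := h.sylow_of_le hL hLM hTL
  obtain ⟨K, hK, hKL, hKM⟩ : ∃ K, Cfsg.IsJComponent T K ∧ K ≤ L ∧ ¬ K ≤ M := by
    by_contra hno
    push Not at hno
    exact hLM (hs.le_of_comps (inf_le_right.trans h.normalizer_jOf_le) hno)
  refine ⟨K, h.zero_of_comp hK hKM, hKM, fun hbot => hs.q_ne_bot (le_bot_iff.mp ?_)⟩
  refine le_of_le_of_eq ?_ hbot
  exact Cfsg.Agent.LargeSub.le_pCoreOf (hs.q_le.trans le_sup_right)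
    ((sup_le hKL hTL).trans (Cfsg.Agent.LargeSub.self_le_normalizer_pCoreOf L))
    (Cfsg.Agent.LargeSub.isPGroup_pCoreOf L)

end Straddle

end Cfsg.Agent.JComp
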