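import Cfsg.Agent.Lib.JComp.Subnormal
import Cfsg.Agent.Lib.JComp.Split
import Cfsg.Agent.Lib.JComp.Straddle

/-!
One side of an amalgam: a component `K` normalised by `T`, with `T` Sylow in every 2-local over `⟨K, T⟩`.

* `Side`; `Side.exists_y`, `Side.exists_w`, `Side.mem_q`, `Side.q_mul`, `Side.exists_swap`,
  `Side.invert`, `Side.comm_mem`, `Side.mem_P`, `Side.sylow_P`, `Side.sylow_eq`, `Side.oddOf_eq`
-/

set_option autoImplicit false

namespace Cfsg.Agent.JComp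

open Cfsg.Agent.PLocal

variable {G : Type*} [Group G]

/-- `K` is a component normalised by `T`, and `T` is Sylow in every 2-local over `⟨K, T⟩`. -/
structure Side (T K : Subgroup G) : Prop where
  hyp : Hyp G
  twoGroup : IsPGroup 2 T
  comp : Cfsg.IsJComponent T K
  norm : T ≤ Subgroup.normalizer (K : Set G)
  sylow : ∀ N : Subgroup G, Cfsg.IsTwoLocal N → K ⊔ T ≤ N → Cfsg.IsSylowTwoIn T N
  exists_local : ∃ N : Subgroup G, Cfsg.IsTwoLocal N ∧ K ⊔ T ≤ N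

/-- The subgroup generated by the elements of odd order. -/
def oddOf (P : Subgroup G) : Subgroup G := Subgroup.closure {g : G | g ∈ P ∧ Odd (orderOf g)}

variable [Finite G]

theorem Setup.comp_rep {T L K : Subgroup G} (hs : Setup T L) (hK : Cfsg.IsJComponent T K) (hKL : K ≤ L) :
    (∃ y ∈ K, y ^ 3 = 1 ∧ (∀ g ∈ K, ∃ i : ℕ, (y ^ i)⁻¹ * g ∈ Cfsg.pCoreOf 2 K) ∧
      ∀ w ∈ Cfsg.wOf K, y * w * y⁻¹ = w → w = 1) ∧
    Cfsg.wOf K ≤ Cfsg.omegaCenterOf (Cfsg.pCoreOf 2 K) ∧ Cfsg.wOf K ≤ vOf T L := by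
  obtain ⟨y, hy, rfl⟩ := hs.exists_root_of_comp hK hKL
  rw [hs.wOf_compOf hy]
  refine ⟨?_, (hs.wImage_le_wOf hy).2, Subgroup.map_subtype_le _⟩
  obtain ⟨k, hk, hk3, hky⟩ := hs.exists_rep hy
  refine ⟨k, hk, hk3, fun g hg => ?_, ?_⟩
  · obtain ⟨i, hi⟩ := mem_powers_iff_mem_zpowers.mpr (toBar_compOf L (g := ⟨g, compOf_le L y hg⟩) hg)
    refine ⟨i, ?_⟩
    rw [(hs.pCoreOf_compOf hy).1]
    refine ⟨(compOf L y).mul_mem ((compOf L y).inv_mem ((compOf L y).pow_mem hk i)) hg, ?_⟩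
    have : toBar L (k ^ i) = toBar L ⟨g, compOf_le L y hg⟩ := by rw [map_pow, hky]; exact hi
    simpa using toBar_eq_iff.mp this
  · rintro _ ⟨v, hv, rfl⟩ h
    have hfix : hs.fBar y • v = v := by
      refine Subtype.ext ?_
      rw [← hky, hs.fBar_toBar, smul_coe]
      exact h
    rw [eq_one_of_mem_moved_of_fixed hs.exp2 (Factor.odd hs.exp2 hs.good hy.factor) hv hfix, map_one]

namespace Side

variable {T K : Subgroup G} (s : Side T K)
include s

omit [Finite G] in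
theorem jK : Cfsg.thompsonSubgroupOf 2 T ≤ Subgroup.normalizer (K : Set G) := jOf_le_normalizer s.comp

omit [Finite G] in
theorem setup {N : Subgroup G} (hN : Cfsg.IsTwoLocal N) (hP : K ⊔ T ≤ N) : Setup T N :=
  s.hyp.setup hN (s.sylow N hN hP) (not_jOf_le_pCoreOf s.comp (le_sup_left.trans hP))

theorem exists_y : ∃ y ∈ K, y ^ 3 = 1 ∧ (∀ g ∈ K, ∃ i : ℕ, (y ^ i)⁻¹ * g ∈ Cfsg.pCoreOf 2 K) ∧
    ∀ w ∈ Cfsg.wOf K, y * w * y⁻¹ = w → w = 1 := by
  obtain ⟨N, hN, hP⟩ := s.exists_local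
  exact ((s.setup hN hP).comp_rep s.comp (le_sup_left.trans hP)).1

theorem w_le_u : Cfsg.wOf K ≤ Cfsg.omegaCenterOf (Cfsg.pCoreOf 2 K) := by
  obtain ⟨N, hN, hP⟩ := s.exists_local
  exact ((s.setup hN hP).comp_rep s.comp (le_sup_left.trans hP)).2.1

theorem w_comm {u v : G} (hu : u ∈ Cfsg.wOf K) (hv : v ∈ Cfsg.wOf K) : u * v = v * u :=
  (mem_omegaCenterOf.mp (s.w_le_u hv)).2.1 u (omegaCenterOf_le _ (s.w_le_u hu))

omit [Finite G] in
theorem w_sq {w : G} (hw : w ∈ Cfsg.wOf K) : w * w = 1 := s.comp.2.2.2.2.2 w hw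

theorem core_le : Cfsg.pCoreOf 2 K ≤ T := by
  obtain ⟨N, hN, hP⟩ := s.exists_local
  have hle : T ≤ Subgroup.normalizer (Cfsg.pCoreOf 2 K : Set G) :=
    s.norm.trans (Cfsg.Agent.LargeSub.le_normalizer_pCoreOf K)
  have h := eq_of_le_twoGroup (s.sylow N hN hP)
    ((Cfsg.Agent.LargeSub.isPGroup_pCoreOf K).to_sup_of_normal_left' s.twoGroup hle)
    (sup_le (((Cfsg.Agent.LargeSub.pCoreOf_le K).trans le_sup_left).trans hP) (le_sup_right.trans hP))
    le_sup_right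
  exact le_sup_left.trans h.le

theorem w_le_T : Cfsg.wOf K ≤ T := (s.w_le_u.trans (omegaCenterOf_le _)).trans s.core_le

omit [Finite G] in
theorem T_le_normalizer_z0 :
    T ≤ Subgroup.normalizer (Cfsg.omegaCenterOf (Cfsg.thompsonSubgroupOf 2 T) : Set G) := fun t ht => by
  rw [Subgroup.mem_normalizer_iff_map_conj_eq]
  show (Cfsg.omegaCenterOf _).map (MulAut.conj t).toMonoidHom = _
  rw [← omegaCenterOf_conj]
  exact congrArg Cfsg.omegaCenterOf (Subgroup.mem_normalizer_iff_map_conj_eq.mp (jOf_normalized T ht))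

theorem T_le_normalizer_w : T ≤ Subgroup.normalizer (Cfsg.wOf K : Set G) :=
  s.norm.trans (normalizer_le_normalizer_wOf K)

theorem exists_w : ∃ w ∈ Cfsg.wOf K, w ≠ 1 ∧ w ∈ Cfsg.omegaCenterOf (Cfsg.thompsonSubgroupOf 2 T) ∧
    (∀ v ∈ Cfsg.wOf K, v ∈ Cfsg.omegaCenterOf (Cfsg.thompsonSubgroupOf 2 T) → v = 1 ∨ v = w) ∧
    ∀ t ∈ T, t * w * t⁻¹ = w := by
  obtain ⟨h2, -⟩ := comp_split s.twoGroup s.comp
  set D := Cfsg.omegaCenterOf (Cfsg.thompsonSubgroupOf 2 T) ⊓ Cfsg.wOf K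
  have : Nontrivial D := Finite.one_lt_card_iff_nontrivial.mp (by omega)
  obtain ⟨⟨w, hw⟩, hw1⟩ := exists_ne (1 : D)
  have huniq : ∀ v ∈ D, v = 1 ∨ v = w := by
    intro v hv
    by_contra h
    simp only [not_or] at h
    have hinj : Function.Injective ![(1 : D), ⟨w, hw⟩, ⟨v, hv⟩] := by
      intro i j hij
      have hij' := congrArg Subtype.val hij
      have : w ≠ 1 := fun e => hw1 (Subtype.ext e)
      have := h.1
      have := h.2
      clear hij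
      fin_cases i <;> fin_cases j <;> simp at hij' ⊢ <;>
        first | exact absurd hij' (by assumption) | exact absurd hij'.symm (by assumption)
    have := Nat.card_le_card_of_injective _ hinj
    rw [h2, Nat.card_fin] at this
    omega
  refine ⟨w, hw.2, fun e => hw1 (Subtype.ext e), hw.1, fun v h1 h3 => huniq v ⟨h3, h1⟩, fun t ht => ?_⟩
  refine (huniq _ ⟨(Subgroup.mem_normalizer_iff.mp (s.T_le_normalizer_z0 ht) w).mp hw.1,
    (Subgroup.mem_normalizer_iff.mp (s.T_le_normalizer_w ht) w).mp hw.2⟩).resolve_left ?_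
  exact fun e => hw1 (Subtype.ext (conj_eq_one_iff.mp e))

/-- Two elements of `W` generate it. -/
theorem w_gen {u v : G} (hu : u ∈ Cfsg.wOf K) (hv : v ∈ Cfsg.wOf K) (h1 : u ≠ 1) (h2 : v ≠ 1)
    (h3 : u ≠ v) {x : G} (hx : x ∈ Cfsg.wOf K) : x = 1 ∨ x = u ∨ x = v ∨ x = u * v := by
  by_contra h
  simp only [not_or] at h
  obtain ⟨m1, m2, m3, m4⟩ := h
  have n3 : u * v ≠ 1 := fun h => h3 (by
    rw [mul_eq_one_iff_eq_inv.mp h, inv_eq_of_mul_eq_one_right (s.w_sq hv)])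
  have n4 : u * v ≠ u := fun h => h2 (mul_eq_left.mp h)
  have n5 : u * v ≠ v := fun h => h1 (mul_eq_right.mp h)
  have hinj : Function.Injective
      ![(⟨1, one_mem _⟩ : Cfsg.wOf K), ⟨u, hu⟩, ⟨v, hv⟩, ⟨u * v, mul_mem hu hv⟩, ⟨x, hx⟩] := by
    intro i j hij
    have hij' := congrArg Subtype.val hij
    clear hij
    fin_cases i <;> fin_cases j <;> simp at hij' ⊢ <;>
      first | exact absurd hij' (by assumption) | exact absurd hij'.symm (by assumption)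
  have := Nat.card_le_card_of_injective _ hinj
  rw [s.comp.2.2.2.2.1, Nat.card_fin] at this
  omega

theorem exists_moved : ∃ x ∈ Cfsg.wOf K, x ≠ 1 ∧
    x ∉ Cfsg.omegaCenterOf (Cfsg.thompsonSubgroupOf 2 T) := by
  obtain ⟨h2, -⟩ := comp_split s.twoGroup s.comp
  by_contra hno
  push Not at hno
  have : Cfsg.omegaCenterOf (Cfsg.thompsonSubgroupOf 2 T) ⊓ Cfsg.wOf K = Cfsg.wOf K :=
    inf_eq_right.mpr fun x hx => by
      by_cases h : x = 1
      · rw [h]; exact one_mem _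
      · exact hno x hx h
  rw [this, s.comp.2.2.2.2.1] at h2
  omega

/-- The elements of `T` centralising `W`. -/
def qT (_s : Side T K) : Subgroup G := T ⊓ Subgroup.centralizer (Cfsg.wOf K : Set G)

/-- An element of `T` fixing a second element of `W` centralises it. -/
theorem fix_imp {t : G} (ht : t ∈ T) {x : G} (hx : x ∈ Cfsg.wOf K)
    (hx0 : x ∉ Cfsg.omegaCenterOf (Cfsg.thompsonSubgroupOf 2 T)) (h : t * x * t⁻¹ = x) : t ∈ qT s := by
  obtain ⟨w, hw, hw1, hwz, -, hwf⟩ := s.exists_w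
  refine ⟨ht, Subgroup.mem_centralizer_iff.mpr fun v hv => (mul_inv_eq_iff_eq_mul.mp ?_).symm⟩
  rcases s.w_gen hw hx hw1 (fun e => hx0 (e ▸ one_mem _)) (fun e => hx0 (e ▸ hwz)) hv with rfl | rfl | rfl | rfl
  · simp
  · exact hwf t ht
  · exact h
  · calc t * (w * x) * t⁻¹ = (t * w * t⁻¹) * (t * x * t⁻¹) := by group
      _ = w * x := by rw [hwf t ht, h]

/-- The commutator of an element of `T` with one of `W`. -/
theorem comm_mem {t x w : G} (ht : t ∈ T) (hx : x ∈ Cfsg.wOf K) (hw : w ∈ Cfsg.wOf K) (hw1 : w ≠ 1)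
    (hwz : w ∈ Cfsg.omegaCenterOf (Cfsg.thompsonSubgroupOf 2 T)) :
    t * x * t⁻¹ = x ∨ t * x * t⁻¹ = x * w := by
  obtain ⟨w', hw', hw'1, hwz', huniq, hwf⟩ := s.exists_w
  obtain rfl : w = w' := (huniq w hw hwz).resolve_left hw1
  by_cases hx1 : x ∈ Cfsg.omegaCenterOf (Cfsg.thompsonSubgroupOf 2 T)
  · left
    rcases huniq x hx hx1 with rfl | rfl
    · simp
    · exact hwf t ht
  rcases s.w_gen hw hx hw1 (fun e => hx1 (e ▸ one_mem _)) (fun e => hx1 (e ▸ hwz))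
    ((Subgroup.mem_normalizer_iff.mp (s.T_le_normalizer_w ht) x).mp hx) with h | h | h | h
  · exact absurd (conj_eq_one_iff.mp h ▸ one_mem _) hx1
  · exfalso
    refine hx1 ?_
    have h2 := mul_inv_eq_iff_eq_mul.mp h
    rw [show x = t⁻¹ * w * t by rw [mul_assoc, ← h2]; group]
    exact (Subgroup.mem_normalizer_iff''.mp (s.T_le_normalizer_z0 ht) w).mp hwz
  · exact Or.inl h
  · right; rw [h, s.w_comm hw hx]

theorem q_mul {a b : G} (ha : a ∈ T) (hb : b ∈ T) (ha' : a ∉ qT s) (hb' : b ∉ qT s) : a * b ∈ qT s := by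
  obtain ⟨w, hw, hw1, hwz, -, hwf⟩ := s.exists_w
  obtain ⟨x, hx, -, hx0⟩ := s.exists_moved
  refine s.fix_imp (mul_mem ha hb) hx hx0 ?_
  have h : ∀ t ∈ T, t ∉ qT s → t * x * t⁻¹ = x * w := fun t ht ht' =>
    (s.comm_mem ht hx hw hw1 hwz).resolve_left fun e => ht' (s.fix_imp ht hx hx0 e)
  calc a * b * x * (a * b)⁻¹ = a * (b * x * b⁻¹) * a⁻¹ := by group
    _ = (a * x * a⁻¹) * (a * w * a⁻¹) := by rw [h b hb hb']; group
    _ = x := by rw [h a ha ha', hwf a ha, mul_assoc, s.w_sq hw, mul_one]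

theorem exists_swap : ∃ a ∈ Cfsg.thompsonSubgroupOf 2 T, a ∉ qT s := by
  by_contra hno
  push Not at hno
  obtain ⟨N, hN, hP⟩ := s.exists_local
  have hs := s.setup hN hP
  have hKN : K ≤ N := le_sup_left.trans hP
  obtain ⟨x, hx, hx1, hx0⟩ := s.exists_moved
  have hWV := (hs.comp_rep s.comp hKN).2.2
  refine hx0 (mem_omegaCenterOf.mpr ⟨hs.vOf_le_jOf (hWV hx), fun j hj => ?_, s.w_sq hx⟩)
  exact (Subgroup.mem_centralizer_iff.mp (hno j hj).2 x hx).symm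

/-- An element of `T` outside `qT` inverts `y` modulo `O₂(K)`. -/
theorem invert {y : G} (hy : y ∈ K) (hy3 : y ^ 3 = 1)
    (hdec : ∀ g ∈ K, ∃ i : ℕ, (y ^ i)⁻¹ * g ∈ Cfsg.pCoreOf 2 K)
    (hfp : ∀ w ∈ Cfsg.wOf K, y * w * y⁻¹ = w → w = 1)
    {a : G} (ha : a ∈ T) (ha' : a ∉ qT s) : ∃ p ∈ Cfsg.pCoreOf 2 K, a * y * a⁻¹ = y⁻¹ * p := by
  have hKP := Cfsg.Agent.LargeSub.self_le_normalizer_pCoreOf (p := 2) K
  have hTP : T ≤ Subgroup.normalizer (Cfsg.pCoreOf 2 K : Set G) :=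
    s.norm.trans (Cfsg.Agent.LargeSub.le_normalizer_pCoreOf K)
  obtain ⟨w, hw, hw1, hwz, -, hwf⟩ := s.exists_w
  have hPfix : ∀ p ∈ Cfsg.pCoreOf 2 K, ∀ v ∈ Cfsg.wOf K, p * v * p⁻¹ = v := fun p hp v hv => by
    rw [(mem_omegaCenterOf.mp (s.w_le_u hv)).2.1 p hp, mul_inv_cancel_right]
  have hyw : y * w * y⁻¹ ∈ Cfsg.wOf K := (Subgroup.mem_normalizer_iff.mp (le_normalizer_wOf K hy) w).mp hw
  obtain ⟨i, hi⟩ := hdec _ ((Subgroup.mem_normalizer_iff.mp (s.norm ha) y).mp hy)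
  set p := (y ^ i)⁻¹ * (a * y * a⁻¹) with hp
  have hyi : y ^ i = y ^ (i % 3) := by
    conv_lhs => rw [← Nat.mod_add_div i 3, pow_add, pow_mul, hy3, one_pow, mul_one]
  have heq : a * y * a⁻¹ = y ^ (i % 3) * p := by
    rw [hp, ← hyi, mul_inv_cancel_left]
  obtain h | h | h : i % 3 = 0 ∨ i % 3 = 1 ∨ i % 3 = 2 := by omega
  · exfalso
    rw [h, pow_zero, one_mul] at heq
    have := (Subgroup.mem_normalizer_iff.mp (hTP ha) y).mpr (by rw [heq]; exact hi)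
    exact hw1 (hfp w hw (hPfix y this w hw))
  · exfalso
    rw [h, pow_one] at heq
    have hne : w ≠ y * w * y⁻¹ := fun e => hw1 (hfp w hw e.symm)
    refine ha' ⟨ha, Subgroup.mem_centralizer_iff.mpr fun v hv => (mul_inv_eq_iff_eq_mul.mp ?_).symm⟩
    have hfy : a * (y * w * y⁻¹) * a⁻¹ = y * w * y⁻¹ := by
      calc a * (y * w * y⁻¹) * a⁻¹ = (a * y * a⁻¹) * (a * w * a⁻¹) * (a * y * a⁻¹)⁻¹ := by group
        _ = y * (p * w * p⁻¹) * y⁻¹ := by rw [hwf a ha, heq]; group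
        _ = y * w * y⁻¹ := by rw [hPfix p hi w hw]
    rcases s.w_gen hw hyw hw1 (fun e => hw1 (conj_eq_one_iff.mp e)) hne hv with rfl | rfl | rfl | rfl
    · simp
    · exact hwf a ha
    · exact hfy
    · calc a * (w * (y * w * y⁻¹)) * a⁻¹ = (a * w * a⁻¹) * (a * (y * w * y⁻¹) * a⁻¹) := by group
        _ = _ := by rw [hwf a ha, hfy]
  · refine ⟨p, hi, ?_⟩
    rw [heq, h, inv_eq_of_mul_eq_one_left (show y ^ 2 * y = 1 by rw [← pow_succ, hy3])]

omit [Finite G] in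
theorem mem_P {g : G} (hg : g ∈ K ⊔ T) : ∃ k ∈ K, ∃ t ∈ T, k * t = g := by
  rw [← SetLike.mem_coe, Subgroup.coe_mul_of_right_le_normalizer_left K T s.norm] at hg
  exact hg

/-- Elements of `⟨K, T⟩` are a power of `y` times an element of `T`. -/
theorem mem_P' {y : G} (hdec : ∀ g ∈ K, ∃ i : ℕ, (y ^ i)⁻¹ * g ∈ Cfsg.pCoreOf 2 K) {g : G}
    (hg : g ∈ K ⊔ T) : ∃ i : ℕ, ∃ t ∈ T, g = y ^ i * t := by
  obtain ⟨k, hk, t, ht, rfl⟩ := s.mem_P hg
  obtain ⟨i, hi⟩ := hdec k hk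
  exact ⟨i, _, mul_mem (s.core_le hi) ht, by group⟩

omit [Finite G] in
theorem oddOf_eq : oddOf (K ⊔ T) = K := by
  refine le_antisymm ((Subgroup.closure_le _).mpr fun g hg => ?_) ?_
  · obtain ⟨k, hk, t, ht, rfl⟩ := s.mem_P hg.1
    exact mem_left_of_odd s.twoGroup s.norm hk ht hg.2
  · conv_lhs => rw [← s.comp.1]
    exact Subgroup.closure_mono fun g hg => ⟨Subgroup.mem_sup_left hg.1, hg.2⟩

theorem le_normalizer_w : K ⊔ T ≤ Subgroup.normalizer (Cfsg.wOf K : Set G) :=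
  sup_le (le_normalizer_wOf K) s.T_le_normalizer_w

omit [Finite G] in
theorem sylow_P : Cfsg.IsSylowTwoIn T (K ⊔ T) := by
  obtain ⟨N, hN, hP⟩ := s.exists_local
  refine ⟨le_sup_right, s.twoGroup, (s.sylow N hN hP).2.2.of_dvd_nat ?_⟩
  exact ⟨_, (Subgroup.relIndex_mul_relIndex T (K ⊔ T) N le_sup_right hP).symm⟩

theorem q_eq : qT s = Cfsg.pCoreOf 2 (K ⊔ T) := by
  set P := K ⊔ T with hPdef
  obtain ⟨y, hy, hy3, hdec, hfp⟩ := s.exists_y
  obtain ⟨w, hw, hw1, -, -, hwf⟩ := s.exists_w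
  have hfix : ∀ g ∈ P, g ∈ Subgroup.centralizer (Cfsg.wOf K : Set G) → g ∈ qT s := by
    intro g hg hgc
    obtain ⟨i, t, ht, rfl⟩ := s.mem_P' hdec hg
    have h1 : y ^ i * w * (y ^ i)⁻¹ = w := by
      have h2 := mul_inv_eq_iff_eq_mul.mpr (Subgroup.mem_centralizer_iff.mp hgc w hw).symm
      calc y ^ i * w * (y ^ i)⁻¹ = y ^ i * (t * w * t⁻¹) * (y ^ i)⁻¹ := by rw [hwf t ht]
        _ = y ^ i * t * w * (y ^ i * t)⁻¹ := by group
        _ = w := h2
    have hi : y ^ i = 1 := by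
      rw [← Nat.mod_add_div i 3, pow_add, pow_mul, hy3, one_pow, mul_one] at h1 ⊢
      obtain h | h | h : i % 3 = 0 ∨ i % 3 = 1 ∨ i % 3 = 2 := by omega
      · rw [h, pow_zero]
      · rw [h, pow_one] at h1; exact absurd (hfp w hw h1) hw1
      · exfalso
        rw [h] at h1
        refine hw1 (hfp w hw ?_)
        calc y * w * y⁻¹ = y * (y ^ 2 * w * (y ^ 2)⁻¹) * y⁻¹ := by rw [h1]
          _ = (y * y ^ 2) * w * (y * y ^ 2)⁻¹ := by group
          _ = w := by rw [← pow_succ', hy3]; group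
    rw [hi, one_mul] at hgc ⊢
    exact ⟨ht, hgc⟩
  have hle : qT s ≤ Cfsg.pCoreOf 2 P := by
    refine Cfsg.Agent.LargeSub.le_pCoreOf (inf_le_left.trans le_sup_right) ?_ (s.twoGroup.to_le inf_le_left)
    refine Subgroup.le_normalizer_iff.mpr fun g hg q hq => hfix _ (P.mul_mem (P.mul_mem hg (Subgroup.mem_sup_right hq.1)) (P.inv_mem hg)) ?_
    rw [Subgroup.mem_centralizer_iff]
    intro v hv
    have hv' := (Subgroup.mem_normalizer_iff''.mp (s.le_normalizer_w hg) v).mp hv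
    have h := Subgroup.mem_centralizer_iff.mp hq.2 _ hv'
    calc v * (g * q * g⁻¹) = g * ((g⁻¹ * v * g) * q) * g⁻¹ := by group
      _ = g * (q * (g⁻¹ * v * g)) * g⁻¹ := by rw [h]
      _ = g * q * g⁻¹ * v := by group
  refine le_antisymm hle fun x hx => ?_
  have hxT : x ∈ T := by
    have h := eq_of_le_twoGroup s.sylow_P
      ((Cfsg.Agent.LargeSub.isPGroup_pCoreOf P).to_sup_of_normal_left' s.twoGroup
        (le_sup_right.trans (Cfsg.Agent.LargeSub.self_le_normalizer_pCoreOf P)))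
      (sup_le (Cfsg.Agent.LargeSub.pCoreOf_le P) le_sup_right) le_sup_right
    exact h.le (Subgroup.mem_sup_left hx)
  by_contra hxq
  refine not_jOf_le_pCoreOf s.comp (N := P) le_sup_left fun j hj => ?_
  by_cases hjq : j ∈ qT s
  · exact hle hjq
  · have := mul_mem (hle (s.q_mul (jOf_le T hj) (inv_mem hxT) hjq (fun h => hxq (by simpa using inv_mem h)))) hx
    simpa using this

theorem mem_q {g : G} : g ∈ Cfsg.pCoreOf 2 (K ⊔ T) ↔ g ∈ T ∧ ∀ w ∈ Cfsg.wOf K, w * g = g * w := by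
  rw [← s.q_eq]
  exact ⟨fun h => ⟨h.1, fun w hw => Subgroup.mem_centralizer_iff.mp h.2 w hw⟩,
    fun h => ⟨h.1, Subgroup.mem_centralizer_iff.mpr h.2⟩⟩

theorem q_le_T : Cfsg.pCoreOf 2 (K ⊔ T) ≤ T := fun _ h => (s.mem_q.mp h).1

theorem w_le_q : Cfsg.wOf K ≤ Cfsg.pCoreOf 2 (K ⊔ T) := fun _ hw =>
  s.mem_q.mpr ⟨s.w_le_T hw, fun _ hv => s.w_comm hv hw⟩

/-- The Sylow 2-subgroups of `⟨K, T⟩` are the conjugates of `T` by powers of `y`. -/
theorem sylow_eq {y : G} (hdec : ∀ g ∈ K, ∃ i : ℕ, (y ^ i)⁻¹ * g ∈ Cfsg.pCoreOf 2 K)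
    {T' : Subgroup G} (hT' : Cfsg.IsSylowTwoIn T' (K ⊔ T)) :
    ∃ i : ℕ, T' = T.map (MulAut.conj (y ^ i)).toMonoidHom := by
  obtain ⟨g, hg, hle⟩ := exists_conj_le s.sylow_P hT'.2.1 hT'.1
  obtain ⟨i, t, ht, rfl⟩ := s.mem_P' hdec hg
  refine ⟨i, ?_⟩
  have he : T.map (MulAut.conj (y ^ i * t)).toMonoidHom = T.map (MulAut.conj (y ^ i)).toMonoidHom := by
    rw [← map_map_conj, map_conj_eq_self (Subgroup.le_normalizer ht)]
  refine (Subgroup.eq_of_le_of_card_ge (hle.trans he.le) ?_)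
  exact ((Subgroup.card_map_of_injective (MulAut.conj (y ^ i)).injective).trans
    (card_eq_of_sylowTwo s.sylow_P hT')).le

omit [Finite G] s in
theorem map_sup_eq (g : G) : K.map (MulAut.conj g).toMonoidHom ⊔ T.map (MulAut.conj g).toMonoidHom =
    (K ⊔ T).map (MulAut.conj g).toMonoidHom := (Subgroup.map_sup _ _ _).symm

end Side

omit [Finite G] in
theorem isTwoLocal_map {N : Subgroup G} (hN : Cfsg.IsTwoLocal N) (g : G) :
    Cfsg.IsTwoLocal (N.map (MulAut.conj g).toMonoidHom) := by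
  obtain ⟨R, hR, hR1, rfl⟩ := hN
  refine ⟨R.map (MulAut.conj g).toMonoidHom, hR.map _, fun h => hR1 ?_, ?_⟩
  · exact (Subgroup.map_eq_bot_iff_of_injective _ (MulAut.conj g).injective).mp h
  · exact Subgroup.map_normalizer_eq_of_bijective _ (MulAut.conj g).bijective

theorem Side.conj {T K : Subgroup G} (s : Side T K) (g : G) :
    Side (T.map (MulAut.conj g).toMonoidHom) (K.map (MulAut.conj g).toMonoidHom) := by
  refine ⟨s.hyp, s.twoGroup.map _, isJComponent_conj s.comp g, ?_, ?_, ?_⟩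
  · exact (Subgroup.map_mono s.norm).trans (Subgroup.le_normalizer_map _)
  · intro N hN hP
    have h := s.sylow _ (isTwoLocal_map hN g⁻¹) (by rw [← map_conj_le_iff, Subgroup.map_sup]; exact hP)
    have := sylowTwo_conj h g
    rwa [map_map_conj, mul_inv_cancel, map_conj_one] at this
  · obtain ⟨N, hN, hP⟩ := s.exists_local
    exact ⟨_, isTwoLocal_map hN g, by rw [← Subgroup.map_sup]; exact Subgroup.map_mono hP⟩

end Cfsg.Agent.JComp
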