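import Cfsg.Agent.Lib.JComp.Pair

/-!
Pairs of components whose four-groups do not commute.

* `sqOf`; `Pair.false_of_normalized`, `Pair.w_eq`, `Pair.small_data`, `Pair.not_commute_of_small`
-/

set_option autoImplicit false

namespace Cfsg.Agent.JComp

open Cfsg.Agent.PLocal

variable {G : Type*} [Group G]

/-- The subgroup generated by the squares of `H`. -/
def sqOf (H : Subgroup G) : Subgroup G := Subgroup.closure {x | ∃ h ∈ H, h * h = x}

theorem sq_mem_sqOf {H : Subgroup G} {h : G} (hh : h ∈ H) : h * h ∈ sqOf H :=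
  Subgroup.subset_closure ⟨h, hh, rfl⟩

theorem sqOf_le {H A : Subgroup G} (h : ∀ x ∈ H, x * x ∈ A) : sqOf H ≤ A :=
  (Subgroup.closure_le _).mpr fun _ ⟨_, hx, he⟩ => he ▸ h _ hx

theorem sqOf_le_self (H : Subgroup G) : sqOf H ≤ H := sqOf_le fun _ hx => mul_mem hx hx

theorem sqOf_mono {H A : Subgroup G} (h : H ≤ A) : sqOf H ≤ sqOf A :=
  sqOf_le fun _ hx => sq_mem_sqOf (h hx)

theorem normalizer_le_normalizer_sqOf (H : Subgroup G) :
    Subgroup.normalizer (H : Set G) ≤ Subgroup.normalizer (sqOf H : Set G) := by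
  rw [Subgroup.le_normalizer_iff]
  intro g hg x hx
  induction hx using Subgroup.closure_induction with
  | mem x hx =>
    obtain ⟨h, hh, rfl⟩ := hx
    rw [show g * (h * h) * g⁻¹ = (g * h * g⁻¹) * (g * h * g⁻¹) by group]
    exact sq_mem_sqOf ((Subgroup.mem_normalizer_iff.mp hg h).mp hh)
  | one => simp
  | mul a b _ _ ha hb => rw [← conj_mul]; exact mul_mem ha hb
  | inv a _ ha => rw [← conj_inv]; exact inv_mem ha

theorem elemAb_of_sq {H : Subgroup G} (h : ∀ x ∈ H, x * x = 1) : Cfsg.IsElementaryAbelian 2 H := by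
  rw [← Subgroup.closure_eq H]
  refine elemAb_closure (fun a ha b hb => ?_) fun a ha => by rw [pow_two]; exact h a ha
  have hi : ∀ x ∈ H, x⁻¹ = x := fun x hx => inv_eq_of_mul_eq_one_right (h x hx)
  calc a * b = (a * b)⁻¹ := (hi _ (mul_mem ha hb)).symm
    _ = b * a := by rw [mul_inv_rev, hi a ha, hi b hb]

variable [Finite G]

omit [Finite G] in
theorem card_eq_two_mul {A B : Subgroup G} (hAB : A ≤ B) {x : G} (hx : x ∈ B) (hxA : x ∉ A)
    (h : ∀ g ∈ B, g ∈ A ∨ g * x ∈ A) : Nat.card B = 2 * Nat.card A := by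
  rw [show (2 : ℕ) = Nat.card Bool from by simp, ← Nat.card_prod]
  refine (Nat.card_congr (Equiv.ofBijective
    (fun q : Bool × A => (⟨q.2.1 * cond q.1 x⁻¹ 1,
      mul_mem (hAB q.2.2) (by cases q.1 <;> simp [inv_mem hx, one_mem])⟩ : B)) ⟨?_, ?_⟩)).symm
  · rintro ⟨e, a⟩ ⟨e', a'⟩ hq
    have hq' : (a : G) * cond e x⁻¹ 1 = a' * cond e' x⁻¹ 1 := congrArg Subtype.val hq
    rcases e with - | - <;> rcases e' with - | -
    · simp only [cond_false, mul_one] at hq'; rw [Subtype.ext hq']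
    · exfalso
      simp only [cond_false, cond_true, mul_one] at hq'
      have : x = (a : G)⁻¹ * a' := by rw [hq']; group
      exact hxA (this ▸ mul_mem (inv_mem a.2) a'.2)
    · exfalso
      simp only [cond_false, cond_true, mul_one] at hq'
      have : x = (a' : G)⁻¹ * a := by rw [← hq']; group
      exact hxA (this ▸ mul_mem (inv_mem a'.2) a.2)
    · simp only [cond_true, mul_left_inj] at hq'; rw [Subtype.ext hq']
  · rintro ⟨g, hg⟩
    rcases h g hg with h' | h'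
    · exact ⟨(false, ⟨g, h'⟩), Subtype.ext (mul_one g)⟩
    · exact ⟨(true, ⟨g * x, h'⟩), Subtype.ext (mul_inv_cancel_right g x)⟩

namespace Side

variable {T K : Subgroup G} (s : Side T K)
include s

/-- `O₂(⟨K, T⟩)` has index 2 in `T`. -/
theorem card_q : Nat.card T = 2 * Nat.card ↥(Cfsg.pCoreOf 2 (K ⊔ T)) := by
  obtain ⟨a, ha, ha'⟩ := s.exists_swap
  rw [← s.q_eq]
  exact card_eq_two_mul inf_le_left (jOf_le T ha) ha' fun g hg => by
    by_cases h : g ∈ qT s
    · exact Or.inl h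
    · exact Or.inr (s.q_mul hg (jOf_le T ha) h ha')

end Side

namespace Pair

variable {T K K' : Subgroup G} (p : Pair T K K')
include p

omit [Finite G] in
theorem false_of_normalized {R : Subgroup G} (hR : R ≤ T) (hR1 : R ≠ ⊥)
    (h : K ⊔ T ≤ Subgroup.normalizer (R : Set G)) (h' : K' ⊔ T ≤ Subgroup.normalizer (R : Set G)) : False :=
  p.no_common _ ⟨R, p.left.twoGroup.to_le hR, hR1, rfl⟩ h h'

theorem q_ne : Cfsg.pCoreOf 2 (K ⊔ T) ≠ Cfsg.pCoreOf 2 (K' ⊔ T) := by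
  intro e
  obtain ⟨w, hw, hw1, -⟩ := p.left.exists_w
  refine p.false_of_normalized p.left.q_le_T
    (fun h => hw1 (Subgroup.mem_bot.mp (h ▸ p.left.w_le_q hw))) ?_ ?_
  · exact Cfsg.Agent.LargeSub.self_le_normalizer_pCoreOf _
  · rw [e]; exact Cfsg.Agent.LargeSub.self_le_normalizer_pCoreOf _

/-- The fixed points of noncommuting four-groups coincide. -/
theorem w_eq {a b : G} (ha : a ∈ Cfsg.wOf K) (hb : b ∈ Cfsg.wOf K') (hab : a * b ≠ b * a) :
    ∃ w, w ≠ 1 ∧ w ∈ Cfsg.wOf K ∧ w ∈ Cfsg.wOf K' ∧ w ∈ Cfsg.omegaCenterOf (Cfsg.thompsonSubgroupOf 2 T) ∧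
      a * b * a⁻¹ * b⁻¹ = w := by
  obtain ⟨w, hw, hw1, hwz, -, hwf⟩ := p.left.exists_w
  obtain ⟨w', hw', hw'1, hwz', -, hwf'⟩ := p.right.exists_w
  have haT := p.left.w_le_T ha
  have hbT := p.right.w_le_T hb
  have h1 : b * a * b⁻¹ = a * w := (p.left.comm_mem hbT ha hw hw1 hwz).resolve_left
    fun e => hab (mul_inv_eq_iff_eq_mul.mp e).symm
  have h2 : a * b * a⁻¹ = b * w' := (p.right.comm_mem haT hb hw' hw'1 hwz').resolve_left
    fun e => hab (mul_inv_eq_iff_eq_mul.mp e)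
  have e1 : a * b * a⁻¹ * b⁻¹ = w' := by rw [h2]; exact hwf' b hbT
  have e2 : a * b * a⁻¹ * b⁻¹ = w := by
    calc a * b * a⁻¹ * b⁻¹ = a * (b * a * b⁻¹)⁻¹ := by group
      _ = a * w⁻¹ * a⁻¹ := by rw [h1]; group
      _ = w := by rw [inv_eq_of_mul_eq_one_right (p.left.w_sq hw)]; exact hwf a haT
  obtain rfl : w = w' := e2.symm.trans e1
  exact ⟨w, hw1, hw, hw', hwz, e2⟩

/-- The structure forced by noncommuting four-groups. -/
theorem small_data {a b : G} (ha : a ∈ Cfsg.wOf K) (hb : b ∈ Cfsg.wOf K') (hab : a * b ≠ b * a) :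
    Cfsg.pCoreOf 2 (K ⊔ T) ⊓ Cfsg.pCoreOf 2 (K' ⊔ T) = Cfsg.omegaCenterOf (Cfsg.thompsonSubgroupOf 2 T) ∧
      Cfsg.IsElementaryAbelian 2 (Cfsg.pCoreOf 2 (K ⊔ T)) ∧
      Nat.card ↥(Cfsg.pCoreOf 2 (K ⊔ T)) = 2 * Nat.card ↥(Cfsg.omegaCenterOf (Cfsg.thompsonSubgroupOf 2 T)) ∧
      Nat.card T = 4 * Nat.card ↥(Cfsg.omegaCenterOf (Cfsg.thompsonSubgroupOf 2 T)) := by
  have hcard := p.left.card_q
  set Q := Cfsg.pCoreOf 2 (K ⊔ T) with hQdef
  set Q' := Cfsg.pCoreOf 2 (K' ⊔ T) with hQ'def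
  set Z := Cfsg.omegaCenterOf (Cfsg.thompsonSubgroupOf 2 T)
  have haQ : a ∈ Q := p.left.w_le_q ha
  have haQ' : a ∉ Q' := fun h => hab ((p.right.mem_q.mp h).2 b hb).symm
  have hbQ : b ∉ Q := fun h => hab ((p.left.mem_q.mp h).2 a ha)
  have hQT : ∀ {x : G}, x ∈ Q → x ∈ T := fun h => p.left.q_le_T h
  have haT := hQT haQ
  have hQsplit : ∀ q ∈ Q, q ∈ Q ⊓ Q' ∨ q * a ∈ Q ⊓ Q' := fun q hq => by
    by_cases h : q ∈ Q'
    · exact Or.inl ⟨hq, h⟩
    · refine Or.inr ⟨mul_mem hq haQ, ?_⟩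
      rw [hQ'def, ← p.right.q_eq] at h haQ' ⊢
      exact p.right.q_mul (hQT hq) haT h haQ'
  have hca : ∀ q ∈ Q, a * q = q * a := fun q hq => (p.left.mem_q.mp hq).2 a ha
  have hcb : ∀ q ∈ Q', b * q = q * b := fun q hq => (p.right.mem_q.mp hq).2 b hb
  -- the squares
  have hsq : sqOf Q = sqOf (Q ⊓ Q') := by
    refine le_antisymm (sqOf_le fun q hq => ?_) (sqOf_mono inf_le_left)
    rcases hQsplit q hq with h | h
    · exact sq_mem_sqOf h
    · have e : q * q = (q * a) * (q * a) := by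
        calc q * q = q * q * (a * a) := by rw [p.left.w_sq ha, mul_one]
          _ = q * (q * a) * a := by group
          _ = q * (a * q) * a := by rw [hca q hq]
          _ = (q * a) * (q * a) := by group
      rw [e]; exact sq_mem_sqOf h
  have hbQ' : b ∈ Q' := p.right.w_le_q hb
  have hbT := p.right.q_le_T hbQ'
  have hQ'split : ∀ q ∈ Q', q ∈ Q ⊓ Q' ∨ q * b ∈ Q ⊓ Q' := fun q hq => by
    by_cases h : q ∈ Q
    · exact Or.inl ⟨h, hq⟩
    · refine Or.inr ⟨?_, mul_mem hq hbQ'⟩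
      rw [hQdef, ← p.left.q_eq] at h hbQ ⊢
      exact p.left.q_mul (p.right.q_le_T hq) hbT h hbQ
  have hsq' : sqOf Q' = sqOf (Q ⊓ Q') := by
    refine le_antisymm (sqOf_le fun q hq => ?_) (sqOf_mono inf_le_right)
    rcases hQ'split q hq with h | h
    · exact sq_mem_sqOf h
    · have e : q * q = (q * b) * (q * b) := by
        calc q * q = q * q * (b * b) := by rw [p.right.w_sq hb, mul_one]
          _ = q * (q * b) * b := by group
          _ = q * (b * q) * b := by rw [hcb q hq]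
          _ = (q * b) * (q * b) := by group
      rw [e]; exact sq_mem_sqOf h
  have hbot : sqOf (Q ⊓ Q') = ⊥ := by
    by_contra h
    refine p.false_of_normalized ((sqOf_le_self _).trans (inf_le_left.trans p.left.q_le_T)) h ?_ ?_
    · rw [← hsq]; exact (Cfsg.Agent.LargeSub.self_le_normalizer_pCoreOf _).trans (normalizer_le_normalizer_sqOf Q)
    · rw [← hsq']; exact (Cfsg.Agent.LargeSub.self_le_normalizer_pCoreOf _).trans (normalizer_le_normalizer_sqOf Q')
  have hQ2 : ∀ q ∈ Q, q * q = 1 := fun q hq =>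
    Subgroup.mem_bot.mp (hbot ▸ hsq ▸ sq_mem_sqOf hq)
  have hQe := elemAb_of_sq hQ2
  have hD : Q ⊓ Q' = Z := by
    refine le_antisymm (fun d hd => ?_) (fun z hz => ⟨?_, ?_⟩)
    · show d ∈ Cfsg.omegaCenterOf (Cfsg.thompsonSubgroupOf 2 T)
      rw [← p.z0_eq]
      refine mem_omegaCenterOf.mpr ⟨hQT hd.1, fun t ht => ?_, hQ2 d hd.1⟩
      have hq : ∀ q ∈ Q, q * d = d * q := fun q hq => elemAb_comm hQe hq hd.1
      by_cases h : t ∈ Q
      · exact hq t h
      · have htb : t * b ∈ Q := by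
          rw [hQdef, ← p.left.q_eq] at h hbQ ⊢; exact p.left.q_mul ht hbT h hbQ
        have h' : Commute (t * b * b⁻¹) d :=
          (show Commute (t * b) d from hq _ htb).mul_left (show Commute b d from hcb d hd.2).inv_left
        rw [mul_inv_cancel_right] at h'
        exact h'
    · exact p.left.mem_q.mpr ⟨z0_le T hz, fun v hv => p.z0_central (p.left.w_le_T hv) hz⟩
    · exact p.right.mem_q.mpr ⟨z0_le T hz, fun v hv => p.z0_central (p.right.w_le_T hv) hz⟩
  have hQc : Nat.card Q = 2 * Nat.card Z := by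
    rw [← hD]
    exact card_eq_two_mul inf_le_left haQ (fun h => haQ' h.2) hQsplit
  exact ⟨hD, hQe, hQc, by omega⟩

/-- Commuting four-groups need `|T| > 16`. -/
theorem not_commute_of_small (h16 : Nat.card T ≤ 16) :
    ∃ a ∈ Cfsg.wOf K, ∃ b ∈ Cfsg.wOf K', a * b ≠ b * a := by
  by_contra hno
  push Not at hno
  set D := Cfsg.pCoreOf 2 (K ⊔ T) ⊓ Cfsg.pCoreOf 2 (K' ⊔ T) with hDdef
  have hWD : Cfsg.wOf K ≤ D := fun v hv =>
    ⟨p.left.w_le_q hv, p.right.mem_q.mpr ⟨p.left.w_le_T hv, fun u hu => (hno v hv u hu).symm⟩⟩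
  have hWD' : Cfsg.wOf K' ≤ D := fun v hv =>
    ⟨p.left.mem_q.mpr ⟨p.right.w_le_T hv, fun u hu => hno u hu v hv⟩, p.right.w_le_q hv⟩
  have hlt : 2 * Nat.card D ≤ Nat.card ↥(Cfsg.pCoreOf 2 (K ⊔ T)) := by
    have hdvd := Subgroup.card_dvd_of_le (inf_le_left : D ≤ _)
    obtain ⟨k, hk⟩ := hdvd
    have hk1 : k ≠ 1 := by
      intro h1
      have e1 := Subgroup.eq_of_le_of_card_ge (inf_le_left : D ≤ _) (by rw [hk, h1, mul_one])
      have hc : Nat.card ↥(Cfsg.pCoreOf 2 (K' ⊔ T)) = Nat.card ↥(Cfsg.pCoreOf 2 (K ⊔ T)) := by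
        have := p.left.card_q; have := p.right.card_q; omega
      refine p.q_ne (Subgroup.eq_of_le_of_card_ge (e1.symm.le.trans inf_le_right) hc.le)
    have hk0 : k ≠ 0 := fun h0 => by
      rw [h0, mul_zero] at hk; exact Nat.card_ne_zero.mpr ⟨inferInstance, inferInstance⟩ hk
    rw [hk, mul_comm 2]
    exact Nat.mul_le_mul_left _ (by omega)
  have hD4 : Nat.card D ≤ 4 := by
    have := p.left.card_q; omega
  have e1 := Subgroup.eq_of_le_of_card_ge hWD (by rw [p.left.comp.2.2.2.2.1]; exact hD4)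
  have e2 := Subgroup.eq_of_le_of_card_ge hWD' (by rw [p.right.comp.2.2.2.2.1]; exact hD4)
  obtain ⟨w, hw, hw1, -⟩ := p.left.exists_w
  refine p.false_of_normalized p.left.w_le_T (fun h => hw1 (Subgroup.mem_bot.mp (h ▸ hw)))
    p.left.le_normalizer_w ?_
  rw [e1.trans e2.symm]
  exact p.right.le_normalizer_w

/-- An involution of a small `T` lies in one of the two 2-cores. -/
theorem involution_mem {a b : G} (ha : a ∈ Cfsg.wOf K) (hb : b ∈ Cfsg.wOf K') (hab : a * b ≠ b * a)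
    {t : G} (ht : t ∈ T) (h2 : t * t = 1) :
    t ∈ Cfsg.pCoreOf 2 (K ⊔ T) ∨ t ∈ Cfsg.pCoreOf 2 (K' ⊔ T) := by
  by_contra hn
  simp only [not_or] at hn
  obtain ⟨hn1, hn2⟩ := hn
  obtain ⟨w, hw1, -, -, hwz, hc⟩ := p.w_eq ha hb hab
  obtain ⟨hD, hQe, -, -⟩ := p.small_data ha hb hab
  have haT := p.left.w_le_T ha
  have hbT := p.right.w_le_T hb
  have hbQ : b ∉ Side.qT p.left := fun h =>
    hab (Subgroup.mem_centralizer_iff.mp h.2 a ha)
  have haQ' : a ∉ Side.qT p.right := fun h => hab (Subgroup.mem_centralizer_iff.mp h.2 b hb).symm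
  rw [← p.left.q_eq] at hn1
  rw [← p.right.q_eq] at hn2
  have hd : t * b * a ∈ Cfsg.pCoreOf 2 (K ⊔ T) ⊓ Cfsg.pCoreOf 2 (K' ⊔ T) := by
    constructor
    · exact mul_mem (p.left.q_eq ▸ p.left.q_mul ht hbT hn1 hbQ) (p.left.w_le_q ha)
    · rw [← p.right.q_eq]
      refine p.right.q_mul (mul_mem ht hbT) haT (fun h => hn2 ?_) haQ'
      have := mul_mem h (inv_mem (p.right.q_eq.symm ▸ p.right.w_le_q hb : b ∈ Side.qT p.right))
      rwa [mul_inv_cancel_right] at this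
  rw [hD] at hd
  set d := t * b * a with hd'
  have hte : t = d * a * b := by
    rw [hd']; simp only [mul_assoc]
    rw [← mul_assoc a a, p.left.w_sq ha, one_mul, p.right.w_sq hb, mul_one]
  refine hw1 ?_
  have hdc : ∀ s ∈ T, s * d = d * s := fun s hs => p.z0_central hs hd
  calc w = (a * b) * (a * b) := by
        rw [← hc, inv_eq_of_mul_eq_one_right (p.left.w_sq ha),
          inv_eq_of_mul_eq_one_right (p.right.w_sq hb)]; group
    _ = d * d * ((a * b) * (a * b)) := by rw [omegaCenterOf_sq hd, one_mul]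
    _ = d * (d * (a * b)) * (a * b) := by group
    _ = d * ((a * b) * d) * (a * b) := by rw [hdc _ (mul_mem haT hbT)]
    _ = (d * (a * b)) * (d * (a * b)) := by group
    _ = 1 := by rw [← mul_assoc d a b, ← hte, h2]

end Pair

end Cfsg.Agent.JComp
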