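import Cfsg.Agent.Lib.JComp.Local
import Cfsg.Agent.Lib.Cores.Subnormal

/-!
A component of a conjugate of `T` which is subnormal in `⟨K, J(T)⟩`.

* `le_normalizer_of_subnormal`: a 2-group normalised by a subnormal subgroup generated by elements
  of odd order normalises it
* `Setup.exists_fpf`, `Setup.jOf_le_normalizer_wOf`
-/

set_option autoImplicit false

namespace Cfsg.Agent.JComp

variable {G : Type*} [Group G]

/-- A 2-group normalised by a subnormal subgroup generated by elements of odd order normalises it. -/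
theorem le_normalizer_of_subnormal {H K P : Subgroup G} (hK : Subgroup.closure {g : G | g ∈ K ∧ Odd (orderOf g)} = K)
    (hKH : K ≤ H) (hsn : (K.subgroupOf H).IsSubnormal) (hP : IsPGroup 2 P) (hPH : P ≤ H)
    (hn : K ≤ Subgroup.normalizer (P : Set G)) : P ≤ Subgroup.normalizer (K : Set G) := by
  have key : ∀ Hi : Subgroup ↥H, Hi.IsSubnormal → K.subgroupOf H ≤ Hi →
      ∀ p : ↥H, (p : G) ∈ P → ∀ x : ↥H, (x : G) ∈ K → Odd (orderOf (x : G)) → p * x * p⁻¹ ∈ Hi := by
    intro Hi hHi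
    induction hHi with
    | top => intros; trivial
    | step A B hAB _ hN ih =>
      intro hA p hp x hx hxo
      have hB := ih (hA.trans hAB) p hp x hx hxo
      set d : ↥H := p * x * p⁻¹ * x⁻¹ with hd
      have hdP : (d : G) ∈ P := by
        have e : (d : G) = (p : G) * ((x : G) * (p : G)⁻¹ * (x : G)⁻¹) := by
          simp [hd, mul_assoc]
        rw [e]
        exact mul_mem hp ((Subgroup.mem_normalizer_iff.mp (hn hx) _).mp (inv_mem hp))
      have hdB : d ∈ B := mul_mem hB (inv_mem (hAB (hA hx)))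
      have hdn : P.subgroupOf H ⊓ B ≤ Subgroup.normalizer (A : Set ↥H) :=
        inf_le_right.trans (Subgroup.le_normalizer_of_normal_subgroupOf hAB)
      have h1 : x⁻¹ * d * x ∈ P.subgroupOf H ⊓ B := by
        refine ⟨?_, B.mul_mem (B.mul_mem (B.inv_mem (hAB (hA hx))) hdB) (hAB (hA hx))⟩
        show ((x⁻¹ * d * x : ↥H) : G) ∈ P
        simpa using (Subgroup.mem_normalizer_iff''.mp (hn hx) _).mp hdP
      have e : p * x * p⁻¹ = x * (x⁻¹ * d * x) := by rw [hd]; group
      rw [e]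
      refine mem_left_of_odd ((hP.comap_subtype (K := H)).to_le inf_le_left) hdn (hA hx) h1 ?_
      rw [← e, ← Subgroup.orderOf_coe]
      have := orderOf_injective (MulAut.conj (p : G)).toMonoidHom (MulAut.conj (p : G)).injective (x : G)
      simp only [Subgroup.coe_mul, Subgroup.coe_inv]
      exact this.symm ▸ hxo
  refine Subgroup.le_normalizer_iff.mpr fun p hp => ?_
  have hle : K ≤ K.comap (MulAut.conj p).toMonoidHom := by
    conv_lhs => rw [← hK]
    exact (Subgroup.closure_le _).mpr fun x ⟨hxK, hxo⟩ =>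
      key _ hsn le_rfl ⟨p, hPH hp⟩ hp ⟨x, hKH hxK⟩ hxK hxo
  exact fun x hx => hle hx

variable [Finite G] {T L : Subgroup G}

namespace Setup

variable (hs : Setup T L)
include hs

/-- In a subnormal situation a lift either normalises `K` modulo `O₂(L)`, or some element of `K` acts
fixed-point-freely on its four-group. -/
theorem exists_fpf {K : Subgroup G} (hKL : K ≤ L)
    (hsn : (K.subgroupOf (K ⊔ Cfsg.thompsonSubgroupOf 2 T)).IsSubnormal)
    {a : ↥L ⧸ Cfsg.pCore 2 ↥L} (haJ : a ∈ jBar T L) (ha : IsLift hs.exp2 hs.fBar (nBar T L) a)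
    {k : ↥L} (hk : (k : G) ∈ K) (hne : toBar L k * a * (toBar L k)⁻¹ * a * (toBar L k * a * (toBar L k)⁻¹ * a) ≠ 1) :
    ∃ y, hs.IsRoot y ∧ a * y * a⁻¹ = y⁻¹ ∧
      y ∈ ((K ⊔ Cfsg.thompsonSubgroupOf 2 T).subgroupOf L).map (toBar L) ∧
      ∃ k' : ↥L, (k' : G) ∈ K ∧ (∀ w ∈ moved hs.exp2 (hs.fBar y), toX T L k' • w ∈ moved hs.exp2 (hs.fBar y)) ∧
        ∀ w ∈ moved hs.exp2 (hs.fBar y), toX T L k' • w = w → w = 1 := by
  set H := K ⊔ Cfsg.thompsonSubgroupOf 2 T
  have hHL : H ≤ L := sup_le hKL ((jOf_le T).trans hs.sylow.1)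
  have hc := hs.cover
  set kb := toBar L k with hkb
  set t := kb * a * kb⁻¹ with ht
  have htl : IsLift hs.exp2 hs.fBar (nBar T L) t := ha.conj hs.exp2 hc kb
  obtain ⟨y, hy, how, hinv⟩ := exists_root hs.exp2 hs.good hc hs.fBar_surjective ha
  obtain ⟨x', hx'⟩ := exists_factor hs.exp2 hs.good htl.2.2
  have heq : moved hs.exp2 x' = moved hs.exp2 (hs.fBar y) := by
    by_contra hd
    have hcm : t * a = a * t := lift_commute hs.exp2 hs.good hc htl ha hx' how hd
    refine hne ?_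
    show t * a * (t * a) = 1
    calc t * a * (t * a) = t * (a * t) * a := by group
      _ = t * t * (a * a) := by rw [← hcm]; group
      _ = 1 := by rw [htl.2.1, ha.2.1, mul_one]
  have hz := lift_mul_mem hs.exp2 hs.good hc htl ha hy.mem hinv how hx' heq
  have hzne : t * a ≠ 1 := fun e => hne (by show t * a * (t * a) = 1; rw [e, one_mul])
  have hzy : t * a = y ∨ t * a = y⁻¹ := (mem_zpowers_three hy.pow hz).resolve_left hzne
  have hkH : kb ∈ (H.subgroupOf L).map (toBar L) := ⟨k, (le_sup_left : K ≤ H) hk, rfl⟩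
  have haH : a ∈ (H.subgroupOf L).map (toBar L) :=
    Subgroup.map_mono (Subgroup.comap_mono (le_sup_right : Cfsg.thompsonSubgroupOf 2 T ≤ H)) haJ
  have hzH : t * a ∈ (H.subgroupOf L).map (toBar L) :=
    mul_mem (mul_mem (mul_mem hkH haH) (inv_mem hkH)) haH
  have hyH : y ∈ (H.subgroupOf L).map (toBar L) := by
    rcases hzy with e | e
    · exact e ▸ hzH
    · rw [← inv_inv y, ← e]; exact inv_mem hzH
  refine ⟨y, hy, hinv, hyH, ?_⟩
  -- `k` permutes `y^±1`
  have hroot := Root.map_conj hs.exp2 hs.good hc hy kb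
  have hrinv : t * (kb * y * kb⁻¹) * t⁻¹ = (kb * y * kb⁻¹)⁻¹ := by
    calc t * (kb * y * kb⁻¹) * t⁻¹ = kb * (a * y * a⁻¹) * kb⁻¹ := by rw [ht]; group
      _ = (kb * y * kb⁻¹)⁻¹ := by rw [hinv]; group
  have hsame : moved hs.exp2 (hs.fBar (kb * y * kb⁻¹)) = moved hs.exp2 (hs.fBar y) := by
    by_contra hd
    have h1 := Owns.commute_factor hs.exp2 hs.good hx' hroot.factor (heq.symm ▸ hd)
    have h2 := congrArg hs.fBar hrinv
    rw [map_mul, map_mul, map_inv, map_inv, h1, mul_inv_cancel_right] at h2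
    exact ne_inv_of_three hroot.factor.2.1 hroot.factor.2.2.1 h2
  have hkm : ∀ w ∈ moved hs.exp2 (hs.fBar y), toX T L k • w ∈ moved hs.exp2 (hs.fBar y) := by
    intro w hw
    have h1 := moved_conj hs.exp2 (toX T L k) (hs.fBar y) hw
    rw [show toX T L k * hs.fBar y * (toX T L k)⁻¹ = hs.fBar (kb * y * kb⁻¹) by
      rw [map_mul, map_mul, map_inv]; rfl, hsame] at h1
    exact h1
  have hodd := Factor.odd hs.exp2 hs.good hy.factor
  rcases mem_zpowers_three hy.pow (Root.zpowers_eq hs.exp2 hs.good hc hy hroot hsame) with e | e | e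
  · exact absurd e (hroot.ne_one hs.exp2)
  · -- `k` centralises `y`
    refine ⟨k, hk, hkm, fun w hw hkw => ?_⟩
    by_contra hw1
    have hcomm : hs.fBar y * toX T L k = toX T L k * hs.fBar y := by
      have h1 := congrArg hs.fBar (mul_inv_eq_iff_eq_mul.mp e)
      rw [map_mul, map_mul] at h1
      exact h1.symm
    have hall : ∀ u ∈ moved hs.exp2 (hs.fBar y), toX T L k • u = u := by
      have hle : moved hs.exp2 (hs.fBar y) ≤ fixedSub ({toX T L k} : Set ↥(actRange T L)) :=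
        four_le hs.exp2 hodd hy.factor.2.2.2.1 hw hw1 (mem_fixedSub_singleton.mpr hkw)
          (mem_fixedSub_singleton.mpr (by rw [← mul_smul, ← hcomm, mul_smul, hkw]))
      exact fun u hu => mem_fixedSub_singleton.mp (hle hu)
    have haw : hs.fBar a • w ∈ moved hs.exp2 (hs.fBar y) := smul_mem_moved_of_inv hs.exp2 how.2.2.1 hw
    have hzw : hs.fBar (t * a) • w = w := by
      rw [ht, map_mul, map_mul, map_mul, map_inv, mul_smul, mul_smul, mul_smul,
        show hs.fBar kb = toX T L k from rfl, inv_smul_eq_iff.mpr (hall _ haw).symm, ← mul_smul (hs.fBar a),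
        ha.2.2.1, one_smul, hkw]
    rcases hzy with e' | e' <;> rw [e'] at hzw
    · exact smul_ne hs.exp2 hodd hw hw1 hzw
    · rw [map_inv, inv_smul_eq_iff] at hzw
      exact smul_ne hs.exp2 hodd hw hw1 hzw.symm
  · -- `k` inverts `y`: descend along the subnormal series
    let ι : ↥H →* ↥L := Subgroup.inclusion hHL
    have key : ∀ Hi : Subgroup ↥H, Hi.IsSubnormal → K.subgroupOf H ≤ Hi →
        ∃ g ∈ Hi, toBar L (ι g) = y ∨ toBar L (ι g) = y⁻¹ := by
      intro Hi hHi
      induction hHi with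
      | top =>
        intro _
        obtain ⟨g, hg, hgy⟩ := hyH
        exact ⟨⟨g, hg⟩, trivial, Or.inl hgy⟩
      | step A B hAB _ hN ih =>
        intro hA
        obtain ⟨g, hg, hgy⟩ := ih (hA.trans hAB)
        have hkA : (⟨k, (le_sup_left : K ≤ H) hk⟩ : ↥H) ∈ A := hA hk
        refine ⟨g * ⟨k, (le_sup_left : K ≤ H) hk⟩ * g⁻¹ * (⟨k, (le_sup_left : K ≤ H) hk⟩ : ↥H)⁻¹,
          mul_mem ((Subgroup.mem_normalizer_iff.mp
            (Subgroup.le_normalizer_of_normal_subgroupOf hAB hg) _).mp hkA) (inv_mem hkA), ?_⟩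
        have hki : toBar L (ι ⟨k, (le_sup_left : K ≤ H) hk⟩) = kb := rfl
        simp only [map_mul, map_inv, hki]
        have e' : kb * y⁻¹ * kb⁻¹ = y := by rw [← conj_inv, e, inv_inv]
        have h3 : y * y = y⁻¹ := by
          rw [eq_inv_iff_mul_eq_one, ← pow_three', hy.pow]
        rcases hgy with hgy | hgy <;> rw [hgy]
        · right
          calc y * kb * y⁻¹ * kb⁻¹ = y * (kb * y⁻¹ * kb⁻¹) := by group
            _ = y⁻¹ := by rw [e', h3]
        · left
          calc y⁻¹ * kb * y⁻¹⁻¹ * kb⁻¹ = y⁻¹ * (kb * y * kb⁻¹) := by group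
            _ = y := by rw [e, ← mul_inv_rev, h3, inv_inv]
    obtain ⟨g, hg, hgy⟩ := key _ hsn le_rfl
    have himg : toX T L (ι g) = hs.fBar y ∨ toX T L (ι g) = (hs.fBar y)⁻¹ := by
      rcases hgy with e' | e'
      · exact Or.inl (congrArg hs.fBar e')
      · exact Or.inr ((congrArg hs.fBar e').trans (map_inv _ _))
    refine ⟨ι g, hg, fun w hw => ?_, fun w hw hgw => ?_⟩
    · rcases himg with e' | e' <;> rw [e']
      · exact smul_mem_moved_self hs.exp2 _ hw
      · rw [← moved_inv hs.exp2] at hw ⊢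
        exact smul_mem_moved_self hs.exp2 _ hw
    · rcases himg with e' | e' <;> rw [e'] at hgw
      · exact eq_one_of_mem_moved_of_fixed hs.exp2 hodd hw hgw
      · exact eq_one_of_mem_moved_of_fixed hs.exp2 hodd hw (inv_smul_eq_iff.mp hgw).symm

/-- `J(T)` normalises the four-group of a subnormal component of a conjugate of `T`. -/
theorem jOf_le_normalizer_wOf {T' K : Subgroup G} (hK : Cfsg.IsJComponent T' K) (hKL : K ≤ L)
    (hsn : (K.subgroupOf (K ⊔ Cfsg.thompsonSubgroupOf 2 T)).IsSubnormal) :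
    Cfsg.thompsonSubgroupOf 2 T ≤ Subgroup.normalizer (Cfsg.wOf K : Set G) := by
  set H := K ⊔ Cfsg.thompsonSubgroupOf 2 T with hH
  set W := Cfsg.wOf K with hW
  have hHL : H ≤ L := sup_le hKL ((jOf_le T).trans hs.sylow.1)
  have hKH : K ≤ H := le_sup_left
  have hJH : Cfsg.thompsonSubgroupOf 2 T ≤ H := le_sup_right
  have hPN : ∀ P : Subgroup G, IsPGroup 2 P → P ≤ H → K ≤ Subgroup.normalizer (P : Set G) →
      P ≤ Subgroup.normalizer (W : Set G) := fun P h1 h2 h3 =>
    (le_normalizer_of_subnormal hK.1 hKH hsn h1 h2 h3).trans (normalizer_le_normalizer_wOf K)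
  have hlift : ∀ t : ↥L, (t : G) ∈ Cfsg.thompsonSubgroupOf 2 T →
      IsLift hs.exp2 hs.fBar (nBar T L) (toBar L t) → (t : G) ∈ Subgroup.normalizer (W : Set G) := by
    intro t htJ htl
    have htb : toBar L t ∈ jBar T L := ⟨t, htJ, rfl⟩
    set a := toBar L t with ha
    by_cases hall : ∀ k : ↥L, (k : G) ∈ K →
        toBar L k * a * (toBar L k)⁻¹ * a * (toBar L k * a * (toBar L k)⁻¹ * a) = 1
    · -- the conjugates of `a` generate a 2-group
      set Kb := (K.subgroupOf L).map (toBar L) with hKb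
      let E : Subgroup (↥L ⧸ Cfsg.pCore 2 ↥L) := Subgroup.closure {e | ∃ k ∈ Kb, k * a * k⁻¹ = e}
      have hEab : ∀ e₁ ∈ {e | ∃ k ∈ Kb, k * a * k⁻¹ = e}, ∀ e₂ ∈ {e | ∃ k ∈ Kb, k * a * k⁻¹ = e},
          e₁ * e₂ = e₂ * e₁ := by
        rintro _ ⟨k₁, h₁, rfl⟩ _ ⟨k₂, h₂, rfl⟩
        obtain ⟨g, hg, hgk⟩ := mul_mem (inv_mem h₂) h₁
        have h := hall g hg
        rw [hgk] at h
        set z := k₂⁻¹ * k₁ * a * (k₂⁻¹ * k₁)⁻¹ with hz
        have hzz : z * z = 1 := by
          rw [hz, show k₂⁻¹ * k₁ * a * (k₂⁻¹ * k₁)⁻¹ * (k₂⁻¹ * k₁ * a * (k₂⁻¹ * k₁)⁻¹) =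
            k₂⁻¹ * k₁ * (a * a) * (k₂⁻¹ * k₁)⁻¹ by group, htl.2.1]
          group
        have h2 := eq_inv_of_mul_eq_one_left h
        rw [mul_inv_rev, htl.inv_eq, inv_eq_of_mul_eq_one_right hzz] at h2
        calc k₁ * a * k₁⁻¹ * (k₂ * a * k₂⁻¹) = k₂ * (z * a) * k₂⁻¹ := by rw [hz]; group
          _ = k₂ * (a * z) * k₂⁻¹ := by rw [h2]
          _ = k₂ * a * k₂⁻¹ * (k₁ * a * k₁⁻¹) := by rw [hz]; group
      have hE2 : IsPGroup 2 E := by
        have hcomm := Subgroup.isMulCommutative_closure hEab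
        intro ⟨e, he⟩
        refine ⟨1, Subtype.ext ?_⟩
        show e ^ 2 ^ 1 = 1
        rw [pow_one, pow_two]
        induction he using Subgroup.closure_induction with
        | mem e he =>
          obtain ⟨k, -, rfl⟩ := he
          rw [show k * a * k⁻¹ * (k * a * k⁻¹) = k * (a * a) * k⁻¹ by group, htl.2.1]; group
        | one => simp
        | mul u v hu hv ihu ihv =>
          have hc : u * v = v * u := Cfsg.Agent.PReduced.commute_of_isMulCommutative hcomm hu hv
          calc u * v * (u * v) = u * (v * u) * v := by group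
            _ = (u * u) * (v * v) := by rw [← hc]; group
            _ = 1 := by rw [ihu, ihv, mul_one]
        | inv u _ ihu => rw [← mul_inv_rev, ihu, inv_one]
      set P := ((E.comap (toBar L)).map L.subtype) ⊓ H with hP
      have hPp : IsPGroup 2 P := by
        refine IsPGroup.to_le ?_ inf_le_left
        refine IsPGroup.map ?_ _
        exact hE2.comap_of_ker_isPGroup _ (by
          rw [show (toBar L).ker = Cfsg.pCore 2 ↥L from QuotientGroup.ker_mk' _]
          exact Cfsg.Agent.Cores.isPGroup_pCore 2 ↥L)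
      have hKP : K ≤ Subgroup.normalizer (P : Set G) := by
        refine Subgroup.le_normalizer_iff.mpr fun g hg x hx => ?_
        obtain ⟨⟨x', hx', rfl⟩, hxH⟩ := hx
        refine ⟨⟨⟨g, hKL hg⟩ * x' * ⟨g, hKL hg⟩⁻¹, ?_, rfl⟩,
          H.mul_mem (H.mul_mem (hKH hg) hxH) (H.inv_mem (hKH hg))⟩
        rw [SetLike.mem_coe, Subgroup.mem_comap, map_mul, map_mul, map_inv]
        set g' := toBar L ⟨g, hKL hg⟩
        have hg' : g' ∈ Kb := ⟨⟨g, hKL hg⟩, hg, rfl⟩
        have hle : E ≤ E.comap (MulAut.conj g').toMonoidHom := by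
          refine (Subgroup.closure_le _).mpr ?_
          rintro _ ⟨k, hk, rfl⟩
          exact Subgroup.subset_closure ⟨g' * k, mul_mem hg' hk, by simp [mul_assoc]⟩
        exact hle hx'
      refine hPN P hPp inf_le_right hKP ⟨⟨t, ?_, rfl⟩, hJH htJ⟩
      exact Subgroup.subset_closure ⟨1, one_mem _, by simp [ha]⟩
    push Not at hall
    obtain ⟨k, hk, hne⟩ := hall
    obtain ⟨y, hy, hinv, hyH, k', hk', hkm, hfpf⟩ := hs.exists_fpf hKL hsn htb htl hk hne
    set M := moved hs.exp2 (hs.fBar y) with hM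
    have hVK : vOf T L ≤ Subgroup.normalizer (K : Set G) :=
      le_normalizer_of_subnormal hK.1 hKH hsn (Cfsg.Agent.PLocal.elemAb_isPGroup hs.vOf_elementary)
        (hs.vOf_le_jOf.trans hJH) (hKL.trans (vOf_normal T L))
    have hsurj : ∀ w ∈ M, ∃ v ∈ M, dd hs.exp2 (toX T L k') v = w := by
      let φ : ↥M → ↥M := fun v => ⟨dd hs.exp2 (toX T L k') v, mul_mem (hkm v v.2) v.2⟩
      have hinj : Function.Injective φ := by
        intro u v huv
        have h' : dd hs.exp2 (toX T L k') u = dd hs.exp2 (toX T L k') v := congrArg Subtype.val huv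
        have h1 : (u : ↥(vOf T L)) * (v : ↥(vOf T L))⁻¹ ∈ (dd hs.exp2 (toX T L k')).ker := by
          rw [MonoidHom.mem_ker, map_mul, map_inv, h', mul_inv_cancel]
        rw [ker_dd, mem_fixedSub_singleton] at h1
        exact Subtype.ext (mul_inv_eq_one.mp (hfpf _ (mul_mem u.2 (inv_mem v.2)) h1))
      intro w hw
      obtain ⟨v, hv⟩ := (Finite.injective_iff_surjective.mp hinj) ⟨w, hw⟩
      exact ⟨v, v.2, congrArg Subtype.val hv⟩
    have hval : ∀ v : ↥(vOf T L), ((dd hs.exp2 (toX T L k') v : ↥(vOf T L)) : G) =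
        (k' : G) * v * (k' : G)⁻¹ * (v : G)⁻¹ := fun v => by
      rw [dd_apply, Subgroup.coe_mul, smul_coe, inv_eq_of_mul_eq_one_right (congrArg Subtype.val (hs.exp2 v))]
    have hPK : Cfsg.pCoreOf 2 K ≤ Cfsg.pCoreOf 2 H := by
      rintro _ ⟨d, hd, rfl⟩
      set e := (Subgroup.subgroupOfEquivOfLe hKH).symm
      have h1 : e d ∈ Cfsg.pCore 2 ↥(K.subgroupOf H) := by
        rw [← Cfsg.Agent.Cores.pCore_map_mulEquiv e]
        exact Subgroup.mem_map_of_mem _ hd
      exact ⟨((e d : ↥(K.subgroupOf H)) : ↥H),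
        Cfsg.Agent.Cores.pCore_map_le_of_isSubnormal hsn 2 (Subgroup.mem_map_of_mem _ h1), rfl⟩
    have hU : ∀ w ∈ M, ((w : ↥(vOf T L)) : G) ∈ Cfsg.omegaCenterOf (Cfsg.pCoreOf 2 K) := by
      intro w hw
      obtain ⟨v, hv, rfl⟩ := hsurj w hw
      obtain ⟨-, -, h2⟩ := mem_omegaCenterOf.mp (hs.vOf_le (dd hs.exp2 (toX T L k') v).2)
      refine mem_omegaCenterOf.mpr ⟨?_, fun d hd => ?_, h2⟩
      · have h1 : ((dd hs.exp2 (toX T L k') v : ↥(vOf T L)) : G) ∈ vOf T L ⊓ K := by
          refine ⟨(dd hs.exp2 (toX T L k') v).2, ?_⟩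
          rw [hval, mul_assoc, mul_assoc, ← mul_assoc (v : G)]
          exact K.mul_mem hk' ((Subgroup.mem_normalizer_iff.mp (hVK v.2) _).mp (K.inv_mem hk'))
        refine Cfsg.Agent.LargeSub.le_pCoreOf inf_le_right ((le_inf (hKL.trans (vOf_normal T L))
          Subgroup.le_normalizer).trans Subgroup.inf_normalizer_le_normalizer_inf)
          ((Cfsg.Agent.PLocal.elemAb_isPGroup hs.vOf_elementary).to_le inf_le_left) h1
      · -- `O₂(K)` commutes with `y`, so fixes `M`
        have hdH := hPK hd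
        set e := toBar L ⟨d, hKL (Cfsg.Agent.LargeSub.pCoreOf_le K hd)⟩ with he
        obtain ⟨g, hg, hgy⟩ := hyH
        have hcd : (e * y * e⁻¹) * y⁻¹ = 1 := by
          have hdy := Root.map_conj hs.exp2 hs.good hs.cover hy e
          have hcomm := Root.commute hs.exp2 hdy (Root.inv hs.exp2 hy)
          have h3 : ((e * y * e⁻¹) * y⁻¹) ^ 3 = 1 := by
            rw [(show Commute (e * y * e⁻¹) y⁻¹ from hcomm).mul_pow, hdy.pow, inv_pow, hy.pow,
              inv_one, mul_one]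
          set c : ↥L := ⟨d, hKL (Cfsg.Agent.LargeSub.pCoreOf_le K hd)⟩ * g *
            ⟨d, hKL (Cfsg.Agent.LargeSub.pCoreOf_le K hd)⟩⁻¹ * g⁻¹ with hcdef
          have hc : (c : G) ∈ Cfsg.pCoreOf 2 H := by
            have hN := Cfsg.Agent.LargeSub.self_le_normalizer_pCoreOf (p := 2) H hg
            have e' : (c : G) = d * ((g : G) * d⁻¹ * (g : G)⁻¹) := by simp [hcdef, mul_assoc]
            rw [e']
            exact mul_mem hdH ((Subgroup.mem_normalizer_iff.mp hN _).mp (inv_mem hdH))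
          obtain ⟨n, hn⟩ := pow_two_of_mem (Cfsg.Agent.LargeSub.isPGroup_pCoreOf H) hc
          have hcim : toBar L c = e * y * e⁻¹ * y⁻¹ := by
            simp only [hcdef, map_mul, map_inv, hgy, he]
          rw [← hcim] at h3 ⊢
          refine orderOf_eq_one_iff.mp (Nat.eq_one_of_dvd_coprimes (Nat.Coprime.pow_left n (show Nat.Coprime 2 3 by decide))
            (orderOf_dvd_of_pow_eq_one ?_) (orderOf_dvd_of_pow_eq_one h3))
          rw [← map_pow, show c ^ 2 ^ n = 1 from Subtype.ext hn, map_one]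
        obtain ⟨n, hn⟩ := pow_two_of_mem (Cfsg.Agent.LargeSub.isPGroup_pCoreOf K) hd
        have hcx : hs.fBar e * hs.fBar y = hs.fBar y * hs.fBar e := by
          rw [← map_mul, ← map_mul, mul_inv_eq_iff_eq_mul.mp (mul_inv_eq_one.mp hcd)]
        have hfix := fix_of_two hs.exp2 (Factor.odd hs.exp2 hs.good hy.factor) hy.factor.2.2.2.1 hcx
          (n := n) (by rw [← map_pow, he, ← map_pow,
            show (⟨d, hKL (Cfsg.Agent.LargeSub.pCoreOf_le K hd)⟩ : ↥L) ^ 2 ^ n = 1 from Subtype.ext hn,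
            map_one, map_one]) hw
        have := congrArg Subtype.val hfix
        rw [he, hs.fBar_toBar, smul_coe] at this
        exact mul_inv_eq_iff_eq_mul.mp this
    have hle : hs.wImage y ≤ W := by
      rintro _ ⟨w, hw, rfl⟩
      obtain ⟨v, hv, rfl⟩ := hsurj w hw
      show ((dd hs.exp2 (toX T L k') v : ↥(vOf T L)) : G) ∈ W
      rw [hW, hval, Cfsg.wOf, Subgroup.commutator_comm]
      exact Subgroup.commutator_mem_commutator hk' (hU v hv)
    have hWeq : hs.wImage y = W := Subgroup.eq_of_le_of_card_ge hle (by rw [hs.card_wImage hy, hW, hK.2.2.2.2.1])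
    rw [← hWeq, Subgroup.mem_normalizer_iff_map_conj_eq]
    refine Subgroup.eq_of_le_of_card_ge ?_ (le_of_eq (Subgroup.card_map_of_injective (MulAut.conj (t : G)).injective).symm)
    rintro _ ⟨_, ⟨w, hw, rfl⟩, rfl⟩
    refine ⟨hs.fBar a • w, smul_mem_moved_of_inv hs.exp2 ?_ hw, ?_⟩
    · rw [← map_inv, ← map_mul, ← map_mul, hinv, map_inv]
    · rw [ha, hs.fBar_toBar, Subgroup.coe_subtype, smul_coe]; rfl
  -- modulo `O₂(L)` the lifts generate `J(T)`
  have hQH : Cfsg.pCoreOf 2 L ⊓ H ≤ Subgroup.normalizer (W : Set G) :=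
    hPN _ ((Cfsg.Agent.LargeSub.isPGroup_pCoreOf L).to_le inf_le_left) inf_le_right
      ((le_inf (hKL.trans (Cfsg.Agent.LargeSub.self_le_normalizer_pCoreOf L))
        (hKH.trans Subgroup.le_normalizer)).trans Subgroup.inf_normalizer_le_normalizer_inf)
  intro j hj
  set M' := ((Subgroup.normalizer (W : Set G) ⊓ H).subgroupOf L).map (toBar L)
  have hle : jBar T L ≤ M' := by
    refine hs.jBar_le_closure.trans ((Subgroup.closure_le _).mpr ?_)
    rintro _ ⟨⟨t, htJ, rfl⟩, htl⟩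
    exact ⟨t, ⟨hlift t htJ htl, hJH htJ⟩, rfl⟩
  obtain ⟨m, hm, hmj⟩ := hle ⟨⟨j, hs.sylow.1 (jOf_le T hj)⟩, hj, rfl⟩
  have hq : (m : G)⁻¹ * j ∈ Cfsg.pCoreOf 2 L ⊓ H :=
    ⟨toBar_eq_iff.mp hmj, H.mul_mem (H.inv_mem hm.2) (hJH hj)⟩
  have := (Subgroup.normalizer (W : Set G)).mul_mem (show (m : G) ∈ _ from hm.1) (hQH hq)
  rwa [mul_inv_cancel_left] at this

end Setup

end Cfsg.Agent.JComp
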