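import Cfsg.Agent.Lib.JComp.Cross
import Cfsg.Agent.Lib.Involution.StronglyEmbedded
import Cfsg.Agent.S2947

/-!
A Sylow 2-subgroup in a maximal 2-local `L` with `N(J(S)) ≤ L` straddles `L`.

* `maxElemAbelianOrder_conj`, `exists_max_straddle_le`, `exists_local_not_le`, `straddle_self`
-/

set_option autoImplicit false

namespace Cfsg.Agent.JComp

open Cfsg.Agent.PLocal

variable {G : Type*} [Group G] [Finite G]

theorem maxElemAbelianOrder_conj (g : G) (U : Subgroup G) :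
    Cfsg.maxElemAbelianOrder (U.map (MulAut.conj g).toMonoidHom) = Cfsg.maxElemAbelianOrder U := by
  obtain ⟨A, hA⟩ := exists_maxElem U
  have hA' : A.map (MulAut.conj g).toMonoidHom ∈ maxElem (U.map (MulAut.conj g).toMonoidHom) := by
    refine mem_maxElem.mpr ⟨Subgroup.map_mono hA.1,
      Cfsg.Agent.PLocal.elemAb_map (MulAut.conj g).toMonoidHom hA.2.1, fun B hB hBe => ?_⟩
    rw [Subgroup.card_map_of_injective (MulAut.conj g).injective]
    have := hA.2.2 (B.map (MulAut.conj g⁻¹).toMonoidHom) ((map_conj_le_iff).mpr (by rwa [inv_inv]))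
      (Cfsg.Agent.PLocal.elemAb_map (MulAut.conj g⁻¹).toMonoidHom hBe)
    rwa [Subgroup.card_map_of_injective (MulAut.conj g⁻¹).injective] at this
  rw [maxElemAbelianOrder_eq hA', maxElemAbelianOrder_eq hA,
    Subgroup.card_map_of_injective (MulAut.conj g).injective]

theorem sylow_isSylowTwoIn_of_le (S : Sylow 2 G) {L : Subgroup G} (hSL : (S : Subgroup G) ≤ L) :
    Cfsg.IsSylowTwoIn (S : Subgroup G) L := by
  have : Fact (Nat.Prime 2) := ⟨Nat.prime_two⟩
  refine ⟨hSL, S.2, ?_⟩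
  rw [← Nat.not_even_iff_odd, even_iff_two_dvd]
  exact fun h => S.not_dvd_index (h.trans (Subgroup.relIndex_dvd_index_of_le hSL))

/-- A maximal straddling subgroup inside the Sylow subgroup. -/
theorem exists_max_straddle_le (S : Sylow 2 G) {L : Subgroup G} (hSL : (S : Subgroup G) ≤ L)
    (hne : (Cfsg.straddlingTwoSubgroups L).Nonempty) :
    ∃ T, T ∈ Cfsg.maxStraddlingTwoSubgroups L ∧ T ≤ S := by
  obtain ⟨T₁, h1, hmax1⟩ := Set.exists_max_image (Cfsg.straddlingTwoSubgroups L)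
    Cfsg.maxElemAbelianOrder (Set.toFinite _) hne
  obtain ⟨T₂, ⟨h2, h2a⟩, hmax2⟩ := Set.exists_max_image
    {T | T ∈ Cfsg.straddlingTwoSubgroups L ∧ Cfsg.maxElemAbelianOrder T = Cfsg.maxElemAbelianOrder T₁}
    (fun T => Nat.card ↥(Cfsg.thompsonSubgroupOf 2 T)) (Set.toFinite _) ⟨T₁, h1, rfl⟩
  obtain ⟨T₃, ⟨h3, h3a, h3J⟩, hmax3⟩ := Set.exists_max_image
    {T | T ∈ Cfsg.straddlingTwoSubgroups L ∧ Cfsg.maxElemAbelianOrder T = Cfsg.maxElemAbelianOrder T₁ ∧
      Nat.card ↥(Cfsg.thompsonSubgroupOf 2 T) = Nat.card ↥(Cfsg.thompsonSubgroupOf 2 T₂)}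
    (fun T => Nat.card T) (Set.toFinite _) ⟨T₂, h2, h2a, rfl⟩
  obtain ⟨g, hg, hle⟩ := exists_conj_le (sylow_isSylowTwoIn_of_le S hSL) h3.1 h3.2.2.1
  refine ⟨T₃.map (MulAut.conj g⁻¹).toMonoidHom, ?_, map_conj_le_iff.mpr (by rwa [inv_inv])⟩
  obtain ⟨N, hN, hTN, hNL⟩ := h3.2.2.2
  refine ⟨⟨h3.1.map _, fun e => h3.2.1 ((Subgroup.map_eq_bot_iff_of_injective _ (MulAut.conj g⁻¹).injective).mp e),
    map_conj_le_iff.mpr (by rw [inv_inv, map_conj_mem hg]; exact h3.2.2.1),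
    _, isTwoLocal_map hN g⁻¹, Subgroup.map_mono hTN, not_le_map (inv_mem hg) hNL⟩, fun T hT => ?_⟩
  rw [maxElemAbelianOrder_conj, jOf_conj, Subgroup.card_map_of_injective (MulAut.conj g⁻¹).injective,
    Subgroup.card_map_of_injective (MulAut.conj g⁻¹).injective, h3a, h3J]
  exact ⟨hmax1 T hT, fun e => ⟨hmax2 T ⟨hT, e⟩, fun e' => hmax3 T ⟨hT, e, e'⟩⟩⟩

theorem Setup.not_jOf_le_cent {T L : Subgroup G} (hs : Setup T L) :
    ¬ Cfsg.thompsonSubgroupOf 2 T ≤ Subgroup.centralizer (vOf T L : Set G) := fun h =>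
  hs.mem.2.1 (fun j hj => hs.inf_cOf_le ⟨jOf_le T hj, hs.sylow.1 (jOf_le T hj), h hj⟩)

omit [Finite G] in
theorem map_eq_vOf {T L : Subgroup G} {g : G} (hg : g ∈ L) :
    (vOf T L).map (MulAut.conj g).toMonoidHom = vOf T L := map_conj_eq_self (vOf_normal T L hg)

/-- A Sylow subgroup in a maximal 2-local `L` with `N(J) ≤ L` lies in a 2-local outside `L`. -/
theorem exists_local_not_le (hyp : Hyp G) (hO : Cfsg.pCore 2 G = ⊥) (S : Sylow 2 G) {L : Subgroup G}
    (hL : Cfsg.IsMaximalTwoLocal L)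
    (hNJ : Subgroup.normalizer (Cfsg.thompsonSubgroupOf 2 (S : Subgroup G) : Set G) ≤ L)
    (hJ : ¬ Cfsg.thompsonSubgroupOf 2 (S : Subgroup G) ≤ Cfsg.pCoreOf 2 L) :
    ∃ N : Subgroup G, Cfsg.IsTwoLocal N ∧ (S : Subgroup G) ≤ N ∧ ¬ N ≤ L := by
  have : Fact (Nat.Prime 2) := ⟨Nat.prime_two⟩
  have hSL : (S : Subgroup G) ≤ L := (jOf_normalized _).trans hNJ
  have hne : (Cfsg.straddlingTwoSubgroups L).Nonempty := by
    refine Set.nonempty_iff_ne_empty.mpr fun he => hJ ?_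
    have hse := (Cfsg.Agent.S2947.result hyp.char2 hyp.solv hyp.cent hO S L hL.1 hNJ).mpr he
    obtain ⟨R, hR, hR1, heq⟩ := hL.1
    have hRQ : R ≤ Cfsg.pCoreOf 2 L :=
      Cfsg.Agent.LargeSub.le_pCoreOf (heq ▸ Subgroup.le_normalizer) heq.le hR
    have : Nontrivial R := (Subgroup.nontrivial_iff_ne_bot R).mpr hR1
    obtain ⟨n, hn, hcard⟩ := hR.nontrivial_iff_card.mp inferInstance
    obtain ⟨z, hz⟩ := exists_prime_orderOf_dvd_card' (G := ↥R) 2 (hcard ▸ dvd_pow_self 2 hn.ne')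
    refine jOf_le_iff.mpr fun A hA a ha => ?_
    by_cases ha1 : a = 1
    · rw [ha1]; exact one_mem _
    have hao : orderOf a = 2 := orderOf_eq_prime (hA.2.1.2 a ha) ha1
    have hzo : orderOf (z : G) = 2 := by rw [Subgroup.orderOf_coe, hz]
    obtain ⟨g, hg, he'⟩ := Cfsg.Agent.Involution.exists_conj_in hse hzo
      ((heq ▸ Subgroup.le_normalizer : R ≤ L) z.2) hao (hSL (hA.1 ha))
    rw [← he']
    exact (Subgroup.mem_normalizer_iff.mp (Cfsg.Agent.LargeSub.self_le_normalizer_pCoreOf L hg) _).mp (hRQ z.2)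
  obtain ⟨T, hT, hTS⟩ := exists_max_straddle_le S hSL hne
  by_cases hTeq : T = S
  · obtain ⟨N, hN, hTN, hNL⟩ := hT.1.2.2.2
    exact ⟨N, hN, hTeq ▸ hTN, hNL⟩
  exfalso
  have h : Straddle S L T := ⟨hyp, hNJ, hT⟩
  obtain ⟨K, hK, t, htS, htN, htU, p⟩ := h.exists_pair_of_not_sylow hTS hTeq
  set K₁ := K.map (MulAut.conj t).toMonoidHom with hK₁
  obtain ⟨hKT, hsylU, -, -⟩ := h.outside_data hK
  have hSU : (S : Subgroup G) ⊓ uMax T K = T :=
    eq_of_le_twoGroup hsylU (S.2.to_le inf_le_left) inf_le_right (le_inf hTS (le_sup_right.trans hKT))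
  have hSX : ∀ {X : Subgroup G}, Cfsg.IsTwoLocal X → K ⊔ T ≤ X → ∀ {s : G}, s ∈ (S : Subgroup G) → s ∈ X → s ∈ T := by
    intro X hX hle s hsS hsX
    rw [← hSU]
    exact ⟨hsS, h.le_uMax hK.1.1 hK.2.1 hX ((sup_le_sup_left (jOf_le T) K).trans hle) hsX⟩
  obtain ⟨hD, hQe, hQc, hT4⟩ := p.small
  obtain ⟨-, hQ₁e, hQ₁c, -⟩ := p.symm.small
  obtain ⟨a, ha, b, hb, hab⟩ := p.exists_noncomm
  set Q := Cfsg.pCoreOf 2 (K ⊔ T) with hQ
  set Q₁ := Cfsg.pCoreOf 2 (K₁ ⊔ T) with hQ₁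
  set Z := Cfsg.omegaCenterOf (Cfsg.thompsonSubgroupOf 2 T) with hZ
  have hmapQ : Q.map (MulAut.conj t).toMonoidHom = Q₁ := by
    rw [hQ, hQ₁, ← pCoreOf_conj, Subgroup.map_sup, map_conj_eq_self htN]
  have hQT : Q ≤ T := p.left.q_le_T
  have hQ₁T : Q₁ ≤ T := p.right.q_le_T
  obtain ⟨w, hw, hw1, hwz, -, -⟩ := p.left.exists_w
  have hQ1 : Q ≠ ⊥ := fun e => hw1 (Subgroup.mem_bot.mp (e ▸ p.left.w_le_q hw))
  have hNQ : ∀ {s : G}, s ∈ (S : Subgroup G) → Q.map (MulAut.conj s).toMonoidHom = Q → s ∈ T := fun hsS e =>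
    hSX ⟨Q, p.left.twoGroup.to_le hQT, hQ1, rfl⟩ (Cfsg.Agent.LargeSub.self_le_normalizer_pCoreOf _) hsS
      (Subgroup.mem_normalizer_iff_map_conj_eq.mpr e)
  have hEle : ∀ {E : Subgroup G}, E ≤ T → Cfsg.IsElementaryAbelian 2 E → E ≤ Q ∨ E ≤ Q₁ := by
    intro E hET hE
    by_contra hn
    simp only [not_or] at hn
    obtain ⟨e₁, he₁, he₁'⟩ := SetLike.not_le_iff_exists.mp hn.1
    obtain ⟨e₂, he₂, he₂'⟩ := SetLike.not_le_iff_exists.mp hn.2
    have hor : ∀ {e : G}, e ∈ E → e ∈ Q ∨ e ∈ Q₁ := fun he =>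
      p.involution_mem ha hb hab (hET he) (elem_mul_self hE he)
    have he₁Q₁ := (hor he₁).resolve_left he₁'
    have he₂Q := (hor he₂).resolve_right he₂'
    rcases hor (mul_mem he₁ he₂) with e | e
    · exact he₁' (by simpa using mul_mem e (inv_mem he₂Q))
    · exact he₂' (by simpa [← mul_assoc] using mul_mem (inv_mem he₁Q₁) e)
  have hcardQ₁ : Nat.card Q₁ = Nat.card Q := hQ₁c.trans hQc.symm
  have hmaxT : ∀ {E : Subgroup G}, E ≤ T → Cfsg.IsElementaryAbelian 2 E → Nat.card E ≤ Nat.card Q := by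
    intro E hET hE
    rcases hEle hET hE with e | e
    · exact Subgroup.card_le_of_le e
    · exact (Subgroup.card_le_of_le e).trans hcardQ₁.le
  have hJT : Cfsg.thompsonSubgroupOf 2 T = T := by
    have h1 : Q ⊔ Q₁ ≤ Cfsg.thompsonSubgroupOf 2 T :=
      sup_le (le_jOf (mem_maxElem.mpr ⟨hQT, hQe, fun B hB hBe => hmaxT hB hBe⟩))
        (le_jOf (mem_maxElem.mpr ⟨hQ₁T, hQ₁e, fun B hB hBe => (hmaxT hB hBe).trans hcardQ₁.ge⟩))
    refine le_antisymm (jOf_le T) (le_trans ?_ h1)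
    refine (Subgroup.eq_of_le_of_card_ge (sup_le hQT hQ₁T) ?_).ge
    obtain ⟨k, hk⟩ := Subgroup.card_dvd_of_le (le_sup_left : Q ≤ Q ⊔ Q₁)
    have hpos : 0 < Nat.card ↥(Q ⊔ Q₁) := Nat.card_pos
    have hk1 : k ≠ 1 := fun e => p.q_ne (Subgroup.eq_of_le_of_card_ge
      (le_sup_right.trans (Subgroup.eq_of_le_of_card_ge (le_sup_left : Q ≤ Q ⊔ Q₁)
        (by rw [hk, e, mul_one])).ge) hcardQ₁.ge).symm
    have hk2 : 2 ≤ k := by
      rcases k with - | - | k
      · rw [hk, mul_zero] at hpos; omega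
      · exact absurd rfl hk1
      · omega
    calc Nat.card T = Nat.card Q * 2 := by omega
      _ ≤ Nat.card ↥(Q ⊔ Q₁) := hk ▸ Nat.mul_le_mul_left _ hk2
  have hs := hyp.setup hL.1 (sylow_isSylowTwoIn_of_le S hSL) hJ
  set V := vOf (S : Subgroup G) L with hV
  have hVS : V ≤ S := hs.vOf_le_jOf.trans (jOf_le _)
  set S₁ := (S : Subgroup G) ⊓ Subgroup.normalizer (T : Set G) with hS₁
  have hTS₁ : T ≤ S₁ := le_inf hTS Subgroup.le_normalizer
  by_cases hcase : ∀ E ∈ maxElem S₁, E ≤ T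
  · -- `J(S) = T`
    have hJle : Cfsg.thompsonSubgroupOf 2 S₁ ≤ T := jOf_le_iff.mpr hcase
    have hJeq : Cfsg.thompsonSubgroupOf 2 S₁ = T := by rw [← jOf_eq_of_between hJle hTS₁, hJT]
    have hS₁S : S₁ = S := Cfsg.Agent.Isolated.eq_of_normalizer_le S.2 inf_le_left fun g hg hgN => by
      refine ⟨hg, Subgroup.mem_normalizer_iff_map_conj_eq.mpr ?_⟩
      show T.map (MulAut.conj g).toMonoidHom = T
      conv_lhs => rw [← hJeq]
      rw [← jOf_conj, map_conj_eq_self hgN, hJeq]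
    rw [hS₁S] at hJeq
    have hVT : V ≤ T := hs.vOf_le_jOf.trans hJeq.le
    have hVQ : V ≤ Q ⊓ Q₁ := by
      have hVt : V.map (MulAut.conj t).toMonoidHom = V := map_eq_vOf (hSL htS)
      rcases hEle hVT hs.vOf_elementary with e | e
      · exact le_inf e (hVt ▸ hmapQ ▸ Subgroup.map_mono e)
      · have hVt' : V.map (MulAut.conj t⁻¹).toMonoidHom = V := map_eq_vOf (inv_mem (hSL htS))
        refine le_inf ?_ e
        have hh := Subgroup.map_mono (f := (MulAut.conj t⁻¹).toMonoidHom) e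
        rwa [hVt', ← hmapQ, map_map_conj, inv_mul_cancel, map_conj_one] at hh
    refine hs.not_jOf_le_cent fun j hj => Subgroup.mem_centralizer_iff.mpr fun v hv => ?_
    rw [hJeq] at hj
    exact (p.z0_central hj (hD.le (hVQ hv))).symm
  push Not at hcase
  obtain ⟨E, hE, hET⟩ := hcase
  obtain ⟨e, heE, heT⟩ := SetLike.not_le_iff_exists.mp hET
  have hswap : ∀ {s : G}, s ∈ S₁ → s ∉ T →
      Q.map (MulAut.conj s).toMonoidHom = Q₁ ∧ Q₁.map (MulAut.conj s).toMonoidHom = Q := by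
    intro s hs hsT
    have hTs : T.map (MulAut.conj s).toMonoidHom = T := map_conj_eq_self hs.2
    have hor : ∀ {A : Subgroup G}, A ≤ T → Cfsg.IsElementaryAbelian 2 A → Nat.card A = Nat.card Q →
        A.map (MulAut.conj s).toMonoidHom = Q ∨ A.map (MulAut.conj s).toMonoidHom = Q₁ := by
      intro A hA hAe hAc
      have hc : Nat.card ↥(A.map (MulAut.conj s).toMonoidHom) = Nat.card Q :=
        (Subgroup.card_map_of_injective (MulAut.conj s).injective).trans hAc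
      rcases hEle ((Subgroup.map_mono hA).trans hTs.le) (elemAb_map (MulAut.conj s).toMonoidHom hAe) with h | h
      · exact Or.inl (Subgroup.eq_of_le_of_card_ge h hc.ge)
      · exact Or.inr (Subgroup.eq_of_le_of_card_ge h (hcardQ₁.trans hc.symm).le)
    have h1 := (hor hQT hQe rfl).resolve_left fun e => hsT (hNQ hs.1 e)
    refine ⟨h1, (hor hQ₁T hQ₁e hcardQ₁).resolve_right fun e => p.q_ne ?_⟩
    exact Subgroup.map_injective (MulAut.conj s).injective (h1.trans e.symm)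
  have hES₁ := hE.1
  have hEc : Nat.card E = 2 * Nat.card ↥(E ⊓ T) := by
    refine card_eq_two_mul inf_le_left heE (fun h => heT h.2) fun g hg => ?_
    by_cases hgT : g ∈ T
    · exact Or.inl ⟨hg, hgT⟩
    · refine Or.inr ⟨mul_mem hg heE, hNQ (mul_mem (hES₁ hg).1 (hES₁ heE).1) ?_⟩
      rw [← map_map_conj, (hswap (hES₁ heE) heT).1, (hswap (hES₁ hg) hgT).2]
  have hEZ : E ⊓ T ≤ Z := fun x hx => by
    rw [← hD]
    have hfix : e * x * e⁻¹ = x := mul_inv_eq_iff_eq_mul.mpr (elem_comm hE.2.1 heE hx.1)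
    rcases p.involution_mem ha hb hab hx.2 (elem_mul_self hE.2.1 hx.1) with h | h
    · exact ⟨h, (hswap (hES₁ heE) heT).1 ▸ hfix ▸ conj_mem_map h⟩
    · exact ⟨(hswap (hES₁ heE) heT).2 ▸ hfix ▸ conj_mem_map h, h⟩
  have hEQ : Nat.card Q ≤ Nat.card E := hE.2.2 Q (hQT.trans hTS₁) hQe
  have hEZeq : E ⊓ T = Z := Subgroup.eq_of_le_of_card_ge hEZ (by omega)
  have hzc : zc T K = ⊥ := by
    refine (Subgroup.eq_bot_iff_forall _).mpr fun c hc => ?_
    by_contra hc1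
    obtain ⟨hloc, hle⟩ := p.cent_local hc hc1
    have hcE : c ∈ E ⊓ T := hEZeq.symm ▸ hc.1
    exact heT (hSX hloc hle (hES₁ heE).1
      (Subgroup.mem_centralizer_singleton_iff.mpr (elem_comm hE.2.1 heE hcE.1)))
  have hZ2 : Nat.card Z = 2 := by
    rw [hZ, p.left.card_z0, hzc, Subgroup.card_bot]
  have hWQ : Cfsg.wOf K = Q := Subgroup.eq_of_le_of_card_ge p.left.w_le_q (by rw [p.left.comp.2.2.2.2.1]; omega)
  have hWQ₁ : Cfsg.wOf K₁ = Q₁ := Subgroup.eq_of_le_of_card_ge p.right.w_le_q (by rw [p.right.comp.2.2.2.2.1]; omega)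
  have hNW : ∀ {s : G}, s ∈ (S : Subgroup G) → s ∈ Subgroup.normalizer (Cfsg.wOf K : Set G) → s ∈ T := fun hsS hn =>
    hNQ hsS (map_conj_eq_self (hWQ ▸ hn))
  have hcQ : ∀ {s : G}, s ∈ (S : Subgroup G) → (∀ v ∈ Cfsg.wOf K, v * s = s * v) → s ∈ Q := fun hsS hc =>
    p.left.mem_q.mpr ⟨hNW hsS (Subgroup.centralizer_le_normalizer _ (Subgroup.mem_centralizer_iff.mpr hc)), hc⟩
  obtain ⟨hwV, hwS⟩ : w ∈ V ∧ ∀ s ∈ (S : Subgroup G), s * w = w * s := by
    have : Nontrivial ↥(S : Subgroup G) := ⟨⟨w, hTS (p.left.w_le_T hw)⟩, 1, fun e => hw1 (congrArg Subtype.val e)⟩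
    have : Nontrivial (Subgroup.center ↥(S : Subgroup G)) := S.2.center_nontrivial
    obtain ⟨n, hn, hcard⟩ := (S.2.to_subgroup (Subgroup.center ↥(S : Subgroup G))).nontrivial_iff_card.mp inferInstance
    obtain ⟨z, hz⟩ := exists_prime_orderOf_dvd_card' (G := ↥(Subgroup.center ↥(S : Subgroup G))) 2
      (hcard ▸ dvd_pow_self 2 hn.ne')
    have hzc : ∀ s ∈ (S : Subgroup G), s * (z : G) = (z : G) * s := fun s hs =>
      congrArg Subtype.val (Subgroup.mem_center_iff.1 z.2 ⟨s, hs⟩)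
    have hzo : orderOf (z : G) = 2 := by rw [Subgroup.orderOf_coe, Subgroup.orderOf_coe, hz]
    have hz2 : (z : G) * z = 1 := by
      have := pow_orderOf_eq_one ((z : ↥(S : Subgroup G)) : G)
      rwa [hzo, pow_two] at this
    have hzQ := hcQ z.1.2 fun v hv => hzc v (hTS (p.left.w_le_T hv))
    have hzQ₁ : (z : G) ∈ Q₁ :=
      p.right.mem_q.mpr ⟨hQT hzQ, fun v hv => hzc v (hTS (p.right.w_le_T hv))⟩
    have hzZ : (z : G) ∈ Z := hD.le ⟨hzQ, hzQ₁⟩
    have hzw : (z : G) = w := (eq_one_or_eq_of_card_le hZ2.le hwz hw1 hzZ).resolve_left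
      fun e => by rw [e, orderOf_one] at hzo; omega
    exact hzw ▸ ⟨omega_le_vOf _ _ (mem_omegaCenterOf.mpr ⟨z.1.2, hzc, hz2⟩), hzc⟩
  have hZw : ∀ {v : G}, v ∈ Z → v = 1 ∨ v = w := fun hv => eq_one_or_eq_of_card_le hZ2.le hwz hw1 hv
  have hLV : L = Subgroup.normalizer (V : Set G) := by
    refine (hL.2 _ ⟨V, elemAb_isPGroup hs.vOf_elementary, fun e => hw1 (Subgroup.mem_bot.mp (e ▸ hwV)), rfl⟩
      (vOf_normal _ _)).symm
  by_cases hx : ∃ x ∈ Cfsg.wOf K, x ∈ V ∧ x ∉ Z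
  · obtain ⟨x, hxW, hxV, hxZ⟩ := hx
    have hWV : Cfsg.wOf K ≤ V := fun v hv => by
      rcases p.left.w_gen hw hxW hw1 (fun e => hxZ (e ▸ one_mem _)) (fun e => hxZ (e ▸ hwz)) hv with e | e | e | e <;>
        rw [e]
      · exact one_mem _
      · exact hwV
      · exact hxV
      · exact mul_mem hwV hxV
    have hVW : V ≤ Cfsg.wOf K := fun v hv => hWQ.symm ▸
      hcQ (hVS hv) fun u hu => elem_comm hs.vOf_elementary (hWV hu) hv
    refine hK.2.1 ?_
    rw [hLV, le_antisymm hVW hWV]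
    exact le_normalizer_wOf K
  push Not at hx
  obtain ⟨x, hxW, -, hxZ⟩ := p.left.exists_moved
  have hxx : x * x = 1 := p.left.w_sq hxW
  have hVT : V ≤ T := fun v hv => by
    refine hNW (hVS hv) ?_
    have hxv : x * v * x⁻¹ ∈ V :=
      (Subgroup.mem_normalizer_iff.mp (vOf_normal _ _ (hSL (hTS (p.left.w_le_T hxW)))) v).mp hv
    set c := x * v * x⁻¹ * v⁻¹ with hc
    have hcV : c ∈ V := mul_mem hxv (inv_mem hv)
    have hcx : c * x = x * c := by
      have hxi : x⁻¹ = x := inv_eq_of_mul_eq_one_right hxx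
      have hvi : v⁻¹ = v := inv_eq_of_mul_eq_one_right (elem_mul_self hs.vOf_elementary hv)
      have hcomm : x * v * x * v = v * (x * v * x) := by
        have := elem_comm hs.vOf_elementary hxv hv
        rwa [hxi] at this
      rw [hc, hxi, hvi]
      calc x * v * x * v * x = v * (x * v * x) * x := by rw [hcomm]
        _ = v * x * v := by simp [mul_assoc, hxx]
        _ = x * (x * v * x * v) := by simp only [← mul_assoc, hxx, one_mul]
    have hcw : ∀ u ∈ Cfsg.wOf K, u * c = c * u := fun u hu => by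
      rcases p.left.w_gen hw hxW hw1 (fun e => hxZ (e ▸ one_mem _)) (fun e => hxZ (e ▸ hwz)) hu with e | e | e | e <;>
        rw [e]
      · simp
      · exact elem_comm hs.vOf_elementary hwV hcV
      · exact hcx.symm
      · exact ((show Commute w c from elem_comm hs.vOf_elementary hwV hcV).mul_left hcx.symm).eq
    have hcW : c ∈ Cfsg.wOf K := hWQ.symm ▸ hcQ (hVS hcV) hcw
    have hxv' : v * x * v⁻¹ ∈ Cfsg.wOf K := by
      rw [show v * x * v⁻¹ = ((x⁻¹) * c)⁻¹ by rw [hc]; group]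
      exact inv_mem (mul_mem (inv_mem hxW) hcW)
    refine map_conj_mem_normalizer_iff fun u hu => ?_
    have hwv : v * w * v⁻¹ = w := mul_inv_eq_iff_eq_mul.mpr (elem_comm hs.vOf_elementary hv hwV)
    rcases p.left.w_gen hw hxW hw1 (fun e => hxZ (e ▸ one_mem _)) (fun e => hxZ (e ▸ hwz)) hu with e | e | e | e <;>
      rw [e]
    · simp
    · rw [hwv]; exact hw
    · exact hxv'
    · rw [← conj_mul, hwv]; exact mul_mem hw hxv'
  have hVZ : ¬ V ≤ Z := fun hle => by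
    refine hs.not_jOf_le_cent fun j hj => Subgroup.mem_centralizer_iff.mpr fun v hv => ?_
    rcases hZw (hle hv) with rfl | rfl
    · simp
    · exact (hwS j (jOf_le _ hj)).symm
  rcases hEle hVT hs.vOf_elementary with e' | e'
  · exact hVZ fun v hv => hx v (hWQ ▸ e' hv) hv
  · obtain ⟨k, hk⟩ := Subgroup.card_dvd_of_le e'
    have hVc : Nat.card Q₁ ≤ Nat.card V := by
      have hlt : Nat.card Z < Nat.card V := by
        refine lt_of_le_of_ne (Subgroup.card_le_of_le fun v hv => ?_) fun e =>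
          hVZ (Subgroup.eq_of_le_of_card_ge (fun v hv => ?_) e.ge).ge
        all_goals rcases hZw hv with rfl | rfl
        all_goals first | exact one_mem _ | exact hwV
      have : k = 1 := by
        rcases k with - | - | k
        · rw [mul_zero] at hk; have : 0 < Nat.card Q₁ := Nat.card_pos; omega
        · rfl
        · exfalso; rw [hk] at hcardQ₁; nlinarith
      rw [hk, this, mul_one]
    have hVQ₁ := Subgroup.eq_of_le_of_card_ge e' hVc
    have hK₁L : K₁ ≤ L := by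
      rw [hLV, hVQ₁, ← hWQ₁]
      exact le_normalizer_wOf K₁
    exact hK.2.1 fun k hk => by
      have := mul_mem (mul_mem (inv_mem (hSL htS)) (hK₁L (conj_mem_map hk))) (hSL htS)
      simpa [mul_assoc] using this

end Cfsg.Agent.JComp
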