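import Cfsg.Agent.Lib.Coprime.Generation
import Cfsg.Agent.Lib.Cores.Fitting
import Cfsg.Agent.Lib.Frobenius.Complement

/-!
Groups acting faithfully on an elementary abelian 2-group, with odd self-centralising Fitting subgroup.

* `dd`, `moved`, `fixedSub`: the map `v ↦ v^x v`, its image and fixed points
* `Good`: the standing hypotheses on `F`
* `offender_le`, `offender_gen`: `|A| ≤ |V : C_V(A)|`; in case of equality `A` is generated by transvections
* `Factor`, `exists_factor`: each transvection inverts a unique central subgroup of order 3 of `F`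
* `Owns.*`: commutation of transvections and factors
* `eSub`, `nSub`, `nSub_sq`, `nSub_commutator`
-/

set_option autoImplicit false

namespace Cfsg.Agent.JComp

open scoped commutatorElement

variable {X V : Type*} [Group X] [Group V] [MulDistribMulAction X V]

/-- `V` has exponent at most two. -/
def Exp2 (V : Type*) [Group V] : Prop := ∀ v : V, v * v = 1

theorem Exp2.comm (hV : Exp2 V) (a b : V) : a * b = b * a := by
  have inv : ∀ c : V, c⁻¹ = c := fun c => inv_eq_of_mul_eq_one_right (hV c)
  have h := inv (a * b)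
  rw [mul_inv_rev, inv a, inv b] at h
  exact h.symm

theorem Exp2.mul_self_mul (hV : Exp2 V) (a b : V) : a * (a * b) = b := by
  rw [← mul_assoc, hV a, one_mul]

theorem Exp2.mul_mul_self (hV : Exp2 V) (a b : V) : a * b * b = a := by
  rw [mul_assoc, hV b, mul_one]

/-- The fixed points of a set. -/
def fixedSub (S : Set X) : Subgroup V where
  carrier := {v | ∀ a ∈ S, a • v = v}
  one_mem' := fun a _ => smul_one a
  mul_mem' := fun {u v} hu hv a ha => by rw [smul_mul', hu a ha, hv a ha]
  inv_mem' := fun {u} hu a ha => by rw [smul_inv', hu a ha]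

theorem mem_fixedSub {S : Set X} {v : V} : v ∈ fixedSub S ↔ ∀ a ∈ S, a • v = v := Iff.rfl

theorem mem_fixedSub_singleton {x : X} {v : V} : v ∈ fixedSub ({x} : Set X) ↔ x • v = v := by
  simp [mem_fixedSub]

/-- `v ↦ x(v) v`. -/
def dd (hV : Exp2 V) (x : X) : V →* V where
  toFun v := x • v * v
  map_one' := by simp [smul_one]
  map_mul' := fun u v => by
    rw [smul_mul', mul_assoc, mul_assoc, ← mul_assoc (x • v) u v, hV.comm (x • v) u, mul_assoc]

/-- The image of `v ↦ x(v) v`. -/
def moved (hV : Exp2 V) (x : X) : Subgroup V := (dd hV x).range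

variable (hV : Exp2 V)

theorem dd_apply (x : X) (v : V) : dd hV x v = x • v * v := rfl

theorem smul_eq_mul_dd (x : X) (v : V) : x • v = dd hV x v * v := by
  rw [dd_apply, hV.mul_mul_self]

theorem ker_dd (x : X) : (dd hV x).ker = fixedSub ({x} : Set X) := by
  ext v
  rw [MonoidHom.mem_ker, mem_fixedSub_singleton, dd_apply]
  constructor
  · intro h
    have := congrArg (· * v) h
    simpa [hV.mul_mul_self] using this
  · intro h
    rw [h, hV v]

theorem card_moved (x : X) : Nat.card (moved hV x) = (fixedSub ({x} : Set X) : Subgroup V).index := by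
  rw [moved, ← ker_dd hV, Subgroup.index_ker]

theorem dd_mem_moved (x : X) (v : V) : dd hV x v ∈ moved hV x := ⟨v, rfl⟩

theorem smul_dd {g x : X} (v : V) : g • dd hV x v = dd hV (g * x * g⁻¹) (g • v) := by
  rw [dd_apply, dd_apply, smul_mul', ← mul_smul, ← mul_smul, mul_assoc, inv_mul_cancel, mul_one]

theorem smul_mem_moved {g x : X} (h : g * x * g⁻¹ = x) {w : V} (hw : w ∈ moved hV x) :
    g • w ∈ moved hV x := by
  obtain ⟨v, rfl⟩ := hw
  exact ⟨g • v, by rw [smul_dd hV, h]⟩

theorem pow_smul_eq {x : X} {v w : V} (h : x • v = w * v) (hw : x • w = w) (n : ℕ) :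
    x ^ n • v = w ^ n * v := by
  induction n with
  | zero => simp
  | succ n ih => rw [pow_succ', mul_smul, ih, smul_mul', smul_pow', hw, h, ← mul_assoc, ← pow_succ]

/-- An element of odd order which centralises `dd x v` fixes `v`. -/
theorem eq_one_of_fixed_dd {x : X} (hx : Odd (orderOf x)) {v : V}
    (h : x • dd hV x v = dd hV x v) : dd hV x v = 1 := by
  have := pow_smul_eq (smul_eq_mul_dd hV x v) h (orderOf x)
  rw [pow_orderOf_eq_one, one_smul] at this
  obtain ⟨k, hk⟩ := hx
  rw [hk, pow_succ, pow_mul, pow_two, hV, one_pow, one_mul] at this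
  have h2 := congrArg (· * v) this
  simp only [hV v, hV.mul_mul_self] at h2
  exact h2.symm

theorem eq_one_of_mem_moved_of_fixed {x : X} (hx : Odd (orderOf x)) {w : V} (hw : w ∈ moved hV x)
    (hf : x • w = w) : w = 1 := by
  obtain ⟨v, rfl⟩ := hw
  exact eq_one_of_fixed_dd hV hx hf

/-- With `x` of odd order, `V` is the product of `moved x` and the fixed points of `x`. -/
theorem exists_decomp [Finite V] {x : X} (hx : Odd (orderOf x)) (v : V) :
    ∃ w ∈ moved hV x, ∃ u ∈ (fixedSub ({x} : Set X) : Subgroup V), v = w * u := by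
  have hmaps : ∀ w : moved hV x, dd hV x (w : V) ∈ moved hV x := fun w => dd_mem_moved hV x _
  let f : moved hV x → moved hV x := fun w => ⟨dd hV x w, hmaps w⟩
  have hinj : Function.Injective f := by
    intro a b h
    have h' : dd hV x a = dd hV x b := congrArg Subtype.val h
    have hm : (a : V) * (b : V)⁻¹ ∈ moved hV x := mul_mem a.2 (inv_mem b.2)
    have h1 : (a : V) * (b : V)⁻¹ ∈ (dd hV x).ker := by
      rw [MonoidHom.mem_ker, map_mul, map_inv, h', mul_inv_cancel]
    rw [ker_dd, mem_fixedSub_singleton] at h1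
    exact Subtype.ext (mul_inv_eq_one.mp (eq_one_of_mem_moved_of_fixed hV hx hm h1))
  obtain ⟨w, hw⟩ := (Finite.injective_iff_surjective.mp hinj) ⟨dd hV x v, dd_mem_moved hV x v⟩
  refine ⟨w, w.2, (w : V) * v, ?_, (hV.mul_self_mul _ _).symm⟩
  rw [← ker_dd hV, MonoidHom.mem_ker, map_mul, show dd hV x (w : V) = dd hV x v from congrArg Subtype.val hw,
    hV]

/-- An element of odd order trivial on a subgroup and on the quotient by it is trivial. -/
theorem eq_one_of_stab [FaithfulSMul X V] {p : X} (hp : Odd (orderOf p)) {W : Subgroup V}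
    (h1 : ∀ w ∈ W, p • w = w) (h2 : moved hV p ≤ W) : p = 1 := by
  refine eq_of_smul_eq_smul (α := V) fun v => ?_
  rw [one_smul, smul_eq_mul_dd hV p v, eq_one_of_fixed_dd hV hp (h1 _ (h2 (dd_mem_moved hV p v))),
    one_mul]

/-- A transvection. -/
def IsTransv (t : X) : Prop := t * t = 1 ∧ Nat.card (moved hV t) = 2

theorem IsTransv.conj [Finite V] {t : X} (ht : IsTransv hV t) (g : X) : IsTransv hV (g * t * g⁻¹) := by
  refine ⟨?_, ?_⟩
  · have : g * t * g⁻¹ * (g * t * g⁻¹) = g * (t * t) * g⁻¹ := by group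
    rw [this, ht.1, mul_one, mul_inv_cancel]
  · rw [← ht.2]
    refine (Nat.card_congr (Equiv.ofBijective (fun w : moved hV t => (⟨g • (w : V), ?_⟩ :
      moved hV (g * t * g⁻¹))) ⟨?_, ?_⟩)).symm
    · obtain ⟨v, hv⟩ := w.2
      exact ⟨g • v, by rw [← hv, smul_dd]⟩
    · intro a b h
      exact Subtype.ext (MulAction.injective g (congrArg Subtype.val h))
    · rintro ⟨w, v, rfl⟩
      exact ⟨⟨_, dd_mem_moved hV t (g⁻¹ • v)⟩, Subtype.ext (by
        show g • dd hV t (g⁻¹ • v) = _
        rw [smul_dd hV, smul_inv_smul])⟩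

theorem IsTransv.dd_eq [Finite V] {t : X} (ht : IsTransv hV t) {v₀ : V} (hv : v₀ ∈ moved hV t)
    (h0 : v₀ ≠ 1) {w : V} (hw : w ∈ moved hV t) : w = 1 ∨ w = v₀ := by
  by_contra h
  simp only [not_or] at h
  have h3 : Function.Injective ![(⟨1, one_mem _⟩ : moved hV t), ⟨v₀, hv⟩, ⟨w, hw⟩] := by
    intro i j hij
    fin_cases i <;> fin_cases j <;> simp_all [Subtype.ext_iff, eq_comm]
  have := Nat.card_le_card_of_injective _ h3
  rw [ht.2, Nat.card_fin] at this
  omega

variable [Finite X] [Finite V] [FaithfulSMul X V]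

/-- The standing hypotheses: `F` is a normal nilpotent subgroup of odd order containing its centralizer. -/
structure Good (F : Subgroup X) : Prop where
  normal : ∀ g : X, ∀ f ∈ F, g * f * g⁻¹ ∈ F
  odd : Odd (Nat.card F)
  nilp : Group.IsNilpotent F
  cent : Subgroup.centralizer (F : Set X) ≤ F

theorem Good.odd_orderOf {F : Subgroup X} (hF : Good F) {f : X} (hf : f ∈ F) : Odd (orderOf f) :=
  hF.odd.of_dvd_nat (F.orderOf_dvd_natCard hf)

theorem Good.eq_one_of_sq {F : Subgroup X} (hF : Good F) {f : X} (hf : f ∈ F) (h : f * f = 1) :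
    f = 1 := by
  obtain ⟨k, hk⟩ := hF.odd_orderOf hf
  have := pow_orderOf_eq_one f
  rwa [hk, pow_succ, pow_mul, pow_two, h, one_pow, one_mul] at this

/-- An elementary abelian 2-group of operators. -/
def ElemTwo (A : Subgroup X) : Prop := (∀ a ∈ A, a * a = 1) ∧ ∀ a ∈ A, ∀ b ∈ A, a * b = b * a

omit [Finite X] [Finite V] [FaithfulSMul X V] in
theorem ElemTwo.mono {A B : Subgroup X} (hA : ElemTwo A) (h : B ≤ A) : ElemTwo B :=
  ⟨fun a ha => hA.1 a (h ha), fun a ha b hb => hA.2 a (h ha) b (h hb)⟩

include hV in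
/-- An element of odd order commuting with a 2-group `B` and fixing `C_V(B)` is trivial. -/
theorem fix_le_of_commute {c : X} (hc : Odd (orderOf c)) {B : Subgroup X} (hB : ElemTwo B)
    (hcB : ∀ b ∈ B, c * b = b * c) (hfix : ∀ v ∈ (fixedSub (B : Set X) : Subgroup V), c • v = v) :
    c = 1 := by
  have key : ∀ n, ∀ S : Subgroup X, Nat.card B ≤ Nat.card S + n → S ≤ B →
      ∀ v ∈ (fixedSub (S : Set X) : Subgroup V), c • v = v := by
    intro n
    induction n with
    | zero =>
      intro S hn hS
      rw [Subgroup.eq_of_le_of_card_ge hS (by omega)]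
      exact hfix
    | succ n ih =>
      intro S hn hS v hv
      by_cases hSB : S = B
      · rw [hSB] at hv
        exact hfix v hv
      obtain ⟨b, hb, hbS⟩ := SetLike.exists_of_lt (lt_of_le_of_ne hS hSB)
      have hS' : S ⊔ Subgroup.zpowers b ≤ B := sup_le hS (Subgroup.zpowers_le.mpr hb)
      have hlt : Nat.card S < Nat.card ↥(S ⊔ Subgroup.zpowers b) := by
        by_contra hle
        exact hbS (Subgroup.eq_of_le_of_card_ge le_sup_left (Nat.le_of_not_lt hle) ▸
          Subgroup.mem_sup_right (Subgroup.mem_zpowers b))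
      have hu : dd hV b v ∈ (fixedSub ((S ⊔ Subgroup.zpowers b : Subgroup X) : Set X) : Subgroup V) := by
        intro a ha
        have haB := hS' ha
        have hle : S ⊔ Subgroup.zpowers b ≤
            MulAction.stabilizer X (dd hV b v) := by
          refine sup_le (fun s hs => ?_) (Subgroup.zpowers_le.mpr ?_)
          · rw [MulAction.mem_stabilizer_iff, smul_dd hV, hv s hs, hB.2 s (hS hs) b hb,
              mul_inv_cancel_right]
          · rw [MulAction.mem_stabilizer_iff, dd_apply, smul_mul', ← mul_smul, hB.1 b hb, one_smul,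
              hV.comm]
        exact hle ha
      have hcu := ih _ (by omega) hS' _ hu
      have hu2 : dd hV c v ∈ (fixedSub ((S ⊔ Subgroup.zpowers b : Subgroup X) : Set X) : Subgroup V) := by
        intro a ha
        have hle : S ⊔ Subgroup.zpowers b ≤ MulAction.stabilizer X (dd hV c v) := by
          refine sup_le (fun s hs => ?_) (Subgroup.zpowers_le.mpr ?_)
          · rw [MulAction.mem_stabilizer_iff, smul_dd hV, hv s hs, ← hcB s (hS hs),
              mul_inv_cancel_right]
          · rw [MulAction.mem_stabilizer_iff, smul_dd hV, ← hcB b hb, mul_inv_cancel_right]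
            -- `c` fixes `b(v) v`
            have h1 : dd hV c (b • v * v) = 1 := by
              rw [← dd_apply hV b, dd_apply hV c, hcu, hV]
            rw [map_mul, mul_eq_one_iff_eq_inv] at h1
            rw [h1, inv_eq_of_mul_eq_one_right (hV _)]
        exact hle ha
      have h3 := ih _ (by omega) hS' _ hu2
      have h4 := eq_one_of_fixed_dd hV hc h3
      rw [smul_eq_mul_dd hV c v, h4, one_mul]
  refine eq_of_smul_eq_smul (α := V) fun v => ?_
  rw [one_smul]
  exact key (Nat.card B) ⊥ (by omega) bot_le v (fun a ha => by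
    rw [SetLike.mem_coe, Subgroup.mem_bot] at ha
    rw [ha, one_smul])

section Offender

variable {F : Subgroup X} (hF : Good F)
include hF hV

theorem inf_cent_eq_bot {A : Subgroup X} (hA : ElemTwo A) :
    ∀ a ∈ A, (∀ f ∈ F, a * f = f * a) → a = 1 := fun a ha h =>
  hF.eq_one_of_sq (hF.cent fun f hf => (h f hf).symm) (hA.1 a ha)

/-- For `A ≠ 1`, some subgroup `B` of index 2 centralises an element of `F` moved by `A`;
either there are two such, or it is trivial. -/
theorem exists_hyperplane {A : Subgroup X} (hA : ElemTwo A) (hne : A ≠ ⊥) :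
    ∃ B, B ≤ A ∧ 2 * Nat.card B = Nat.card A ∧
      (∃ f ∈ F, (∀ b ∈ B, b * f = f * b) ∧ ∃ a ∈ A, a * f ≠ f * a) ∧
      (B = ⊥ ∨ ∃ B', B' ≤ A ∧ 2 * Nat.card B' = Nat.card A ∧ B' ≠ B ∧
        ∃ f ∈ F, (∀ b ∈ B', b * f = f * b) ∧ ∃ a ∈ A, a * f ≠ f * a) := by
  classical
  let P : Subgroup X → Prop := fun B => B ≤ A ∧ 2 * Nat.card B = Nat.card A ∧
      ∃ f ∈ F, (∀ b ∈ B, b * f = f * b) ∧ ∃ a ∈ A, a * f ≠ f * a
  haveI : IsMulCommutative A := ⟨⟨fun a b => Subtype.ext (hA.2 a a.2 b b.2)⟩⟩
  have hAF : A ≤ Subgroup.normalizer (F : Set X) := fun a _ => by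
    rw [Subgroup.mem_normalizer_iff]
    intro f
    refine ⟨fun hf => hF.normal a f hf, fun hf => ?_⟩
    simpa [mul_assoc] using hF.normal a⁻¹ _ hf
  have hcop : (Nat.card A).Coprime (Nat.card F) := by
    have hp : IsPGroup 2 A := fun a => ⟨1, Subtype.ext (by simp [sq, hA.1 a a.2])⟩
    obtain ⟨n, hn⟩ := IsPGroup.iff_card.mp hp
    rw [hn]
    exact Nat.Coprime.pow_left n (Nat.coprime_two_left.mpr hF.odd)
  -- the elements of `A` centralised with all hyperplanes form everything
  have hgen : ∀ S : Subgroup X, S ≤ A → (∀ B, B ≤ A → 2 * Nat.card B = Nat.card A →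
      (∀ f ∈ F, (∀ b ∈ B, b * f = f * b) → ∀ a ∈ S, a * f = f * a)) → S = ⊥ := by
    intro S hSA hS
    rw [eq_bot_iff]
    intro a ha
    refine Subgroup.mem_bot.mpr (inf_cent_eq_bot hV hF hA a (hSA ha) fun f hf => ?_)
    have hle : F ≤ Subgroup.centralizer ({a} : Set X) := by
      refine Cfsg.Agent.Coprime.le_of_cyclic_quotient hAF hcop fun B hB ⟨g, hg, hAg⟩ => ?_
      rintro f ⟨hf, hfB⟩
      rw [Subgroup.mem_centralizer_singleton_iff]
      replace hfB := Subgroup.mem_centralizer_iff.mp hfB
      by_cases hgB : g ∈ B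
      · exact (hfB a (hAg.trans (sup_le le_rfl (Subgroup.zpowers_le.mpr hgB)) (hSA ha))).symm
      refine (hS B hB ?_ f hf hfB a ha).symm
      have hAeq : A = Subgroup.zpowers g ⊔ B :=
        le_antisymm (hAg.trans (sup_comm _ _).le) (sup_le (Subgroup.zpowers_le.mpr hg) hB)
      have hz : Nat.card (Subgroup.zpowers g) = 2 := by
        rw [Nat.card_zpowers]
        exact orderOf_eq_prime (by rw [sq]; exact hA.1 g hg) (fun h => hgB (h ▸ one_mem B))
      have hdisj : Disjoint (Subgroup.zpowers g) B := by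
        rw [disjoint_iff, eq_bot_iff]
        rintro y ⟨hy, hyB⟩
        obtain ⟨k, rfl⟩ := Subgroup.mem_zpowers_iff.mp hy
        rcases Int.even_or_odd k with ⟨m, rfl⟩ | ⟨m, rfl⟩
        · rw [← two_mul, zpow_mul, zpow_two, hA.1 g hg, one_zpow]; exact one_mem _
        · exfalso
          rw [zpow_add, zpow_one, zpow_mul, zpow_two, hA.1 g hg, one_zpow, one_mul] at hyB
          exact hgB hyB
      have hcn : Subgroup.zpowers g ≤ Subgroup.normalizer (B : Set X) := by
        rw [Subgroup.zpowers_le, Subgroup.mem_normalizer_iff]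
        intro y
        refine ⟨fun hy => by rwa [hA.2 g hg y (hB hy), mul_inv_cancel_right], fun hy => ?_⟩
        have hyA : y ∈ A := by
          simpa [mul_assoc] using mul_mem (mul_mem (inv_mem hg) (hB hy)) hg
        rwa [hA.2 g hg y hyA, mul_inv_cancel_right] at hy
      rw [hAeq, Cfsg.Agent.Frobenius.card_sup_of_disjoint hcn hdisj, hz]
    exact (Subgroup.mem_centralizer_singleton_iff.mp (hle hf)).symm
  obtain ⟨B, hB⟩ : ∃ B, P B := by
    by_contra hno
    refine hne (hgen A le_rfl fun B hB hcard f hf hfB a ha => ?_)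
    by_contra h
    exact hno ⟨B, hB, hcard, f, hf, hfB, a, ha, h⟩
  refine ⟨B, hB.1, hB.2.1, hB.2.2, ?_⟩
  by_cases h2 : ∃ B', P B' ∧ B' ≠ B
  · obtain ⟨B', hB', hne'⟩ := h2
    exact Or.inr ⟨B', hB'.1, hB'.2.1, hne', hB'.2.2⟩
  · refine Or.inl (hgen B hB.1 fun B' hB' hcard f hf hfB' b hb => ?_)
    by_contra h
    by_cases hBB : B' = B
    · exact h (hfB' b (hBB ▸ hb))
    · exact h2 ⟨B', ⟨hB', hcard, f, hf, hfB', b, hB.1 hb, h⟩, hBB⟩

theorem two_mul_index_le {A B : Subgroup X} (hA : ElemTwo A) (hB : B ≤ A)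
    (h : ∃ f ∈ F, (∀ b ∈ B, b * f = f * b) ∧ ∃ a ∈ A, a * f ≠ f * a) :
    2 * (fixedSub (B : Set X) : Subgroup V).index ≤ (fixedSub (A : Set X) : Subgroup V).index := by
  have hle : (fixedSub (A : Set X) : Subgroup V) ≤ fixedSub (B : Set X) := fun v hv b hb => hv b (hB hb)
  obtain ⟨f, hf, hfB, a, ha, hne⟩ := h
  have h2 : 2 ≤ (fixedSub (A : Set X) : Subgroup V).relIndex (fixedSub (B : Set X)) := by
    by_contra hlt
    have h1 : (fixedSub (A : Set X) : Subgroup V).relIndex (fixedSub (B : Set X)) = 1 := by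
      have : ((fixedSub (A : Set X) : Subgroup V).subgroupOf (fixedSub (B : Set X))).index ≠ 0 :=
        Subgroup.index_ne_zero_of_finite
      change (fixedSub (A : Set X) : Subgroup V).relIndex (fixedSub (B : Set X)) ≠ 0 at this
      omega
    rw [Subgroup.relIndex_eq_one] at h1
    -- `a` fixes `C_V(B)` and so does `c`
    have hcF : a * f * a⁻¹ * f⁻¹ ∈ F := mul_mem (hF.normal a f hf) (inv_mem hf)
    have hcB : ∀ b ∈ B, (a * f * a⁻¹ * f⁻¹) * b = b * (a * f * a⁻¹ * f⁻¹) := by
      intro b hb
      have hba : Commute b a := hA.2 b (hB hb) a ha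
      have hbf : Commute b f := hfB b hb
      exact (((hba.mul_right hbf).mul_right hba.inv_right).mul_right hbf.inv_right).eq.symm
    have := fix_le_of_commute hV (hF.odd_orderOf hcF) (hA.mono hB) hcB fun v hv => by
      have hfv : ∀ g : X, (∀ b ∈ B, b * g = g * b) → ∀ u ∈ (fixedSub (B : Set X) : Subgroup V),
          g • u ∈ (fixedSub (B : Set X) : Subgroup V) := fun g hg u hu b hb => by
        rw [← mul_smul, hg b hb, mul_smul, hu b hb]
      have haf : ∀ u ∈ (fixedSub (B : Set X) : Subgroup V), a • u = u ∧ a⁻¹ • u = u := fun u hu =>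
        ⟨h1 hu a ha, h1 hu a⁻¹ (inv_mem ha)⟩
      have hf' : ∀ b ∈ B, b * f⁻¹ = f⁻¹ * b := fun b hb => (Commute.inv_right (hfB b hb)).eq
      have hv1 := hfv f⁻¹ hf' v hv
      rw [mul_smul, mul_smul, mul_smul, (haf _ hv1).2, smul_inv_smul, (haf v hv).1]
    exact hne (commutatorElement_eq_one_iff_mul_comm.mp (by rw [commutatorElement_def]; exact this))
  calc 2 * (fixedSub (B : Set X) : Subgroup V).index
      ≤ (fixedSub (A : Set X) : Subgroup V).relIndex (fixedSub (B : Set X)) *
          (fixedSub (B : Set X) : Subgroup V).index := Nat.mul_le_mul_right _ h2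
    _ = _ := Subgroup.relIndex_mul_index hle

theorem offender_le : ∀ A : Subgroup X, ElemTwo A →
    Nat.card A ≤ (fixedSub (A : Set X) : Subgroup V).index := by
  suffices h : ∀ n, ∀ A : Subgroup X, Nat.card A ≤ n → ElemTwo A →
      Nat.card A ≤ (fixedSub (A : Set X) : Subgroup V).index from fun A hA => h _ A le_rfl hA
  intro n
  induction n with
  | zero => intro A hn; have := Nat.card_pos (α := A); omega
  | succ n ih =>
    intro A hn hA
    by_cases hne : A = ⊥
    · rw [hne, Subgroup.card_bot]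
      exact Nat.one_le_iff_ne_zero.mpr Subgroup.index_ne_zero_of_finite
    obtain ⟨B, hB, hcard, hmoved, -⟩ := exists_hyperplane hV hF hA hne
    have h1 := two_mul_index_le hV hF hA hB hmoved
    have h2 := ih B (by have := Nat.card_pos (α := B); omega) (hA.mono hB)
    omega

/-- An offender is generated by transvections. -/
theorem offender_gen : ∀ A : Subgroup X, ElemTwo A →
    (fixedSub (A : Set X) : Subgroup V).index ≤ Nat.card A →
    A ≤ Subgroup.closure {t | t ∈ A ∧ IsTransv hV t} := by
  suffices h : ∀ n, ∀ A : Subgroup X, Nat.card A ≤ n → ElemTwo A →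
      (fixedSub (A : Set X) : Subgroup V).index ≤ Nat.card A →
      A ≤ Subgroup.closure {t | t ∈ A ∧ IsTransv hV t} from fun A hA => h _ A le_rfl hA
  intro n
  induction n with
  | zero => intro A hn; have := Nat.card_pos (α := A); omega
  | succ n ih =>
    intro A hn hA hoff
    by_cases hne : A = ⊥
    · simp [hne]
    obtain ⟨B, hB, hcard, hmoved, hcase⟩ := exists_hyperplane hV hF hA hne
    rcases hcase with hbot | ⟨B', hB', hcard', hne', hmoved'⟩
    · rw [hbot, Subgroup.card_bot] at hcard
      intro a ha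
      by_cases ha1 : a = 1
      · rw [ha1]; exact one_mem _
      refine Subgroup.subset_closure ⟨ha, hA.1 a ha, ?_⟩
      have hz : Subgroup.zpowers a = A := Subgroup.eq_of_le_of_card_ge (Subgroup.zpowers_le.mpr ha) (by
        rw [Nat.card_zpowers, orderOf_eq_prime (by rw [sq]; exact hA.1 a ha) ha1]; omega)
      have hfix : (fixedSub ({a} : Set X) : Subgroup V) = fixedSub (A : Set X) := by
        ext v
        rw [mem_fixedSub_singleton]
        refine ⟨fun h b hb => ?_, fun h => h a ha⟩
        have : A ≤ MulAction.stabilizer X v := hz ▸ Subgroup.zpowers_le.mpr h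
        exact this hb
      have hl := offender_le hV hF A hA
      rw [card_moved, hfix]; omega
    · have hsub : ∀ C, C ≤ A → 2 * Nat.card C = Nat.card A →
          (∃ f ∈ F, (∀ b ∈ C, b * f = f * b) ∧ ∃ a ∈ A, a * f ≠ f * a) →
          C ≤ Subgroup.closure {t | t ∈ A ∧ IsTransv hV t} := by
        intro C hC hCc hCm
        have h1 := two_mul_index_le hV hF hA hC hCm
        have h2 := offender_le hV hF C (hA.mono hC)
        refine (ih C (by have := Nat.card_pos (α := C); omega) (hA.mono hC) (by omega)).trans ?_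
        exact Subgroup.closure_mono fun t ht => ⟨hC ht.1, ht.2⟩
      refine le_trans ?_ (sup_le (hsub B hB hcard hmoved) (hsub B' hB' hcard' hmoved'))
      refine le_of_eq (Subgroup.eq_of_le_of_card_ge (sup_le hB hB') ?_).symm
      have hlt : Nat.card B < Nat.card ↥(B ⊔ B') := by
        by_contra hle
        have h1 := Subgroup.eq_of_le_of_card_ge (le_sup_left : B ≤ B ⊔ B') (Nat.le_of_not_lt hle)
        exact hne' (Subgroup.eq_of_le_of_card_ge (h1.symm ▸ le_sup_right) (by omega))
      obtain ⟨k, hk⟩ := Subgroup.card_dvd_of_le (le_sup_left : B ≤ B ⊔ B')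
      have hpos := Nat.card_pos (α := B)
      have hk2 : 2 ≤ k := by
        by_contra h
        interval_cases k <;> omega
      have := Nat.mul_le_mul_left (Nat.card B) hk2
      omega

end Offender

end Cfsg.Agent.JComp
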